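import Cfsg.Agent.Mrg.Omega.TwoF.LargeRk_m3
import Cfsg.Agent.Mrg.Omega.TwoF.E7Odd_mg_m3
import Cfsg.Agent.Mrg.Omega.TwoF.GTwoOut_mg
import Cfsg.Agent.OddHalf.D6.QThree.G23Out
import Cfsg.Agent.S1067
import Cfsg.Agent.Mrg.Omega.ML.InOf
import Cfsg.Agent.FixBN.ChevGood
import Cfsg.Agent.Mrg.Omega.ML.MinIrr
import Cfsg.Agent.Mrg.Omega.TwoF.RkPSU
import Cfsg.Agent.Omega.KFacts_m3
import Cfsg.Agent.S0280
import Cfsg.Agent.Mrg.Omega.NOThree.NoOver
import Cfsg.Agent.Lib.ElemAbGL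
import Cfsg.Agent.SporadicStructure.U43Herm
import Cfsg.Agent.SporadicStructure.PsuMatch
import Cfsg.Agent.S0292
import Cfsg.Agent.S0293
import Cfsg.Agent.S0294
import Cfsg.Agent.Lib.NodupNat
import Cfsg.Agent.FastGrp
import Cfsg.Agent.Prune
set_option linter.all false

section
prune_inst 0x7ff6ecf9afb8a9dedfff7e7faed8dffc39911fffe6dff94bbfe023ef0bdf03020bc56b8f09e010fe0ec2609410b87803fbffdeffea6bdc7ffffd5df41ffbee0fe5f7b508519488340fbc0ff703f0778e7f3fffffffffffffffffffffffffffbeffffffffffff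

-- part: Mrg/Omega/ML/OddExc
section
prune_inst 0x200000000000000000000000000000000000000000000000000000000000000000000000000000000000000000000000
set_option linter.all false
open scoped Cfsg.Agent.FastGrp

-- merged: Cfsg.Agent.Mrg.Omega.ML.RowGTwoThree
section

section


/-!
# (ML), the K-list end: the row `G₂(3)` (helper285)

Every involution of `G₂(3)` inverts an element of order 13, `2 ^ 12` is the order of the smallest nontrivial module for
it, `RK 4` and `|Out| ≤ 2` (#17288 of helper763).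
-/

set_option autoImplicit false

namespace Cfsg.Agent.Omega.ML.RowGTwoThree

open Subgroup Cfsg Cfsg.Lie
open Cfsg.Agent.Omega.ML.Rows Cfsg.Agent.Omega.ML.InvChain Cfsg.Agent.Omega.TwoF

universe u v

/-- `G₂(3)` -/
def IsGTwoThree (S : Type u) [Group S] : Prop :=
  ∃ (F : Type) (_ : Field F) (_ : Fintype F), Fintype.card F = 3 ∧ Nonempty (S ≃* ↥(chevG2.group F))

/-- `|Out(S)| ≤ 2` is invariant under isomorphisms. -/
theorem out_congr {S S' : Type*} [Group S] [Group S'] (e : S ≃* S') :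
    (MulAut.conj : S →* MulAut S).range.index = (MulAut.conj : S' →* MulAut S').range.index := by
  have h1 : ((MulAut.conj : S →* MulAut S).range).map (MulAut.congr e).toMonoidHom =
      (MulAut.conj : S' →* MulAut S').range := by
    ext φ
    constructor
    · rintro ⟨_, ⟨s, rfl⟩, rfl⟩
      refine ⟨e s, ?_⟩
      ext x
      show e s * x * (e s)⁻¹ = e (s * e.symm x * s⁻¹)
      rw [map_mul, map_mul, map_inv, MulEquiv.apply_symm_apply]
    · rintro ⟨s, rfl⟩
      refine ⟨_, ⟨e.symm s, rfl⟩, ?_⟩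
      ext x
      show e (e.symm s * e.symm x * (e.symm s)⁻¹) = s * x * s⁻¹
      rw [map_mul, map_mul, map_inv, MulEquiv.apply_symm_apply, MulEquiv.apply_symm_apply]
  rw [← h1]
  exact (Subgroup.index_map_equiv _ (MulAut.congr e)).symm

seal _root_.Nat.mod _root_.List.foldr in
theorem out {S : Type*} [Group S] {F : Type} [Field F] [Fintype F] (hF : Fintype.card F = 3)
    (e : S ≃* ↥(chevG2.group F)) : (MulAut.conj : S →* MulAut S).range.index < 8 := by
  have h3 : Fintype.card (ZMod 3) = Fintype.card F := by rw [hF]; rfl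
  let φ : ZMod 3 ≃+* F := FiniteField.ringEquivOfCardEq h3
  let f : S ≃* ↥(chevG2.group (ZMod 3)) := e.trans (ChevalleyStructure.FieldIso.groupEquiv chevG2 φ).symm
  rw [out_congr f]
  have h1 := OddHalf.D6.QThree.G23Out.out OddHalf.D6.QThree.G23Out.words2
  exact lt_of_le_of_lt (Nat.le_of_dvd two_pos h1) (by norm_num)

theorem invAt {S : Type*} [Group S] {F : Type} [Field F] [Fintype F] (hF : Fintype.card F = 3)
    (e : S ≃* ↥(chevG2.group F)) (x : S) (hx : x * x = 1) (hx1 : x ≠ 1) : InvAt x 4 := by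
  have h2 : orderOf x = 2 := orderOf_eq_prime (by rw [pow_two]; exact hx) hx1
  obtain ⟨g, hg⟩ := InvGTwoThree.exists_thirteen' F hF e x h2
  have hxi : x⁻¹ = x := inv_eq_of_mul_eq_one_right hx
  refine ⟨x * (g * x * g⁻¹), 12, Chain.base _ 12 (by rw [hg]; norm_num) (by rw [hg]; norm_num) ?_, ?_, by norm_num⟩
  · rw [hg]
    intro n hn hn'
    by_contra hlt
    have := InvFrob.ord_13 n hn
    interval_cases n <;> omega
  · rw [mul_inv_rev, mul_inv_rev, mul_inv_rev, inv_inv, hxi]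
    calc x * (x * (g * x * g⁻¹)) * x = (x * x) * (g * x * g⁻¹) * x := by group
      _ = _ := by rw [hx]; group

/-- **The row `G₂(3)`.** -/
theorem dead : Dead.{u, v} @IsGTwoThree.{u} := by
  refine InvRow.dead fun S _ _ hS => ⟨4, ?_⟩
  obtain ⟨F, _, _, hF, ⟨e⟩⟩ := hS
  have h3 : CharP F 3 := by
    obtain ⟨p, hpF⟩ := CharP.exists F
    obtain ⟨n, hp, hn⟩ := FiniteField.card F p
    rw [hF] at hn
    have h4 : p ∣ 3 := hn ▸ dvd_pow_self p n.pos.ne'
    rwa [← (Nat.prime_dvd_prime_iff_eq hp Nat.prime_three).1 h4]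
  refine ⟨?_, out hF e, invAt hF e⟩
  have hr := (RowGTwo.rk (F := F) (p := 3) Nat.prime_three (by norm_num)).2 fun σ => by
    apply Out.ringAut_eq_one
    rw [Nat.card_eq_fintype_card, hF]
    norm_num
  exact hr.equiv e

end Cfsg.Agent.Omega.ML.RowGTwoThree

end

section


/-!
# The Heisenberg bound with a torus

`X : F → E` additive (`F` a finite field of characteristic `p ≠ 2`), every nonzero functional `f` on `F` has dual
elements `x i, y i` (`i < n`) modulo `X (ker f)` (`Dual`), `T i ∈ E` (`i ∈ ι`) with `T i * X t * (T i)⁻¹ = X (c i * t)`,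
`c` injective with values in `F ∖ {0}`. Then `2 ^ (|ι| * p ^ n) ≤ |V|` for every finite abelian `2`-group `V` on
which `X F` acts nontrivially (`two_pow_le_dual`). For a configuration `FH` or `FHeis` with `h` pairs and the full
torus: `2 ^ ((|F| - 1) * |F| ^ h) ≤ |V|` (`FH.two_pow_le_torus`, `two_pow_le_torus`).

Method: `K = 𝔽_{2^d}` with `p`-th roots of unity, `W = K ⊗ V`, the weight spaces of `X F` in `W`.
-/

set_option autoImplicit false
set_option linter.dupNamespace false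
set_option linter.unusedSectionVars false
set_option linter.style.haveILetI false

universe u v w

namespace Cfsg.Agent.Omega.ML.TorusLB

open Finset Cfsg.Agent.Omega.Lie.Heis Cfsg.Agent.Omega.Lie.HeisF

variable {E : Type u} [Group E] {F : Type w} [Field F] {p : ℕ} [Fact p.Prime] [Algebra (ZMod p) F]

/-- Dual elements for the functional `f`. -/
def Dual (X : F → E) (n : ℕ) (f : F →ₗ[ZMod p] ZMod p) : Prop :=
  ∃ (x y : Fin n → E) (w : Fin n → Fin n → F),
    (∀ i, x i ^ p = 1) ∧ (∀ i t, X t * x i = x i * X t) ∧ (∀ i t, X t * y i = y i * X t) ∧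
    (∀ i j, x i * x j = x j * x i) ∧ (∀ i j, y i * x j * (y i)⁻¹ = x j * X (w i j)) ∧
    ∀ i j, f (w i j) = if i = j then 1 else 0

section weights

variable {K : Type*} [Field K] {W : Type*} [AddCommGroup W] [Module K W] (ρ : E →* (W →ₗ[K] W)) (X : F → E)
  (ψ : AddChar (ZMod p) K)

/-- The weight space of the functional `f`. -/
def Wt (f : F →ₗ[ZMod p] ZMod p) : Submodule K W where
  carrier := {v | ∀ t, ρ (X t) v = ψ (f t) • v}
  zero_mem' := fun t => by rw [map_zero, smul_zero]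
  add_mem' := fun {a b} ha hb t => by rw [map_add, ha t, hb t, smul_add]
  smul_mem' := fun c v hv t => by rw [map_smul, hv t, smul_comm]

variable {ρ X ψ}

theorem mem_Wt {f : F →ₗ[ZMod p] ZMod p} {v : W} : v ∈ Wt ρ X ψ f ↔ ∀ t, ρ (X t) v = ψ (f t) • v := Iff.rfl

variable (hX : ∀ t u, X (t + u) = X t * X u)

/-- Existence of a nontrivial weight. -/
theorem exists_wt [Finite F] (hX : ∀ t u, X (t + u) = X t * X u) (hψ : ψ.IsPrimitive) (hp : (p : K) ≠ 0)
    (hne : ∃ t, ρ (X t) ≠ 1) : ∃ f : F →ₗ[ZMod p] ZMod p, f ≠ 0 ∧ Wt ρ X ψ f ≠ ⊥ := by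
  classical
  letI : DistribMulAction E W :=
    { smul := fun g v => ρ g v
      one_smul := fun v => by
        show ρ 1 v = v
        rw [map_one]; rfl
      mul_smul := fun g k v => by
        show ρ (g * k) v = ρ g (ρ k v)
        rw [map_mul]; rfl
      smul_zero := fun g => map_zero (ρ g)
      smul_add := fun g v w => map_add (ρ g) v w }
  have hs : ∀ (g : E) (v : W), g • v = ρ g v := fun _ _ => rfl
  have ht : ∀ v : W, p • v = 0 → v = 0 := by
    intro v hv
    rw [← Nat.cast_smul_eq_nsmul K] at hv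
    exact (smul_eq_zero.1 hv).resolve_left hp
  have hne' : ∃ (t : F) (v : W), X t • v ≠ v := by
    obtain ⟨t, ht⟩ := hne
    by_contra hcon
    push Not at hcon
    apply ht
    ext v
    exact hcon t v
  obtain ⟨f, hf, v, hv, t₁, ht₁⟩ := exists_functional hX ht hne'
  obtain ⟨s, hs1⟩ : ∃ s, f s = 1 := by
    obtain ⟨s, hs⟩ : ∃ s, f s ≠ 0 := by
      by_contra hcon
      push Not at hcon
      exact hf (LinearMap.ext hcon)
    exact ⟨(f s)⁻¹ • s, by rw [map_smul, smul_eq_mul, inv_mul_cancel₀ hs]⟩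
  let P : ZMod p → W → W := fun a v => ∑ b : ZMod p, ψ (-(a * b)) • ρ (X (b • s)) v
  have hmulρ : ∀ (g k : E) (v : W), ρ g (ρ k v) = ρ (g * k) v := fun g k v => by rw [map_mul]; rfl
  have hP : ∀ a b' v, ρ (X (b' • s)) (P a v) = ψ (a * b') • P a v := by
    intro a b' v
    show ρ (X (b' • s)) (∑ b : ZMod p, ψ (-(a * b)) • ρ (X (b • s)) v) =
      ψ (a * b') • ∑ b : ZMod p, ψ (-(a * b)) • ρ (X (b • s)) v
    rw [map_sum, smul_sum]
    refine Fintype.sum_equiv (Equiv.addLeft b') _ _ fun b => ?_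
    rw [Equiv.coe_addLeft, map_smul, hmulρ, ← hX, ← add_smul, smul_smul, ← AddChar.map_add_eq_mul]
    congr 2
    ring
  have hsum : ∀ v, ∑ a : ZMod p, P a v = (p : K) • v := by
    intro v
    show ∑ a : ZMod p, ∑ b : ZMod p, ψ (-(a * b)) • ρ (X (b • s)) v = _
    rw [sum_comm]
    have h1 : ∀ b : ZMod p, ∑ a : ZMod p, ψ (-(a * b)) • ρ (X (b • s)) v = if b = 0 then (p : K) • v else 0 := by
      intro b
      rw [← sum_smul]
      have h2 : ∑ a : ZMod p, ψ (-(a * b)) = if b = 0 then (p : K) else 0 := by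
        have h3 := AddChar.sum_mulShift (-b) hψ
        simp only [neg_eq_zero, ZMod.card, Nat.cast_ite, Nat.cast_zero] at h3
        rw [← h3]
        exact sum_congr rfl fun a _ => by rw [mul_neg]
      rw [h2]
      split_ifs with hb
      · subst hb
        rw [zero_smul, X_zero hX, map_one]
        rfl
      · rw [zero_smul]
    rw [sum_congr rfl fun b _ => h1 b, sum_ite_eq' univ 0]
    simp only [_root_.Finset.mem_univ, ↓ _root_.reduceIte]
  obtain ⟨a, ha, haP⟩ : ∃ a, a ≠ 0 ∧ P a v ≠ 0 := by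
    by_contra hcon
    push Not at hcon
    have h1 : P 0 v = (p : K) • v := by
      rw [← hsum v, sum_eq_single 0 (fun b _ hb => hcon b hb) (fun h => absurd (mem_univ _) h)]
    have h2 : ∀ b' : ZMod p, ρ (X (b' • s)) v = v := by
      intro b'
      have h3 := hP 0 b' v
      rw [h1, map_smul, zero_mul, AddChar.map_zero_eq_one, one_smul] at h3
      exact smul_right_injective W hp h3
    apply ht₁
    have h4 : t₁ = f t₁ • s + (t₁ - f t₁ • s) := by abel
    rw [h4, hX, mul_smul, hv (t₁ - f t₁ • s) (by rw [map_sub, map_smul, hs1, smul_eq_mul, mul_one, sub_self]), hs, h2]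
  refine ⟨a • f, smul_ne_zero ha hf, ?_⟩
  intro hbot
  apply haP
  have hker : ∀ t, f t = 0 → ρ (X t) (P a v) = P a v := by
    intro t htf
    show ρ (X t) (∑ b : ZMod p, ψ (-(a * b)) • ρ (X (b • s)) v) = _
    rw [map_sum]
    refine sum_congr rfl fun b _ => ?_
    rw [map_smul, hmulρ, X_comm hX, ← hmulρ]
    congr 2
    exact hv t htf
  have hmem : P a v ∈ Wt ρ X ψ (a • f) := by
    intro t
    have h4 : t = f t • s + (t - f t • s) := by abel
    have h5 : ρ (X t) (P a v) = ρ (X (f t • s)) (ρ (X (t - f t • s)) (P a v)) := by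
      rw [hmulρ, ← hX, ← h4]
    rw [h5, hker _ (by rw [map_sub, map_smul, hs1, smul_eq_mul, mul_one, sub_self]), hP]
    rfl
  rw [hbot] at hmem
  exact (Submodule.mem_bot K).1 hmem

/-- Translation of weights by the torus. -/
theorem Wt_torus {f : F →ₗ[ZMod p] ZMod p} {c : F} {T : E} (hT : ∀ t, T * X t * T⁻¹ = X (c * t))
    (hf : Wt ρ X ψ f ≠ ⊥) : Wt ρ X ψ (f ∘ₗ LinearMap.mulLeft (ZMod p) c) ≠ ⊥ := by
  obtain ⟨v, hv, hv0⟩ := (Submodule.ne_bot_iff _).1 hf
  intro hbot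
  have hmulρ : ∀ (g k : E) (v : W), ρ g (ρ k v) = ρ (g * k) v := fun g k v => by rw [map_mul]; rfl
  have h1 : ρ T⁻¹ v ∈ Wt ρ X ψ (f ∘ₗ LinearMap.mulLeft (ZMod p) c) := by
    intro t
    have h2 : X t * T⁻¹ = T⁻¹ * X (c * t) := by rw [← hT]; group
    rw [hmulρ, h2, ← hmulρ, hv (c * t), map_smul]
    rfl
  rw [hbot, Submodule.mem_bot] at h1
  apply hv0
  have h3 : ρ T (ρ T⁻¹ v) = v := by rw [hmulρ, mul_inv_cancel, map_one]; rfl
  rw [← h3, h1, map_zero]

/-- Different functionals of the form `f (c t)`. -/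
theorem comp_inj {f : F →ₗ[ZMod p] ZMod p} (hf : f ≠ 0) {c c' : F}
    (h : f ∘ₗ LinearMap.mulLeft (ZMod p) c = f ∘ₗ LinearMap.mulLeft (ZMod p) c') : c = c' := by
  by_contra hcc
  apply hf
  ext t
  have h1 := DFunLike.congr_fun h ((c - c')⁻¹ * t)
  have h2 : f (c * ((c - c')⁻¹ * t)) = f (c' * ((c - c')⁻¹ * t)) := h1
  have h3 : c * ((c - c')⁻¹ * t) - c' * ((c - c')⁻¹ * t) = t := by
    rw [← sub_mul, ← mul_assoc, mul_inv_cancel₀ (sub_ne_zero.2 hcc), one_mul]
  rw [← h3, map_sub, h2, sub_self]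
  rfl

/-- Weight vectors of different weights are independent. -/
theorem sum_injective [Finite F] (hψ : ψ.IsPrimitive) (hp : (Nat.card F : K) ≠ 0) {ι : Type*} [Fintype ι]
    {f : ι → F →ₗ[ZMod p] ZMod p} (hf : Function.Injective f) :
    Function.Injective fun w : (∀ i, Wt ρ X ψ (f i)) => ∑ i, (w i : W) := by
  classical
  letI : Fintype F := Fintype.ofFinite F
  intro w w' hww
  funext j
  have key : ∀ w : (∀ i, Wt ρ X ψ (f i)), ∑ t : F, ψ (-(f j t)) • ρ (X t) (∑ i, (w i : W)) =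
      (Nat.card F : K) • (w j : W) := by
    intro w
    have h1 : ∀ i, ∑ t : F, ψ (-(f j t)) • ρ (X t) (w i : W) =
        if i = j then (Nat.card F : K) • (w j : W) else 0 := by
      intro i
      have h2 : ∀ t, ψ (-(f j t)) • ρ (X t) (w i : W) = ψ ((f i - f j) t) • (w i : W) := by
        intro t
        rw [mem_Wt.1 (w i).2 t, smul_smul, ← AddChar.map_add_eq_mul]
        congr 2
        rw [LinearMap.sub_apply]; abel
      rw [sum_congr rfl fun t _ => h2 t, ← sum_smul]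
      split_ifs with hij
      · subst hij
        simp only [Nat.card_eq_fintype_card, _root_.sub_self, _root_.LinearMap.zero_apply, _root_.AddChar.map_zero_eq_one, _root_.Finset.sum_const, _root_.Finset.card_univ, _root_.nsmul_eq_mul, _root_.mul_one, _root_.Nat.card_eq_fintype_card]
      · have h3 : f i - f j ≠ 0 := sub_ne_zero.2 fun h => hij (hf h)
        have h4 : (ψ.compAddMonoidHom (f i - f j).toAddMonoidHom) ≠ 1 := by
          intro h5
          obtain ⟨s, hs⟩ : ∃ s, (f i - f j) s ≠ 0 := by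
            by_contra hcon
            push Not at hcon
            exact h3 (LinearMap.ext hcon)
          have h6 : ∀ a : ZMod p, ψ a = 1 := by
            intro a
            have h7 := DFunLike.congr_fun h5 ((a * ((f i - f j) s)⁻¹) • s)
            have h8 : ψ ((f i - f j) ((a * ((f i - f j) s)⁻¹) • s)) = 1 := h7
            rwa [map_smul, smul_eq_mul, mul_assoc, inv_mul_cancel₀ hs, mul_one] at h8
          have h9 := hψ (a := 1) one_ne_zero
          apply h9
          ext a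
          simpa using h6 a
        have h5 : ∑ t, ψ ((f i - f j) t) = 0 := AddChar.sum_eq_zero_of_ne_one h4
        rw [h5, zero_smul]
    have h2 : ∑ t : F, ψ (-(f j t)) • ρ (X t) (∑ i, (w i : W)) =
        ∑ i, ∑ t : F, ψ (-(f j t)) • ρ (X t) (w i : W) := by
      rw [sum_comm]
      refine sum_congr rfl fun t _ => ?_
      rw [map_sum, smul_sum]
    rw [h2, sum_congr rfl fun i _ => h1 i, sum_ite_eq' univ j]
    simp only [_root_.Finset.mem_univ, ↓ _root_.reduceIte, _root_.Nat.card_eq_fintype_card]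
  have h1 := key w
  have hww' : ∑ i, (w i : W) = ∑ i, (w' i : W) := hww
  rw [hww', key w'] at h1
  exact (Subtype.ext (smul_right_injective W hp h1)).symm

/-- **The Heisenberg bound in a weight space.** -/
theorem le_finrank_Wt [Finite K] [Finite W] (hψ : ψ.IsPrimitive) (hp : (p : K) ≠ 0) (hK : (Nat.card K : ZMod p) ≠ 0)
    (hX : ∀ t u, X (t + u) = X t * X u)
    {n : ℕ} {f : F →ₗ[ZMod p] ZMod p} (hf : f ≠ 0) (hD : Dual X n f) (hW : Wt ρ X ψ f ≠ ⊥) :
    p ^ n ≤ Module.finrank K (Wt ρ X ψ f) := by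
  classical
  obtain ⟨x, y, w, hxr, hXx, hXy, hxx, hyx, hfw⟩ := hD
  have hmulρ : ∀ (g k : E) (v : W), ρ g (ρ k v) = ρ (g * k) v := fun g k v => by rw [map_mul]; rfl
  let N : Subgroup E := Subgroup.centralizer (Set.range X)
  have hmem : ∀ g : E, (∀ t, X t * g = g * X t) → g ∈ N := by
    intro g hg
    rw [Subgroup.mem_centralizer_iff]
    rintro _ ⟨t, rfl⟩
    exact hg t
  have hN : ∀ g ∈ N, ∀ v ∈ Wt ρ X ψ f, ρ g v ∈ Wt ρ X ψ f := by
    intro g hg v hv t
    have h1 := Subgroup.mem_centralizer_iff.1 hg (X t) ⟨t, rfl⟩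
    rw [hmulρ, h1, ← hmulρ, mem_Wt.1 hv t, map_smul]
  let σ : N →* (Wt ρ X ψ f →ₗ[K] Wt ρ X ψ f) :=
    { toFun := fun g => (ρ g).restrict (hN g g.2)
      map_one' := by
        ext v
        show ρ 1 (v : W) = v
        rw [map_one]; rfl
      map_mul' := fun g k => by
        ext v
        show ρ ((g : E) * k) (v : W) = ρ g (ρ k v)
        rw [hmulρ] }
  have hσ : ∀ (g : E) (hg : g ∈ N) (v : Wt ρ X ψ f), ((σ ⟨g, hg⟩ v : Wt ρ X ψ f) : W) = ρ g v := fun _ _ _ => rfl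
  let τ : N →* (Wt ρ X ψ f →ₗ[K] Wt ρ X ψ f)ˣ := σ.toHomUnits
  have hτ : ∀ g, ((τ g : (Wt ρ X ψ f →ₗ[K] Wt ρ X ψ f)ˣ) : Wt ρ X ψ f →ₗ[K] Wt ρ X ψ f) = σ g := fun g => rfl
  have hXN : ∀ t, X t ∈ N := fun t => hmem _ fun t' => X_comm hX t' t
  have hXt : ∀ t u, f t = f u → τ ⟨X t, hXN t⟩ = τ ⟨X u, hXN u⟩ := by
    intro t u htu
    apply Units.ext
    rw [hτ, hτ]
    ext v
    rw [hσ, hσ, mem_Wt.1 v.2 t, mem_Wt.1 v.2 u, htu]
  obtain ⟨s, hs⟩ : ∃ s, f s = 1 := by
    obtain ⟨s, hs⟩ : ∃ s, f s ≠ 0 := by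
      by_contra hcon
      push Not at hcon
      exact hf (LinearMap.ext hcon)
    exact ⟨(f s)⁻¹ • s, by rw [map_smul, smul_eq_mul, inv_mul_cancel₀ hs]⟩
  have hX0 : ∀ t, f t = 0 → τ ⟨X t, hXN t⟩ = 1 := by
    intro t ht
    rw [hXt t 0 (by rw [ht, map_zero]), ← map_one τ]
    congr 1
    exact Subtype.ext (X_zero hX)
  have hH : Heis p n (τ ⟨X s, hXN s⟩) (fun i => τ ⟨x i, hmem _ (hXx i)⟩) (fun i => τ ⟨y i, hmem _ (hXy i)⟩) := by
    refine ⟨Fact.out, ?_, fun i => ?_, fun i => ?_, fun i => ?_, fun i j => ?_, fun i j hij => ?_, fun i => ?_⟩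
    · rw [← map_pow, ← map_one τ]
      congr 1
      exact Subtype.ext (X_pow hX s)
    · rw [← map_pow, ← map_one τ]
      congr 1
      exact Subtype.ext (hxr i)
    · rw [← map_mul, ← map_mul]
      congr 1
      exact Subtype.ext (hXx i s)
    · rw [← map_mul, ← map_mul]
      congr 1
      exact Subtype.ext (hXy i s)
    · rw [← map_mul, ← map_mul]
      congr 1
      exact Subtype.ext (hxx i j)
    · have h5 : (⟨y i, hmem _ (hXy i)⟩ : N) * ⟨x j, hmem _ (hXx j)⟩ =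
          ⟨x j, hmem _ (hXx j)⟩ * ⟨X (w i j), hXN (w i j)⟩ * ⟨y i, hmem _ (hXy i)⟩ := by
        apply Subtype.ext
        show y i * x j = x j * X (w i j) * y i
        rw [← hyx]; group
      rw [← map_mul, h5, map_mul, map_mul, hX0 _ (by rw [hfw, if_neg hij]), mul_one]
    · have h5 : (⟨y i, hmem _ (hXy i)⟩ : N) * ⟨x i, hmem _ (hXx i)⟩ * (⟨y i, hmem _ (hXy i)⟩ : N)⁻¹ =
          ⟨x i, hmem _ (hXx i)⟩ * ⟨X (w i i), hXN (w i i)⟩ := by
        apply Subtype.ext
        show y i * x i * (y i)⁻¹ = x i * X (w i i)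
        exact hyx i i
      rw [← map_inv, ← map_mul, ← map_mul, h5, map_mul, hXt (w i i) s (by rw [hfw, if_pos rfl, hs])]
  have hz : (Units.coeHom (Wt ρ X ψ f →ₗ[K] Wt ρ X ψ f)) (τ ⟨X s, hXN s⟩) ≠ 1 := by
    intro h1
    obtain ⟨v, hv, hv0⟩ := (Submodule.ne_bot_iff _).1 hW
    have h2 : ((σ ⟨X s, hXN s⟩ ⟨v, hv⟩ : Wt ρ X ψ f) : W) = v := by
      have h3 : σ ⟨X s, hXN s⟩ = 1 := h1
      rw [h3]; rfl
    rw [hσ, mem_Wt.1 hv s, hs] at h2
    have h4 : (ψ 1 - 1) • v = 0 := by rw [sub_smul, h2, one_smul, sub_self]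
    have h5 : ψ 1 = 1 := sub_eq_zero.1 ((smul_eq_zero.1 h4).resolve_right hv0)
    have h9 := hψ (a := 1) one_ne_zero
    apply h9
    ext a
    have h6 : ∀ k : ℕ, ψ (k : ZMod p) = 1 := by
      intro k
      induction k with
      | zero => simp
      | succ k ih => rw [Nat.cast_succ, AddChar.map_add_eq_mul, ih, h5, one_mul]
    have h7 := h6 a.val
    rw [ZMod.natCast_zmod_val] at h7
    simpa using h7
  have h10 := hH.finrank_le (Units.coeHom (Wt ρ X ψ f →ₗ[K] Wt ρ X ψ f)) hp hz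
  refine le_trans ?_ h10
  refine Nat.le_mul_of_pos_left _ ?_
  rw [orderOf_pos_iff, isOfFinOrder_iff_pow_eq_one]
  exact ⟨p - 1, Nat.sub_pos_of_lt (Fact.out : p.Prime).one_lt, ZMod.pow_card_sub_one_eq_one hK⟩

/-- **The count** over `K`. -/
theorem card_le [Finite F] [Finite K] [Finite W] (hψ : ψ.IsPrimitive) (hp : (p : K) ≠ 0)
    (hpF : (Nat.card F : K) ≠ 0) (hK : (Nat.card K : ZMod p) ≠ 0)
    (hX : ∀ t u, X (t + u) = X t * X u) (hne : ∃ t, ρ (X t) ≠ 1) {n : ℕ}
    (hD : ∀ f : F →ₗ[ZMod p] ZMod p, f ≠ 0 → Dual X n f) {ι : Type*} [Finite ι] {c : ι → F} {T : ι → E}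
    (hc : Function.Injective c) (hc0 : ∀ i, c i ≠ 0) (hT : ∀ i t, T i * X t * (T i)⁻¹ = X (c i * t)) :
    (Nat.card K) ^ (Nat.card ι * p ^ n) ≤ Nat.card W := by
  classical
  letI : Fintype ι := Fintype.ofFinite ι
  obtain ⟨f, hf, hW⟩ := exists_wt hX hψ hp hne
  let g : ι → F →ₗ[ZMod p] ZMod p := fun i => f ∘ₗ LinearMap.mulLeft (ZMod p) (c i)
  have hg : Function.Injective g := fun i j hij => hc (comp_inj hf hij)
  have hg0 : ∀ i, g i ≠ 0 := by
    intro i h
    apply hf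
    ext t
    have h1 := DFunLike.congr_fun h ((c i)⁻¹ * t)
    have h2 : f (c i * ((c i)⁻¹ * t)) = 0 := h1
    rw [← mul_assoc, mul_inv_cancel₀ (hc0 i), one_mul] at h2
    exact h2
  have hgW : ∀ i, Wt ρ X ψ (g i) ≠ ⊥ := fun i => Wt_torus (hT i) hW
  have h1 : ∀ i, (Nat.card K) ^ (p ^ n) ≤ Nat.card (Wt ρ X ψ (g i)) := by
    intro i
    rw [Module.natCard_eq_pow_finrank (K := K) (V := Wt ρ X ψ (g i))]
    exact Nat.pow_le_pow_right Nat.card_pos (le_finrank_Wt hψ hp hK hX (hg0 i) (hD _ (hg0 i)) (hgW i))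
  have h2 := Nat.card_le_card_of_injective _ (sum_injective (ρ := ρ) (X := X) hψ hpF hg)
  rw [Nat.card_pi] at h2
  refine le_trans ?_ h2
  calc (Nat.card K) ^ (Nat.card ι * p ^ n) = ∏ _i : ι, (Nat.card K) ^ (p ^ n) := by
        rw [prod_const, card_univ, ← pow_mul, ← Nat.card_eq_fintype_card (α := ι), mul_comm]
    _ ≤ _ := prod_le_prod' fun i _ => h1 i

end weights

/-! ### Actions on `2`-groups -/

section two

variable {X : F → E}

theorem two_ne_zero' (hp2 : p ≠ 2) : (2 : ZMod p) ≠ 0 := by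
  intro h
  have h1 : ((2 : ℕ) : ZMod p) = 0 := by exact_mod_cast h
  rw [ZMod.natCast_eq_zero_iff] at h1
  exact hp2 ((Nat.prime_dvd_prime_iff_eq Fact.out Nat.prime_two).1 h1)

/-- A finite field of characteristic `2` with `p`-th roots of unity. -/
theorem exists_field (hp2 : p ≠ 2) : ∃ (K : Type) (_ : Field K) (_ : Finite K) (_ : Algebra (ZMod 2) K)
    (ψ : AddChar (ZMod p) K), ψ.IsPrimitive := by
  haveI : Fact (Nat.Prime 2) := ⟨Nat.prime_two⟩
  let d := orderOf (2 : ZMod p)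
  have hp : p.Prime := Fact.out
  have hd : d ≠ 0 := by
    have h1 : 0 < d := by
      show 0 < orderOf (2 : ZMod p)
      rw [orderOf_pos_iff, isOfFinOrder_iff_pow_eq_one]
      exact ⟨p - 1, Nat.sub_pos_of_lt hp.one_lt, ZMod.pow_card_sub_one_eq_one (two_ne_zero' hp2)⟩
    omega
  let K := GaloisField 2 d
  have hcard : Nat.card K = 2 ^ d := GaloisField.card 2 d hd
  haveI : Finite K := Nat.finite_of_card_ne_zero (by rw [hcard]; positivity)
  have hdvd : p ∣ Nat.card Kˣ := by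
    rw [Nat.card_units, hcard]
    have h1 : ((1 : ℕ) : ZMod p) = ((2 ^ d : ℕ) : ZMod p) := by
      push_cast
      exact (pow_orderOf_eq_one _).symm
    exact (Nat.modEq_iff_dvd' Nat.one_le_two_pow).1 ((ZMod.natCast_eq_natCast_iff _ _ _).1 h1)
  obtain ⟨ζ, hζ⟩ := exists_prime_orderOf_dvd_card' p hdvd
  have h3 : IsPrimitiveRoot (ζ : K) p := by
    rw [IsPrimitiveRoot.coe_units_iff, ← hζ]
    exact IsPrimitiveRoot.orderOf ζ
  exact ⟨K, inferInstance, inferInstance, inferInstance, _, AddChar.zmodChar_primitive_of_primitive_root p h3⟩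

/-- Linear actions over `𝔽₂`. -/
theorem two_pow_le_linear [Finite F] (hp2 : p ≠ 2) (hX : ∀ t u, X (t + u) = X t * X u) {A : Type v}
    [AddCommGroup A] [Module (ZMod 2) A] [Finite A] (ρ : E →* Module.End (ZMod 2) A) (hne : ∃ t, ρ (X t) ≠ 1)
    {n : ℕ} (hD : ∀ f : F →ₗ[ZMod p] ZMod p, f ≠ 0 → Dual X n f) {ι : Type*} [Finite ι] {c : ι → F} {T : ι → E}
    (hc : Function.Injective c) (hc0 : ∀ i, c i ≠ 0) (hT : ∀ i t, T i * X t * (T i)⁻¹ = X (c i * t)) :
    2 ^ (Nat.card ι * p ^ n) ≤ Nat.card A := by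
  haveI : Fact (Nat.Prime 2) := ⟨Nat.prime_two⟩
  obtain ⟨K, i1, i2, i3, ψ, hψ⟩ := exists_field (p := p) hp2
  have hchar : CharP K 2 := charP_of_injective_algebraMap (algebraMap (ZMod 2) K).injective 2
  have hp : p.Prime := Fact.out
  have hodd : ∀ m : ℕ, Odd m → (m : K) ≠ 0 := by
    intro m hm h
    rw [CharP.cast_eq_zero_iff K 2] at h
    exact (Nat.not_even_iff_odd.2 hm) (even_iff_two_dvd.2 h)
  have hpodd : Odd p := hp.odd_of_ne_two hp2
  have hFodd : Odd (Nat.card F) := by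
    haveI : Module.Finite (ZMod p) F := Module.Finite.of_finite
    rw [Module.natCard_eq_pow_finrank (K := ZMod p) (V := F), Nat.card_zmod]
    exact hpodd.pow
  haveI : Module.Finite (ZMod 2) A := Module.Finite.of_finite
  haveI : Module.Finite (ZMod 2) K := Module.Finite.of_finite
  haveI : Finite (TensorProduct (ZMod 2) K A) := Module.finite_of_finite K
  have hKne : (Nat.card K : ZMod p) ≠ 0 := by
    rw [Module.natCard_eq_pow_finrank (K := ZMod 2) (V := K), Nat.card_zmod]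
    push_cast
    exact pow_ne_zero _ (two_ne_zero' hp2)
  let β : Module.End (ZMod 2) A →* Module.End K (TensorProduct (ZMod 2) K A) :=
    (Module.End.baseChangeHom (ZMod 2) K A).toMonoidHom
  have hβ : Function.Injective β := by
    intro f g h
    exact LinearMap.baseChangeHom_injective (ZMod 2) A K h
  have h1 := card_le (ρ := β.comp ρ) (X := X) (ψ := ψ) hψ (hodd p hpodd) (hodd _ hFodd) hKne hX
    (by
      obtain ⟨t, ht⟩ := hne
      exact ⟨t, fun h => ht (hβ (h.trans (map_one β).symm))⟩) hD hc hc0 hT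
  rw [Module.natCard_eq_pow_finrank (K := K) (V := TensorProduct (ZMod 2) K A), Module.finrank_baseChange,
    Nat.pow_le_pow_iff_right (Finite.one_lt_card)] at h1
  rw [Module.natCard_eq_pow_finrank (K := ZMod 2) (V := A), Nat.card_zmod]
  exact Nat.pow_le_pow_right (by norm_num) h1

/-- A `2`-group of exponent `2`. -/
theorem two_pow_le_elem [Finite F] (hp2 : p ≠ 2) (hX : ∀ t u, X (t + u) = X t * X u) {V : Type v}
    [CommGroup V] [Finite V] (hV : ∀ v : V, v ^ 2 = 1) (φ : E →* MulAut V) (hne : ∃ t, φ (X t) ≠ 1)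
    {n : ℕ} (hD : ∀ f : F →ₗ[ZMod p] ZMod p, f ≠ 0 → Dual X n f) {ι : Type*} [Finite ι] {c : ι → F} {T : ι → E}
    (hc : Function.Injective c) (hc0 : ∀ i, c i ≠ 0) (hT : ∀ i t, T i * X t * (T i)⁻¹ = X (c i * t)) :
    2 ^ (Nat.card ι * p ^ n) ≤ Nat.card V := by
  letI : Module (ZMod 2) (Additive V) := AddCommGroup.zmodModule fun v => hV v.toMul
  haveI : Finite (Additive V) := inferInstanceAs (Finite V)
  let ρ : E →* Module.End (ZMod 2) (Additive V) :=
    { toFun := fun g => (MonoidHom.toAdditive (φ g).toMonoidHom).toZModLinearMap 2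
      map_one' := by
        ext v
        show Additive.ofMul (φ 1 v.toMul) = v
        rw [map_one]; rfl
      map_mul' := fun g h => by
        ext v
        show Additive.ofMul (φ (g * h) v.toMul) = Additive.ofMul (φ g (φ h v.toMul))
        rw [map_mul]; rfl }
  have h1 := two_pow_le_linear hp2 hX ρ (by
    obtain ⟨t, ht⟩ := hne
    refine ⟨t, fun h => ht ?_⟩
    ext v
    exact congrArg Additive.toMul (DFunLike.congr_fun h (Additive.ofMul v))) hD hc hc0 hT
  exact h1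

/-- **The Heisenberg bound with a torus**, all functionals. -/
theorem two_pow_le_dual [Finite F] (hp2 : p ≠ 2) (hX : ∀ t u, X (t + u) = X t * X u) {V : Type v}
    [CommGroup V] [Finite V] (h2 : IsPGroup 2 V) (φ : E →* MulAut V) (hne : ∃ t, φ (X t) ≠ 1)
    {n : ℕ} (hD : ∀ f : F →ₗ[ZMod p] ZMod p, f ≠ 0 → Dual X n f) {ι : Type*} [Finite ι] {c : ι → F} {T : ι → E}
    (hc : Function.Injective c) (hc0 : ∀ i, c i ≠ 0) (hT : ∀ i t, T i * X t * (T i)⁻¹ = X (c i * t)) :
    2 ^ (Nat.card ι * p ^ n) ≤ Nat.card V := by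
  classical
  let U : Subgroup V :=
    { carrier := {v | v ^ 2 = 1}
      one_mem' := one_pow 2
      mul_mem' := fun {a b} ha hb => by
        show (a * b) ^ 2 = 1
        rw [mul_pow, show a ^ 2 = 1 from ha, show b ^ 2 = 1 from hb, one_mul]
      inv_mem' := fun {a} ha => by
        show a⁻¹ ^ 2 = 1
        rw [inv_pow, show a ^ 2 = 1 from ha, inv_one] }
  have hU : ∀ g, ∀ x ∈ U, φ g x ∈ U := by
    intro g x hx
    show (φ g x) ^ 2 = 1
    rw [← map_pow, show x ^ 2 = 1 from hx, map_one]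
  have h1 : ∃ t, resAct φ U hU (X t) ≠ 1 := by
    obtain ⟨t, ht⟩ := hne
    refine ⟨t, fun h => ht ?_⟩
    letI := addAct φ
    haveI : Finite (Additive V) := inferInstanceAs (Finite V)
    have h4 : IsPGroup 2 (Multiplicative (Additive V)) := by
      intro g
      obtain ⟨k, hk⟩ := h2 (Additive.toMul (Multiplicative.toAdd g))
      exact ⟨k, hk⟩
    have htor := tors_of_two (A := Additive V) (Fact.out : p.Prime) h4 hp2
    have hbot : Heis.comm (Additive V) (X t) = ⊥ := by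
      by_contra hb
      obtain ⟨v, hv0⟩ := AddSubgroup.ne_bot_iff_exists_ne_zero.1 hb
      have hv : (v : Additive V) ∈ Heis.comm (Additive V) (X t) := v.2
      -- an element of order `2`
      obtain ⟨k, hk⟩ := h2 (Additive.toMul (v : Additive V))
      have hk' : (2 ^ k) • (v : Additive V) = 0 := hk
      have hex : ∃ m : ℕ, (2 ^ m) • (v : Additive V) = 0 := ⟨k, hk'⟩
      have hm := Nat.find_spec hex
      have hm0 : Nat.find hex ≠ 0 := by
        intro h0
        rw [h0, pow_zero, one_smul] at hm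
        exact hv0 (Subtype.ext hm)
      obtain ⟨m, hmm⟩ := Nat.exists_eq_succ_of_ne_zero hm0
      have hm1 : (2 ^ m) • (v : Additive V) ≠ 0 := Nat.find_min hex (by omega)
      apply hm1
      have hw : (2 ^ m) • (v : Additive V) ∈ Heis.comm (Additive V) (X t) :=
        AddSubgroup.nsmul_mem _ hv _
      refine Heis.comm_free (X_pow hX t) htor hw ?_
      have hwU : Additive.toMul ((2 ^ m) • (v : Additive V)) ∈ U := by
        show (Additive.toMul ((2 ^ m) • (v : Additive V))) ^ 2 = 1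
        have h5 : 2 • ((2 ^ m) • (v : Additive V)) = 0 := by
          rw [hmm, Nat.succ_eq_add_one, pow_succ] at hm
          rw [smul_smul, mul_comm]
          exact hm
        exact congrArg Additive.toMul h5
      have h6 := congrArg Subtype.val (DFunLike.congr_fun h ⟨_, hwU⟩)
      exact congrArg Additive.ofMul h6
    ext v
    have h5 : X t • (Additive.ofMul v) - Additive.ofMul v ∈ Heis.comm (Additive V) (X t) := ⟨_, rfl⟩
    rw [hbot] at h5
    exact congrArg Additive.toMul (sub_eq_zero.1 h5)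
  have h3 := two_pow_le_elem hp2 hX (V := U) (fun v => Subtype.ext v.2) (resAct φ U hU) h1 hD hc hc0 hT
  exact h3.trans (Nat.card_le_card_of_injective _ Subtype.val_injective)

end two

/-! ### Heisenberg configurations over fields -/

section field

variable {X : F → E} {h : ℕ} {A B : Fin h → F → E} {c : Fin h → F}

/-- Dual elements from a configuration. -/
theorem FH.dual [Finite F] (hH : FH p h X A B c) {f : F →ₗ[ZMod p] ZMod p} (hf : f ≠ 0) :
    Dual X (h * Module.finrank (ZMod p) F) f := by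
  classical
  haveI : Module.Finite (ZMod p) F := Module.Finite.of_finite
  let e := Module.finrank (ZMod p) F
  let Bf : LinearMap.BilinForm (ZMod p) F := LinearMap.mk₂ (ZMod p) (fun t u => f (t * u))
    (fun t t' u => by rw [add_mul, map_add]) (fun a t u => by rw [smul_mul_assoc, map_smul])
    (fun t u u' => by rw [mul_add, map_add]) (fun a t u => by rw [mul_smul_comm, map_smul])
  have hBf : ∀ t u, Bf t u = f (t * u) := fun t u => rfl
  have hnd : Bf.Nondegenerate := by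
    obtain ⟨s, hs⟩ : ∃ s, f s ≠ 0 := by
      by_contra hcon
      push Not at hcon
      exact hf (LinearMap.ext hcon)
    constructor
    · intro t ht
      by_contra ht0
      apply hs
      have := ht (t⁻¹ * s)
      rwa [hBf, ← mul_assoc, mul_inv_cancel₀ ht0, one_mul] at this
    · intro t ht
      by_contra ht0
      apply hs
      have := ht (s * t⁻¹)
      rwa [hBf, mul_assoc, inv_mul_cancel₀ ht0, mul_one] at this
  let b : Module.Basis (Fin e) (ZMod p) F := Module.finBasis (ZMod p) F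
  let b' : Fin e → F := fun i => Bf.dualBasis hnd b i
  have hbb : ∀ i j, f (b' i * b j) = if i = j then 1 else 0 := by
    intro i j
    have := LinearMap.BilinForm.apply_dualBasis_left hnd b i j
    rw [hBf] at this
    rw [this]
    simp only [eq_comm]
  let ε : Fin (h * e) ≃ Fin h × Fin e := finProdFinEquiv.symm
  refine ⟨fun i => A (ε i).1 (b (ε i).2), fun i => B (ε i).1 ((c (ε i).1)⁻¹ * b' (ε i).2),
    fun i j => if (ε i).1 = (ε j).1 then b' (ε i).2 * b (ε j).2 else 0, fun i => hH.A_pow _ _, fun i t => hH.XA _ _ _,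
    fun i t => hH.XB _ _ _, fun i j => hH.AA _ _ _ _, fun i j => ?_, fun i j => ?_⟩
  · by_cases hij : (ε i).1 = (ε j).1
    · simp only
      rw [if_pos hij, hij, hH.conj, ← mul_assoc, mul_inv_cancel₀ (hH.c_ne _), one_mul]
    · simp only
      rw [if_neg hij, X_zero hH.add, mul_one, hH.BA _ _ hij]
      group
  · by_cases hij : (ε i).1 = (ε j).1
    · simp only
      rw [if_pos hij, hbb]
      by_cases hij2 : (ε i).2 = (ε j).2
      · have : i = j := ε.injective (Prod.ext hij hij2)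
        rw [if_pos hij2, if_pos this]
      · rw [if_neg hij2, if_neg (fun h => hij2 (by rw [h]))]
    · simp only
      rw [if_neg hij, map_zero, if_neg (fun h => hij (by rw [h]))]

end field

end Cfsg.Agent.Omega.ML.TorusLB

namespace Cfsg.Agent.Omega.ML.TorusLB

open Finset Cfsg.Agent.Omega.Lie.Heis Cfsg.Agent.Omega.Lie.HeisF Cfsg.Agent.Omega.Lie.FHeis

variable {E : Type u} [Group E] {F : Type w} [Field F] [Finite F] {p : ℕ} [Fact p.Prime] [CharP F p]

/-- **The Heisenberg bound over a field with a torus**: multipliers `c i`, `i ∈ ι`. -/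
theorem FH.two_pow_le {X : F → E} {h : ℕ} {A B : Fin h → F → E} {c : Fin h → F} (hH : FH p h X A B c)
    (hp2 : p ≠ 2) {V : Type v} [CommGroup V] [Finite V] (h2 : IsPGroup 2 V) (φ : E →* MulAut V)
    (hne : ∃ t, φ (X t) ≠ 1) {ι : Type*} [Finite ι] {d : ι → F} {T : ι → E}
    (hd : Function.Injective d) (hd0 : ∀ i, d i ≠ 0) (hT : ∀ i t, T i * X t * (T i)⁻¹ = X (d i * t)) :
    2 ^ (Nat.card ι * Nat.card F ^ h) ≤ Nat.card V := by
  letI : Algebra (ZMod p) F := ZMod.algebra F p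
  haveI : Module.Finite (ZMod p) F := Module.Finite.of_finite
  have h1 := two_pow_le_dual hp2 hH.add h2 φ hne (fun f hf => FH.dual hH hf) hd hd0 hT
  have h3 : Nat.card F = p ^ Module.finrank (ZMod p) F := by
    rw [Module.natCard_eq_pow_finrank (K := ZMod p) (V := F), Nat.card_zmod]
  rwa [mul_comm h, pow_mul p, ← h3] at h1

/-- The full torus. -/
theorem FH.two_pow_le_torus {X : F → E} {h : ℕ} {A B : Fin h → F → E} {c : Fin h → F} (hH : FH p h X A B c)
    (hp2 : p ≠ 2) {V : Type v} [CommGroup V] [Finite V] (h2 : IsPGroup 2 V) (φ : E →* MulAut V)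
    (hne : ∃ t, φ (X t) ≠ 1) {T : F → E} (hT : ∀ c, c ≠ 0 → ∀ t, T c * X t * (T c)⁻¹ = X (c * t)) :
    2 ^ ((Nat.card F - 1) * Nat.card F ^ h) ≤ Nat.card V := by
  have h1 := FH.two_pow_le hH hp2 h2 φ hne (ι := Fˣ) (d := fun c => (c : F)) (T := fun c => T c)
    Units.val_injective (fun c => c.ne_zero) (fun c t => hT c c.ne_zero t)
  rwa [Nat.card_units] at h1

variable {ι : Type*} {z : F → E} {x y : ι → F → E}

theorem fh_of_fheis [Finite ι] (h : FHeis z x y) : ∃ e : Fin (Nat.card ι) ≃ ι,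
    FH p (Nat.card ι) z (fun j => x (e j)) (fun j => y (e j)) (fun _ => 1) := by
  let e : Fin (Nat.card ι) ≃ ι := (Finite.equivFin ι).symm
  refine ⟨e, h.z_add, fun j t => _root_.Cfsg.Agent.Omega.Lie.FHeis.add_pow_char (h.x_add _) t, fun j t u => h.zx _ _ _, fun j t u => h.zy _ _ _,
      fun i j t u => ?_, fun i j hij t u => h.yx _ _ _ _ fun h' => hij (e.injective h'), fun j t u => ?_,
      fun j => one_ne_zero⟩
  · by_cases hij : i = j
    · subst hij
      exact _root_.Cfsg.Agent.Omega.Lie.FHeis.add_comm' (h.x_add _) t u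
    · exact h.xx _ _ _ _ fun h' => hij (e.injective h')
  · show y (e j) t * x (e j) u * (y (e j) t)⁻¹ = x (e j) u * z (1 * t * u)
    rw [h.conj, one_mul, mul_comm t u]

/-- **The Heisenberg bound with the full torus for `FHeis`.** -/
theorem two_pow_le_torus [Finite ι] (hp2 : p ≠ 2) (h : FHeis z x y) {V : Type v} [CommGroup V] [Finite V]
    (φ : E →* MulAut V) (h2 : IsPGroup 2 V) (hne : ∃ t, φ (z t) ≠ 1) {T : F → E}
    (hT : ∀ c, c ≠ 0 → ∀ t, T c * z t * (T c)⁻¹ = z (c * t)) :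
    2 ^ ((Nat.card F - 1) * Nat.card F ^ Nat.card ι) ≤ Nat.card V := by
  obtain ⟨e, hH⟩ := fh_of_fheis (p := p) h
  exact FH.two_pow_le_torus hH hp2 h2 φ hne hT

end Cfsg.Agent.Omega.ML.TorusLB

end

section


/-!
# The Heisenberg bound with a torus in odd covers

`HeisF.LB.fh` together with elements `T c ∈ K` (`c ≠ 0`) which commute with the inverting element `s` and satisfy
`T c * X t * (T c)⁻¹ = X (c * t)`: the bound `LB K ((|F| - 1) * |F| ^ h)`.
-/

set_option autoImplicit false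
set_option linter.unusedSectionVars false
set_option linter.style.haveILetI false

universe u v w w'

namespace Cfsg.Agent.Omega.ML.TorusLift

open Cfsg.Agent.Omega.Lie.Heis Cfsg.Agent.Omega.Lie.HeisF

/-- `HeisF.lift_FH` with the inverting element. -/
theorem lift_FH {K : Type u} [Group K] {F : Type w} [Field F] {r h : ℕ} {X : F → K} {A B : Fin h → F → K}
    {c : Fin h → F} (hH : FH r h X A B c) {s : K} (sX : ∀ t, s * X t * s⁻¹ = (X t)⁻¹)
    (sA : ∀ j t, s * A j t * s⁻¹ = (A j t)⁻¹) (sB : ∀ j t, s * B j t * s⁻¹ = B j t)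
    (XX : ∀ t u, LC.{u, v} (X t) (X u)) (XA : ∀ j t u, LC.{u, v} (X t) (A j u))
    (AA : ∀ i j t u, LC.{u, v} (A i t) (A j u)) {L : Type v} [Group L] {π : L →* K} (hπ : Cov π) :
    ∃ (σ : L) (X' : F → L) (A' B' : Fin h → F → L), π σ = s ∧ FH r h X' A' B' c ∧ (∀ t, π (X' t) = X t) ∧
      ∀ t, σ * X' t * σ⁻¹ = (X' t)⁻¹ := by
  obtain ⟨σ, hσ⟩ := hπ.surj s
  have hXl : ∀ t, ∃ a, π a = X t ∧ σ * a * σ⁻¹ = a⁻¹ := fun t => hπ.exists_inv_lift (by rw [hσ, sX])
  have hAl : ∀ j t, ∃ a, π a = A j t ∧ σ * a * σ⁻¹ = a⁻¹ := fun j t => hπ.exists_inv_lift (by rw [hσ, sA])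
  have hBl : ∀ j t, ∃ a, π a = B j t := fun j t => hπ.surj _
  choose X' hX' hsX using hXl
  choose A' hA' hsA using hAl
  choose B' hB' using hBl
  have cXX : ∀ t u, X' t * X' u = X' u * X' t := fun t u => XX t u L π hπ _ _ (hX' t) (hX' u)
  have cXA : ∀ j t u, X' t * A' j u = A' j u * X' t := fun j t u => XA j t u L π hπ _ _ (hX' t) (hA' j u)
  have cXB : ∀ j t u, X' t * B' j u = B' j u * X' t := fun j t u =>
    LC.of_inv (hH.XB j t u) (sX t) (sB j u) L π hπ _ _ (hX' t) (hB' j u)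
  refine ⟨σ, X', A', B', hσ, ⟨?_, ?_, cXA, cXB, ?_, ?_, ?_, hH.c_ne⟩, hX', hsX⟩
  · intro t u
    apply hπ.inv_lift_unique (σ := σ)
    · rw [map_mul, hX', hX', hX', hH.add]
    · exact hsX _
    · calc σ * (X' t * X' u) * σ⁻¹ = (σ * X' t * σ⁻¹) * (σ * X' u * σ⁻¹) := by group
        _ = (X' t)⁻¹ * (X' u)⁻¹ := by rw [hsX, hsX]
        _ = (X' u * X' t)⁻¹ := by rw [mul_inv_rev]
        _ = (X' t * X' u)⁻¹ := by rw [cXX]
  · intro j t
    apply hπ.eq_one
    · rw [map_pow, hA', hH.A_pow]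
    · have h1 : π (A' j t ^ r) = 1 := by rw [map_pow, hA', hH.A_pow]
      have h2 : σ * A' j t ^ r * σ⁻¹ = (A' j t ^ r)⁻¹ := by
        rw [← conj_pow, hsA, inv_pow]
      rw [hπ.comm h1, mul_inv_cancel_right] at h2
      rw [eq_inv_iff_mul_eq_one] at h2
      exact h2
  · intro i j t u
    exact AA i j t u L π hπ _ _ (hA' i t) (hA' j u)
  · intro i j hij t u
    exact (LC.of_inv (hH.BA i j hij t u).symm (sA j u) (sB i t)).symm L π hπ _ _ (hB' i t) (hA' j u)
  · intro j t u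
    -- `w := [B', A']` is inverted by `σ`
    set! w := B' j t * A' j u * (B' j t)⁻¹ * (A' j u)⁻¹ with hw
    have hπw : π w = X (c j * t * u) := by
      rw [hw, map_mul, map_mul, map_mul, map_inv, map_inv, hB', hA', hH.conj, hH.XA j (c j * t * u) u |>.symm]
      group
    have hwA : w * A' j u = A' j u * w := XA j _ u L π hπ _ _ hπw (hA' j u)
    have hBA : B' j t * A' j u * (B' j t)⁻¹ = w * A' j u := by rw [hw]; group
    have hζ : π ((B' j t)⁻¹ * (σ * B' j t * σ⁻¹)) = 1 := by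
      rw [map_mul, map_mul, map_mul, map_inv, map_inv, hB', hσ, sB, inv_mul_cancel]
    set ζ := (B' j t)⁻¹ * (σ * B' j t * σ⁻¹) with hζd
    have h1 : σ * B' j t * σ⁻¹ = B' j t * ζ := by rw [hζd]; group
    have h2 : σ * w * σ⁻¹ = w⁻¹ := by
      have h3 : σ * w * σ⁻¹ = (σ * B' j t * σ⁻¹) * (σ * A' j u * σ⁻¹) * (σ * B' j t * σ⁻¹)⁻¹ *
          (σ * A' j u * σ⁻¹)⁻¹ := by rw [hw]; group
      rw [h3, h1, hsA]
      calc B' j t * ζ * (A' j u)⁻¹ * (B' j t * ζ)⁻¹ * ((A' j u)⁻¹)⁻¹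
          = B' j t * (ζ * (A' j u)⁻¹) * (ζ⁻¹ * (B' j t)⁻¹) * A' j u := by group
        _ = B' j t * ((A' j u)⁻¹ * ζ) * (ζ⁻¹ * (B' j t)⁻¹) * A' j u := by rw [hπ.comm hζ]
        _ = (B' j t * A' j u * (B' j t)⁻¹)⁻¹ * A' j u := by group
        _ = (w * A' j u)⁻¹ * A' j u := by rw [hBA]
        _ = (A' j u * w)⁻¹ * A' j u := by rw [hwA]
        _ = w⁻¹ := by group
    have h3 : w = X' (c j * t * u) := hπ.inv_lift_unique (by rw [hπw, hX']) h2 (hsX _)
    rw [hBA, h3, cXA]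

/-- An element commuting with the inverting element moves inverted lifts to inverted lifts. -/
theorem conj_lift {K : Type u} [Group K] {F : Type w} {X : F → K} {s : K} {L : Type v} [Group L]
    {π : L →* K} (hπ : Cov π) {σ : L} (hσ : π σ = s) {X' : F → L} (hX' : ∀ t, π (X' t) = X t)
    (hsX : ∀ t, σ * X' t * σ⁻¹ = (X' t)⁻¹) {g : L} (hg : π g * s = s * π g) {t t' : F}
    (hgt : π g * X t * (π g)⁻¹ = X t') : g * X' t * g⁻¹ = X' t' := by
  refine hπ.inv_lift_unique (σ := σ) (by rw [map_mul, map_mul, map_inv, hX', hX', hgt]) ?_ (hsX _)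
  -- `σ g = g σ k`
  have hk : π (σ⁻¹ * (g⁻¹ * (σ * g))) = 1 := by
    rw [map_mul, map_mul, map_mul, map_inv, map_inv, hσ, ← hg, inv_mul_cancel_left, inv_mul_cancel]
  set k := σ⁻¹ * (g⁻¹ * (σ * g)) with hkd
  have h1 : σ * g = g * σ * k := by rw [hkd]; group
  calc σ * (g * X' t * g⁻¹) * σ⁻¹ = (σ * g) * X' t * (σ * g)⁻¹ := by group
    _ = g * σ * (k * X' t) * k⁻¹ * σ⁻¹ * g⁻¹ := by rw [h1]; group
    _ = g * σ * (X' t * k) * k⁻¹ * σ⁻¹ * g⁻¹ := by rw [hπ.comm hk]
    _ = g * (σ * X' t * σ⁻¹) * g⁻¹ := by group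
    _ = g * (X' t)⁻¹ * g⁻¹ := by rw [hsX]
    _ = (g * X' t * g⁻¹)⁻¹ := by group

/-- **The Heisenberg bound with a torus for all perfect central extensions with kernel of odd order**:
multipliers `d i`, `i ∈ ι`. -/
theorem LB.fh {K : Type u} [Group K] [IsSimpleGroup K] {F : Type w'} [Field F] [Finite F] {r h : ℕ}
    [Fact r.Prime] [CharP F r] (hr2 : r ≠ 2) {X : F → K} {A B : Fin h → F → K}
    {c : Fin h → F} (hH : FH r h X A B c) {s : K} (sX : ∀ t, s * X t * s⁻¹ = (X t)⁻¹)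
    (sA : ∀ j t, s * A j t * s⁻¹ = (A j t)⁻¹) (sB : ∀ j t, s * B j t * s⁻¹ = B j t)
    (XX : ∀ t u, LC.{u, v} (X t) (X u)) (XA : ∀ j t u, LC.{u, v} (X t) (A j u))
    (AA : ∀ i j t u, LC.{u, v} (A i t) (A j u)) (hX1 : ∃ t, X t ≠ 1) {ι : Type*} [Finite ι] {d : ι → F}
    {T : ι → K} (hd : Function.Injective d) (hd0 : ∀ i, d i ≠ 0) (hTs : ∀ i, T i * s = s * T i)
    (hT : ∀ i t, T i * X t * (T i)⁻¹ = X (d i * t)) :
    LB.{u, v, w} K (Nat.card ι * Nat.card F ^ h) := by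
  intro L _ _ π hπ hc ho hL V _ _ h2 φ hφ
  have hcov : Cov π := ⟨hπ, hc, ho⟩
  obtain ⟨σ, X', A', B', hσ, hH', hX', hsX⟩ := lift_FH hH sX sA sB XX XA AA hcov
  obtain ⟨t, ht⟩ := hX1
  choose T' hT' using fun i => hπ (T i)
  refine TorusLB.FH.two_pow_le hH' hr2 h2 φ ⟨t, fun h => ht ?_⟩ (T := T') hd hd0 fun i t => ?_
  · have h1 : X' t ∈ π.ker := ker_le_ker hπ hc hL hφ (MonoidHom.mem_ker.2 h)
    rw [← hX', MonoidHom.mem_ker.1 h1]
  · exact conj_lift hcov hσ hX' hsX (by rw [hT', hTs]) (by rw [hT', hT])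

/-- **The full torus.** -/
theorem LB.fh_torus {K : Type u} [Group K] [IsSimpleGroup K] {F : Type w'} [Field F] [Finite F] {r h : ℕ}
    [Fact r.Prime] [CharP F r] (hr2 : r ≠ 2) {X : F → K} {A B : Fin h → F → K}
    {c : Fin h → F} (hH : FH r h X A B c) {s : K} (sX : ∀ t, s * X t * s⁻¹ = (X t)⁻¹)
    (sA : ∀ j t, s * A j t * s⁻¹ = (A j t)⁻¹) (sB : ∀ j t, s * B j t * s⁻¹ = B j t)
    (XX : ∀ t u, LC.{u, v} (X t) (X u)) (XA : ∀ j t u, LC.{u, v} (X t) (A j u))
    (AA : ∀ i j t u, LC.{u, v} (A i t) (A j u)) (hX1 : ∃ t, X t ≠ 1) {T : F → K}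
    (hTs : ∀ c, c ≠ 0 → T c * s = s * T c) (hT : ∀ c, c ≠ 0 → ∀ t, T c * X t * (T c)⁻¹ = X (c * t)) :
    LB.{u, v, w} K ((Nat.card F - 1) * Nat.card F ^ h) := by
  have h1 := LB.fh.{u, v, w, w'} hr2 hH sX sA sB XX XA AA hX1 (ι := Fˣ) (d := fun c => (c : F))
    (T := fun c => T c) Units.val_injective (fun c => c.ne_zero) (fun c => hTs c c.ne_zero)
    (fun c t => hT c c.ne_zero t)
  rwa [Nat.card_units] at h1

end Cfsg.Agent.Omega.ML.TorusLift

end

section


/-!
# (ML), the K-list end: the numbers of `F₄(q)`, `E₆(q)`, `E₇(q)`, `E₈(q)`, `²E₆(q)`, `³D₄(q)`, `q` odd (helper944)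

`NumX S` : `LB S n`, `RK S a`, `|S| ≤ 2 ^ N` and `(a - 1) (N + 2 a - 1) < a n`.
-/

set_option autoImplicit false

universe u v w

namespace Cfsg.Agent.Omega.ML.OddExcNum

open Cfsg Cfsg.Lie Subgroup Cfsg.Agent.Omega.TwoF

/-- `(RK K a)` of `TwoF.Defs` gives `(RK K a)` of `TwoF.Rk`. -/
theorem rk_of_rk {K : Type v} [Group K] {a : ℕ} (h : TwoF.RK K a) : Rk.RK.{u} K a := by
  intro X _ _ N _ ⟨f⟩ hc A hA
  have hinj : Function.Injective (MulAut.conjNormal : X →* MulAut N) := by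
    rw [← MonoidHom.ker_eq_bot_iff, eq_bot_iff, ← hc]
    intro g hg
    rw [mem_centralizer_iff]
    intro n hn
    have h1 := congrArg (fun φ : MulAut N => (φ ⟨n, hn⟩ : X)) (MonoidHom.mem_ker.1 hg)
    simp only [MulAut.conjNormal_apply, MulAut.one_apply] at h1
    exact (mul_inv_eq_iff_eq_mul.1 h1).symm
  let j : X →* MulAut K := (MulAut.congr f).toMonoidHom.comp MulAut.conjNormal
  have hj : Function.Injective j := (MulAut.congr f).injective.comp hinj
  have h1 := h (A.map j) (by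
    rintro _ ⟨a, ha, rfl⟩
    rw [← map_pow, pow_two, hA a ha, map_one])
  rwa [card_map_of_injective hj] at h1

/-- The numerical criterion. -/
def NumX (S : Type u) [Group S] : Prop :=
  ∃ n a N : ℕ, Lie.Heis.LB.{u, u, v} S n ∧ Rk.RK.{u} S a ∧ Nat.card S ≤ 2 ^ N ∧ (a - 1) * (N + 2 * a - 1) < a * n

theorem NumX.congr {S : Type w} [Group S] {S' : Type u} [Group S']
    (h : ∃ n a N : ℕ, Lie.Heis.LB.{w, u, v} S n ∧ Rk.RK.{u} S a ∧ Nat.card S ≤ 2 ^ N ∧
      (a - 1) * (N + 2 * a - 1) < a * n) (e : S ≃* S') : NumX.{u, v} S' := by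
  obtain ⟨n, a, N, h1, h2, h3, h4⟩ := h
  exact ⟨n, a, N, h1.congr e, h2.of_equiv e, by rwa [← Nat.card_congr e.toEquiv], h4⟩

theorem le_two_pow {q : ℕ} (hq : 1 ≤ q) : q ≤ 2 ^ (q - 1) := by
  obtain ⟨m, rfl⟩ : ∃ m, q = m + 1 := ⟨q - 1, by omega⟩
  rw [Nat.add_sub_cancel]
  exact Nat.lt_two_pow_self

theorem pow_le_two_pow {q c : ℕ} (hq : 1 ≤ q) : q ^ c ≤ 2 ^ (c * (q - 1)) := by
  rw [mul_comm, pow_mul]
  exact Nat.pow_le_pow_left (le_two_pow hq) c

/-- the inequality for the bounds `q ^ c` and `2 q ^ (k + 1)` -/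
theorem num {q c a k : ℕ} (hq : 3 ≤ q) (ha : 1 ≤ a) (hc : c + 2 * a ≤ 2 * 3 ^ k) :
    (a - 1) * (c * (q - 1) + 2 * a - 1) < a * (2 * q ^ (k + 1)) := by
  obtain ⟨m, rfl⟩ : ∃ m, q = m + 3 := ⟨q - 3, by omega⟩
  obtain ⟨b, rfl⟩ : ∃ b, a = b + 1 := ⟨a - 1, by omega⟩
  have h0 : m + 3 - 1 = m + 2 := by omega
  have h1 : (3 : ℕ) ^ k ≤ (m + 3) ^ k := Nat.pow_le_pow_left (by omega) k
  rw [h0, Nat.add_sub_cancel, pow_succ]
  have h2 : c * (m + 2) + 2 * (b + 1) - 1 ≤ (c + 2 * (b + 1)) * (m + 2) := by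
    have : 2 * (b + 1) ≤ 2 * (b + 1) * (m + 2) := Nat.le_mul_of_pos_right _ (by omega)
    rw [add_mul]
    omega
  have h3 : (c + 2 * (b + 1)) * (m + 2) ≤ 2 * (m + 3) ^ k * (m + 2) := Nat.mul_le_mul_right _ (by omega)
  have h4 : 2 * (m + 3) ^ k * (m + 2) ≤ 2 * ((m + 3) ^ k * (m + 3)) := by
    rw [mul_assoc]
    exact Nat.mul_le_mul_left _ (Nat.mul_le_mul_left _ (by omega))
  have h5 : 0 < 2 * ((m + 3) ^ k * (m + 3)) := by positivity
  calc b * (c * (m + 2) + 2 * (b + 1) - 1) ≤ b * (2 * ((m + 3) ^ k * (m + 3))) :=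
        Nat.mul_le_mul_left _ (h2.trans (h3.trans h4))
    _ < (b + 1) * (2 * ((m + 3) ^ k * (m + 3))) := Nat.mul_lt_mul_of_pos_right (by omega) h5

section chev

variable {F : Type w} [Field F] [Finite F] (h2 : (2 : F) ≠ 0)

include h2

/-- from `LB (2 q ^ (k + 1))`, `RK a`, `|S| ≤ q ^ c` -/
theorem num_of {S : Type w} [Group S] {c a k : ℕ} (hn : Nat.card S ≤ Nat.card F ^ c)
    (hlb : Lie.Heis.LB.{w, u, v} S (2 * Nat.card F ^ (k + 1))) (hrk : TwoF.RK S a) (ha : 1 ≤ a)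
    (hc : c + 2 * a ≤ 2 * 3 ^ k) {S' : Type u} [Group S'] (e : S ≃* S') : NumX.{u, v} S' :=
  NumX.congr ⟨_, a, c * (Nat.card F - 1), hlb, rk_of_rk hrk,
    hn.trans (pow_le_two_pow (by have := RowExc.three_le h2; omega)), num (RowExc.three_le h2) ha hc⟩ e

theorem f4 {S : Type u} [Group S] (e : chevF4.group F ≃* S) : NumX.{u, v} S :=
  have := (Cfsg.Agent.S1054.result (F := F) chevF4 (by simp)).1
  num_of h2 (RowExc.card_F4 F) (F4Odd.lb F h2) (RkChev.rk_f4 F h2) (by norm_num) (by norm_num) e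

theorem e6 {S : Type u} [Group S] (e : chevE6.group F ≃* S) : NumX.{u, v} S :=
  have := (Cfsg.Agent.S1054.result (F := F) chevE6 (by simp)).1
  num_of h2 (RowExc.card_E6 F) (E6Odd.lb F h2) (RkChev.rk_e6 F h2) (by norm_num) (by norm_num) e

theorem e7 {S : Type u} [Group S] (e : chevE7.group F ≃* S) : NumX.{u, v} S :=
  have := (Cfsg.Agent.S1054.result (F := F) chevE7 (by simp)).1
  num_of h2 (RowExc.card_E7 F) (E7Odd.lb F h2) (RkChev.rk_e7 F h2) (by norm_num) (by norm_num) e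

theorem e8 {S : Type u} [Group S] (e : chevE8.group F ≃* S) : NumX.{u, v} S :=
  have := (Cfsg.Agent.S1054.result (F := F) chevE8 (by simp)).1
  num_of h2 (RowExc.card_E8 F) (E8Odd.lb F h2) (RkChev.rk_e8 F h2) (by norm_num) (by norm_num) e

end chev

section twisted

variable {F : Type w} [Field F] [Fintype F] {q : ℕ} (hq : IsPrimePow q) (h2 : (2 : F) ≠ 0)

include hq h2

theorem three_le {k : ℕ} (hF : Fintype.card F = q ^ k) : 3 ≤ q := by
  have hq1 := hq.two_le
  by_contra hcon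
  have h3 : q = 2 := by omega
  subst h3
  have h4 : ((Fintype.card F : ℕ) : F) = 0 := Nat.cast_card_eq_zero F
  rw [hF] at h4
  push_cast at h4
  exact pow_ne_zero k h2 h4

theorem twE6 (hF : Fintype.card F = q ^ 2) {S : Type u} [Group S] (e : twistedE6 F q ≃* S) : NumX.{u, v} S :=
  NumX.congr ⟨_, 88, 78 * (q - 1), TwE6Odd.lb.{w, u, v} hq hF h2, rk_of_rk (RkTwE6.rk_88 hq hF h2),
    (RowTwE6.card_le hq hF).trans (pow_le_two_pow (by have := hq.two_le; omega)),
    num (k := 6) (three_le hq h2 hF) (by norm_num) (by norm_num)⟩ e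

/-- `|³D₄(q)| ≤ q ^ 29` -/
theorem card_D4 (hF : Fintype.card F = q ^ 3) : Nat.card (twistedD4 F q) ≤ q ^ 29 := by
  have h3 := three_le hq h2 hF
  rw [Cfsg.Agent.S1067.result hq hF]
  have h4 : q ^ 8 + q ^ 4 + 1 ≤ q ^ 9 := by
    have h5 : q ^ 4 + 1 ≤ 2 * q ^ 8 := by
      have h6 : q ^ 4 ≤ q ^ 8 := Nat.pow_le_pow_right (by omega) (by norm_num)
      have h7 : 1 ≤ q ^ 8 := Nat.one_le_pow _ _ (by omega)
      omega
    have h6 : 3 * q ^ 8 ≤ q ^ 9 := by
      rw [pow_succ q 8, mul_comm]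
      exact Nat.mul_le_mul_left _ h3
    omega
  calc q ^ 12 * (q ^ 2 - 1) * (q ^ 6 - 1) * (q ^ 8 + q ^ 4 + 1) ≤ q ^ 12 * q ^ 2 * q ^ 6 * q ^ 9 := by
        gcongr <;> exact Nat.sub_le _ _
    _ = q ^ 29 := by ring

/-- **LB of `³D₄(q)`**: `2 q ^ 4` -/
theorem lb_D4 (hF : Fintype.card F = q ^ 3) : Lie.Heis.LB.{w, u, v} ↥(twistedD4 F q) (2 * q ^ 4) := by
  have hs := (Cfsg.Agent.S1071.result (K := F) hq hF).1
  obtain ⟨φ, hφ⟩ := ChevalleyStructure.D4Fixed.exists_frob hq hF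
  have H : TwD4LB.Fr φ q := ⟨hq.one_lt, hF, h2, ChevalleyStructure.D4U.phi3 hF hφ, hφ,
    ChevalleyStructure.D4Fixed.twisted_le_fix hF hφ⟩
  obtain ⟨p, hp⟩ := CharP.exists F
  have hpp := CharP.char_is_prime F p
  have hp2 : p ≠ 2 := by
    rintro rfl
    apply h2
    exact_mod_cast CharP.cast_eq_zero F 2
  refine (TwD4LB.lb_aux H hpp hp2 hs).mono ?_
  rw [TwD4LB.card_fq H.one_lt H.card H.pow]
  exact Nat.mul_le_mul_right _ (TwD4LB.two_le_orderOf hpp hp2)

omit [Field F] [Fintype F] hq h2 in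
theorem num_D4 (h3 : 3 ≤ q) : (32 - 1) * (29 * (q - 1) + 2 * 32 - 1) < 32 * (2 * q ^ 4) := by
  obtain ⟨m, rfl⟩ : ∃ m, q = m + 3 := ⟨q - 3, by omega⟩
  have h0 : m + 3 - 1 = m + 2 := by omega
  have h1 : 29 * (m + 2) + 2 * 32 - 1 = 29 * m + 121 := by omega
  rw [h0, h1]
  linarith only [Nat.zero_le (m ^ 4), Nat.zero_le (m ^ 3), _root_.sq_nonneg (↑m : ℤ), _root_.Nat.cast_nonneg (α := ℤ) (m)]

theorem twD4 (hF : Fintype.card F = q ^ 3) {S : Type u} [Group S] (e : twistedD4 F q ≃* S) : NumX.{u, v} S :=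
  NumX.congr (S := ↥(twistedD4 F q)) ⟨_, 32, 29 * (q - 1), lb_D4 hq h2 hF,
    rk_of_rk (TwD4Rk.rk (K := F) hq hF h2 inferInstance (Cfsg.Agent.S1071.result (K := F) hq hF).1),
    (card_D4 hq h2 hF).trans (pow_le_two_pow (by have := hq.two_le; omega)),
    num_D4 (three_le hq h2 hF)⟩ e

end twisted

/-! ### The rows -/

/-- **`F₄`, `E₆`, `E₇`, `E₈` over fields of odd order** -/
theorem exceptional {K : Type u} [Group K] (h : KFacts.OddChar @IsExceptionalChevChar K) :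
    (∃ p : ℕ, p.Prime ∧ p ≠ 2 ∧ ∃ (F : Type) (_ : Field F) (_ : Fintype F) (_ : CharP F p),
      3 ≤ Fintype.card F ∧ Nonempty (K ≃* chevG2.group F)) ∨ NumX.{u, v} K := by
  obtain ⟨p, hp, hp2, F, _, _, _, h⟩ := h
  have h2 : (2 : F) ≠ 0 := RowExc.two_ne hp hp2 F
  rcases h with h | ⟨⟨e⟩⟩ | ⟨⟨e⟩⟩ | ⟨⟨e⟩⟩ | ⟨⟨e⟩⟩
  · exact Or.inl ⟨p, hp, hp2, F, inferInstance, inferInstance, inferInstance, h⟩
  · exact Or.inr (f4 h2 e.symm)
  · exact Or.inr (e6 h2 e.symm)
  · exact Or.inr (e7 h2 e.symm)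
  · exact Or.inr (e8 h2 e.symm)

/-- **`²E₆`, `³D₄` over fields of odd order** -/
theorem twisted {K : Type u} [Group K] (h : KFacts.OddChar @IsTwistedE6D4Char K) : NumX.{u, v} K := by
  obtain ⟨p, hp, hp2, F, _, _, _, q, hq, h⟩ := h
  have h2 : (2 : F) ≠ 0 := RowExc.two_ne hp hp2 F
  rcases h with ⟨hF, ⟨e⟩⟩ | ⟨hF, ⟨e⟩⟩
  · exact twE6 hq h2 hF e.symm
  · exact twD4 hq h2 hF e.symm

end Cfsg.Agent.Omega.ML.OddExcNum

end

end

-- merged: Cfsg.Agent.Mrg.Omega.ML.OddExc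
section

section


/-!
# (ML), the K-list end: `F₄`, `E₆`, `E₇`, `E₈`, `²E₆`, `³D₄` over fields of odd order (helper944)
-/

set_option autoImplicit false

universe u v

namespace Cfsg.Agent.Omega.ML.OddExc

open Cfsg Cfsg.Lie

theorem of_numX {K : Type u} [Group K] (h : OddExcNum.NumX.{u, v} K) : Num.NumML.{u, v} K := by
  obtain ⟨n, a, N, h1, h2, h3, h4⟩ := h
  exact Num.NumML.of_card h1 h2 h3 h4

/-- **`F₄`, `E₆`, `E₇`, `E₈` over fields of odd order** (`G₂` is left out) -/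
theorem exceptional {K : Type u} [Group K] (h : KFacts.OddChar @IsExceptionalChevChar K) :
    (∃ p : ℕ, p.Prime ∧ p ≠ 2 ∧ ∃ (F : Type) (_ : Field F) (_ : Fintype F) (_ : CharP F p),
      3 ≤ Fintype.card F ∧ Nonempty (K ≃* chevG2.group F)) ∨ Num.NumML.{u, v} K :=
  (OddExcNum.exceptional.{u, v} h).imp id of_numX

/-- **`²E₆`, `³D₄` over fields of odd order** -/
theorem twisted {K : Type u} [Group K] (h : KFacts.OddChar @IsTwistedE6D4Char K) : Num.NumML.{u, v} K :=
  of_numX (OddExcNum.twisted.{u, v} h)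

end Cfsg.Agent.Omega.ML.OddExc

end

section


/-!
# (ML), the K-list end: `G₂(q)`, `q ≥ 7` odd

`LB (G₂(q)) ((q - 1) * q)` (Heisenberg bound with the torus); with `RK 6` (`RK 4` for prime fields) the numerical
criterion `NumML` holds for `q ≥ 7`.
-/

set_option autoImplicit false

universe u v w

namespace Cfsg.Agent.Omega.ML.GTwoTorus

open Cfsg Cfsg.Lie Cfsg.Agent.ChevalleyStructure Cfsg.Agent.ChevalleyStructure.Elts
  Cfsg.Agent.Omega.Lie.HeisF Cfsg.Agent.Omega.Lie Cfsg.Agent.Omega.TwoF Cfsg.Agent.Omega.TwoF.GTwoLB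
  Cfsg.Agent.Omega.ML.Num

variable {F : Type u} [Field F]

theorem H_comm {i j : ℕ} (hi : i < 2) (hj : j < 2) {a b : F} (ha : a ≠ 0) (hb : b ≠ 0) :
    H i a * H j b = H j b * H i a := by
  obtain ⟨χ, hχ⟩ := HMatDiagAll.mem_torus.1 (HMatDiagAll.diagonalSubgroup_le_torus inG2 (GTwoOut.H_mem hi ha))
  obtain ⟨ψ, hψ⟩ := HMatDiagAll.mem_torus.1 (HMatDiagAll.diagonalSubgroup_le_torus inG2 (GTwoOut.H_mem hj hb))
  have hχ' : ((H i a : GL chevG2.Idx F) : Matrix chevG2.Idx chevG2.Idx F) = _ := hχ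
  have hψ' : ((H j b : GL chevG2.Idx F) : Matrix chevG2.Idx chevG2.Idx F) = _ := hψ
  apply Subtype.ext
  apply Units.ext
  show ((H i a : GL chevG2.Idx F) : Matrix chevG2.Idx chevG2.Idx F) * (H j b : GL chevG2.Idx F) =
    ((H j b : GL chevG2.Idx F) : Matrix chevG2.Idx chevG2.Idx F) * (H i a : GL chevG2.Idx F)
  rw [hχ', hψ', Matrix.diagonal_mul_diagonal, Matrix.diagonal_mul_diagonal]
  congr 1
  funext k
  exact mul_comm _ _

/-- **The lower bound** `q (q - 1)` for `G₂(q)` in all odd covers. -/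
theorem lb [Finite F] {p : ℕ} [Fact p.Prime] [CharP F p] (hp2 : p ≠ 2) [IsSimpleGroup ↥(chevG2.group F)] :
    Heis.LB.{u, v, w} ↥(chevG2.group F) ((Nat.card F - 1) * Nat.card F) := by
  have hH : FH p 1 (X (F := F) 11) (fun _ => X 6) (fun _ => X 10) (fun _ => (-1 : F)) :=
    { add := X_add 11
      A_pow := fun _ t => by rw [GTwoLB.X_pow, CharP.cast_eq_zero, zero_mul, GTwoLB.X_zero]
      XA := fun _ t u => c11_6 t u
      XB := fun _ t u => c11_10 t u
      AA := fun _ _ t u => X_comm 6 t u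
      BA := fun i j hij => absurd (Subsingleton.elim i j) hij
      conj := fun _ t u => conj10_6 t u
      c_ne := fun _ => neg_ne_zero.2 one_ne_zero }
  have h := TorusLift.LB.fh_torus.{u, v, w} hp2 hH (s := T F 0 * T F 1)
    (fun t => by
      have e : T F 0 * T F 1 * X 11 t * (T F 0 * T F 1)⁻¹ = T F 0 * (T F 1 * X 11 t * (T F 1)⁻¹) * (T F 0)⁻¹ := by
        group
      rw [e, T_inv (by norm_num) (by norm_num) (by decide), ← X_neg, T_fix (by norm_num) (by norm_num) (by decide)])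
    (fun _ t => by
      have e : T F 0 * T F 1 * X 6 t * (T F 0 * T F 1)⁻¹ = T F 0 * (T F 1 * X 6 t * (T F 1)⁻¹) * (T F 0)⁻¹ := by
        group
      show T F 0 * T F 1 * X 6 t * (T F 0 * T F 1)⁻¹ = (X 6 t)⁻¹
      rw [e, T_fix (by norm_num) (by norm_num) (by decide), T_inv (by norm_num) (by norm_num) (by decide)])
    (fun _ t => by
      have e : T F 0 * T F 1 * X 10 t * (T F 0 * T F 1)⁻¹ = T F 0 * (T F 1 * X 10 t * (T F 1)⁻¹) * (T F 0)⁻¹ := by
        group
      show T F 0 * T F 1 * X 10 t * (T F 0 * T F 1)⁻¹ = X 10 t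
      rw [e, T_inv (by norm_num) (by norm_num) (by decide), ← X_neg,
        T_inv (by norm_num) (by norm_num) (by decide), ← X_neg, neg_neg])
    lc11_11 (fun _ => lc11_6) (fun _ _ => lc6_6) ⟨1, fun h => one_ne_zero ((X_eq_one (by norm_num)).1 h)⟩
    (T := fun c => H 1 c)
    (fun c hc => by
      have h0 : H 1 c * T F 0 = T F 0 * H 1 c := H_comm (by norm_num) (by norm_num) hc (neg_ne_zero.2 one_ne_zero)
      have h1 : H 1 c * T F 1 = T F 1 * H 1 c := H_comm (by norm_num) (by norm_num) hc (neg_ne_zero.2 one_ne_zero)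
      rw [← mul_assoc, h0, mul_assoc, h1, mul_assoc])
    (fun c hc t => by
      have e : chevG2.cartan 1 11 = 1 := by decide
      show H 1 c * X 11 t * (H 1 c)⁻¹ = X 11 (c * t)
      rw [H_conj (by norm_num) (by norm_num) hc, e, zpow_one])
  rwa [pow_one] at h

theorem card_le {F : Type} [Field F] [Fintype F] : Nat.card ↥(chevG2.group F) ≤ Fintype.card F ^ 14 := by
  rw [Cfsg.Agent.S1059.result (F := F) rfl]
  generalize Fintype.card F = q
  calc q ^ 6 * (q ^ 2 - 1) * (q ^ 6 - 1) ≤ q ^ 6 * q ^ 2 * q ^ 6 := by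
        gcongr <;> exact Nat.sub_le _ _
    _ = q ^ 14 := by ring

theorem sq_le_two_pow {q : ℕ} (hq : 4 ≤ q) : q ^ 2 ≤ 2 ^ q := by
  induction q, hq using Nat.le_induction with
  | base => norm_num
  | succ n hn ih =>
    calc (n + 1) ^ 2 ≤ 2 * n ^ 2 := by nlinarith
      _ ≤ 2 * 2 ^ n := by omega
      _ = 2 ^ (n + 1) := by rw [pow_succ]; ring

/-- **`G₂(q)`, `q ≥ 7` odd.** -/
theorem numML {K : Type u} [Group K] {F : Type} [Field F] [Fintype F] {p : ℕ} [Fact p.Prime] [CharP F p]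
    (hp2 : p ≠ 2) (h7 : 7 ≤ Fintype.card F) (e : K ≃* ↥(chevG2.group F)) : NumML.{u, v} K := by
  have h2 : (2 : F) ≠ 0 := RowGTwo.two_ne (p := p) Fact.out hp2
  have hs := (RowGTwo.simple' h2).1
  have hlb := lb.{0, u, v} (F := F) (p := p) hp2
  rw [Nat.card_eq_fintype_card] at hlb
  obtain ⟨hr6, hr4⟩ := RowGTwo.rk (F := F) (p := p) Fact.out hp2
  apply OddExc.of_numX
  by_cases h9 : 9 ≤ Fintype.card F
  · refine OddExcNum.NumX.congr ⟨_, 6, 7 * Fintype.card F, hlb, OddExcNum.rk_of_rk hr6, ?_, ?_⟩ e.symm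
    · refine card_le.trans ?_
      calc Fintype.card F ^ 14 = (Fintype.card F ^ 2) ^ 7 := by rw [← pow_mul]
        _ ≤ (2 ^ Fintype.card F) ^ 7 := Nat.pow_le_pow_left (sq_le_two_pow (by omega)) 7
        _ = 2 ^ (7 * Fintype.card F) := by rw [← pow_mul, mul_comm]
    · obtain ⟨m, hm⟩ : ∃ m, Fintype.card F = m + 9 := ⟨Fintype.card F - 9, by omega⟩
      rw [hm]
      have e1 : m + 9 - 1 = m + 8 := by omega
      have e2 : 7 * (m + 9) + 2 * 6 - 1 = 7 * m + 74 := by omega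
      rw [e1, e2]
      nlinarith only []
  · have ho := RowGTwo.odd_card (F := F) (p := p) hp2
    have hq : Fintype.card F = 7 := by
      obtain ⟨k, hk⟩ := ho
      omega
    have hσ : ∀ σ : RingAut F, σ = 1 := by
      rcases RowGTwo.card_cases (F := F) (p := p) hp2 with h | h
      · exact h
      · exact absurd h h9
    refine OddExcNum.NumX.congr ⟨_, 4, 40, hlb, OddExcNum.rk_of_rk (hr4 hσ), ?_, ?_⟩ e.symm
    · refine card_le.trans ?_
      rw [hq]
      norm_num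
    · rw [hq]
      norm_num

end Cfsg.Agent.Omega.ML.GTwoTorus

end

section


/-!
# (ML), the K-list end: `G₂(5)` (helper232)

Both pairs of the Heisenberg group of the root 11, `(X 6, X 10)` and `(X 9, X 8)`, and the torus: `LB (G₂(5)) 100`.
-/

set_option autoImplicit false

universe u v w

namespace Cfsg.Agent.Omega.ML.RowGTwoFive

open Cfsg Cfsg.Lie Cfsg.Agent.ChevalleyStructure Cfsg.Agent.ChevalleyStructure.Elts
  Cfsg.Agent.Omega.Lie.HeisF Cfsg.Agent.Omega.Lie Cfsg.Agent.Omega.TwoF Cfsg.Agent.Omega.TwoF.GTwoLB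
  Cfsg.Agent.Omega.ML.Num Cfsg.Agent.Omega.ML.GTwoTorus

variable {F : Type u} [Field F]

theorem c11_9 (t u : F) : X 11 t * X 9 u = X 9 u * X 11 t :=
  rel0 (r := 9) (s := 11) (by norm_num) (by norm_num) (by decide) (by decide) (by decide +kernel) u t

theorem c11_8 (t u : F) : X 11 t * X 8 u = X 8 u * X 11 t :=
  rel0 (r := 8) (s := 11) (by norm_num) (by norm_num) (by decide) (by decide) (by decide +kernel) u t

theorem c6_9 (t u : F) : X 6 t * X 9 u = X 9 u * X 6 t :=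
  rel0 (r := 9) (s := 6) (by norm_num) (by norm_num) (by decide) (by decide) (by decide +kernel) u t

theorem c10_9 (t u : F) : X 10 t * X 9 u = X 9 u * X 10 t :=
  rel0 (r := 9) (s := 10) (by norm_num) (by norm_num) (by decide) (by decide) (by decide +kernel) u t

theorem c8_6 (t u : F) : X 8 t * X 6 u = X 6 u * X 8 t :=
  rel0 (r := 6) (s := 8) (by norm_num) (by norm_num) (by decide) (by decide) (by decide +kernel) u t

/-- `[x_8(t), x_9(u)] = x_11(3 t u)` -/
theorem conj8_9 (t u : F) : X 8 t * X 9 u * (X 8 t)⁻¹ = X 9 u * X 11 (3 * t * u) := by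
  have h := rel1 (r := 8) (s := 9) (k := 11) (c := 3) (by norm_num) (by norm_num) (by decide) (by decide)
    (by decide +kernel) t u
  rw [mul_inv_eq_iff_eq_mul, mul_assoc, c11_8, ← mul_assoc, h]
  rw [mul_assoc (X 8 t * X 9 u), ← X_add]
  have e : ((3 : ℤ) : F) * -t * u + 3 * t * u = 0 := by push_cast; ring
  rw [e, GTwoLB.X_zero, mul_one]

/-- A commuting pair of powers of one element. -/
theorem lc_self {K : Type u} [Group K] (g : K) : LC.{u, v} g g := by
  intro L _ π hπ a b ha hb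
  have h1 : π (a⁻¹ * b) = 1 := by rw [map_mul, map_inv, ha, hb, inv_mul_cancel]
  have h2 := hπ.comm h1 a
  calc a * b = a * (a * (a⁻¹ * b)) := by group
    _ = a * ((a⁻¹ * b) * a) := by rw [h2]
    _ = b * a := by group

theorem lc_pow {K : Type u} [Group K] (g : K) (m n : ℕ) : LC.{u, v} (g ^ m) (g ^ n) := by
  have h1 : g ^ n ∈ cenLC.{u, v} g := pow_mem (mem_cenLC.2 (lc_self g)) n
  have h2 : g ∈ cenLC.{u, v} (g ^ n) := mem_cenLC.2 (mem_cenLC.1 h1).symm
  exact mem_cenLC.1 (pow_mem h2 m)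

theorem lc9_9 [Finite F] (h5 : Nat.card F = 5) (t u : F) : LC.{u, v} (X 9 t) (X 9 u) := by
  have key : ∀ t : F, ∃ n : ℕ, X 9 t = X 9 1 ^ n := by
    intro t
    obtain ⟨n, hn⟩ : ∃ n : ℕ, (n : F) = t := by
      have hc : Nat.card (AddSubgroup.zmultiples (1 : F)) = Nat.card F := by
        have h1 : Nat.card (AddSubgroup.zmultiples (1 : F)) ∣ 5 := h5 ▸ AddSubgroup.card_addSubgroup_dvd_card _
        rcases (Nat.dvd_prime (by norm_num)).1 h1 with h2 | h2
        · exfalso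
          rw [AddSubgroup.card_eq_one, AddSubgroup.zmultiples_eq_bot] at h2
          exact one_ne_zero h2
        · rw [h2, h5]
      have ht : t ∈ AddSubgroup.zmultiples (1 : F) := by
        rw [AddSubgroup.eq_top_of_card_eq _ hc]
        exact AddSubgroup.mem_top t
      obtain ⟨n, hn⟩ := mem_multiples_iff_mem_zmultiples.2 ht
      exact ⟨n, by simpa using hn⟩
    exact ⟨n, by rw [GTwoLB.X_pow, mul_one, hn]⟩
  obtain ⟨m, hm⟩ := key t
  obtain ⟨n, hn⟩ := key u
  rw [hm, hn]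
  exact lc_pow _ _ _

theorem lc6_9 {c : F} (hc : c * c = -1) (t u : F) : LC.{u, v} (X 6 t) (X 9 u) := by
  have hc0 : c ≠ 0 := by
    rintro rfl
    have : (1 : F) = 0 := by linear_combination hc
    exact one_ne_zero this
  refine LC.of_inv (s := H 1 c) (c6_9 t u) ?_ ?_
  · have e : chevG2.cartan 1 6 = 2 := by decide
    rw [H_conj (by norm_num) (by norm_num) hc0, e, ← X_neg]
    congr 1
    rw [show (2 : ℤ) = (2 : ℕ) by norm_num, zpow_natCast, pow_two, hc]
    ring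
  · have e : chevG2.cartan 1 9 = 0 := by decide
    rw [H_conj (by norm_num) (by norm_num) hc0, e, zpow_zero, one_mul]

theorem lc11_9 (t u : F) : LC.{u, v} (X 11 t) (X 9 u) :=
  LC.of_inv (s := T F 1) (c11_9 t u) (T_inv (by norm_num) (by norm_num) (by decide) t)
    (T_fix (by norm_num) (by norm_num) (by decide) u)

/-- **The lower bound** `100`. -/
theorem lb [Finite F] (h5 : Nat.card F = 5) [CharP F 5] [IsSimpleGroup ↥(chevG2.group F)] :
    Heis.LB.{u, v, w} ↥(chevG2.group F) ((Nat.card F - 1) * Nat.card F ^ 2) := by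
  have hp : Fact (Nat.Prime 5) := ⟨by norm_num⟩
  have h50 : (5 : F) = 0 := by exact_mod_cast CharP.cast_eq_zero F 5
  have hc : (2 : F) * 2 = -1 := by linear_combination h50
  have h3 : (3 : F) ≠ 0 := by
    intro h
    have : (1 : F) = 0 := by linear_combination 2 * h - h50
    exact one_ne_zero this
  have hH : FH 5 2 (X (F := F) 11) ![X 6, X 9] ![X 10, X 8] ![(-1 : F), 3] :=
    { add := X_add 11
      A_pow := by
        intro j t
        have h0 : ∀ r, (X r t : ↥(chevG2.group F)) ^ 5 = 1 := fun r => by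
          rw [GTwoLB.X_pow, CharP.cast_eq_zero, zero_mul, GTwoLB.X_zero]
        fin_cases j
        · exact h0 6
        · exact h0 9
      XA := by
        intro j t u
        fin_cases j
        · exact c11_6 t u
        · exact c11_9 t u
      XB := by
        intro j t u
        fin_cases j
        · exact c11_10 t u
        · exact c11_8 t u
      AA := by
        intro i j t u
        fin_cases i <;> fin_cases j
        · exact _root_.Cfsg.Agent.Omega.TwoF.GTwoLB.X_comm 6 t u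
        · exact c6_9 t u
        · exact (c6_9 u t).symm
        · exact _root_.Cfsg.Agent.Omega.TwoF.GTwoLB.X_comm 9 t u
      BA := by
        intro i j hij t u
        fin_cases i <;> fin_cases j
        · exact absurd rfl hij
        · exact c10_9 t u
        · exact c8_6 t u
        · exact absurd rfl hij
      conj := by
        intro j t u
        fin_cases j
        · exact conj10_6 t u
        · exact conj8_9 t u
      c_ne := by
        intro j
        fin_cases j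
        · exact neg_ne_zero.2 one_ne_zero
        · exact h3 }
  have hinv : ∀ r : ℕ, r < 12 → (Odd (chevG2.cartan 0 r) ∧ Even (chevG2.cartan 1 r) ∨
      Even (chevG2.cartan 0 r) ∧ Odd (chevG2.cartan 1 r)) → ∀ t : F,
      T F 0 * T F 1 * X r t * (T F 0 * T F 1)⁻¹ = (X r t)⁻¹ := by
    intro r hr h t
    have e : T F 0 * T F 1 * X r t * (T F 0 * T F 1)⁻¹ = T F 0 * (T F 1 * X r t * (T F 1)⁻¹) * (T F 0)⁻¹ := by
      group
    rw [e]
    rcases h with ⟨h0, h1⟩ | ⟨h0, h1⟩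
    · rw [T_fix (by norm_num) hr h1, T_inv (by norm_num) hr h0]
    · rw [T_inv (by norm_num) hr h1, ← X_neg, T_fix (by norm_num) hr h0]
  have hfix : ∀ r : ℕ, r < 12 → (Odd (chevG2.cartan 0 r) ∧ Odd (chevG2.cartan 1 r)) → ∀ t : F,
      T F 0 * T F 1 * X r t * (T F 0 * T F 1)⁻¹ = X r t := by
    intro r hr h t
    have e : T F 0 * T F 1 * X r t * (T F 0 * T F 1)⁻¹ = T F 0 * (T F 1 * X r t * (T F 1)⁻¹) * (T F 0)⁻¹ := by
      group
    rw [e, T_inv (by norm_num) hr h.2, ← X_neg, T_inv (by norm_num) hr h.1, ← X_neg, neg_neg]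
  refine TorusLift.LB.fh_torus.{u, v, w} (by norm_num) hH (s := T F 0 * T F 1)
    (hinv 11 (by norm_num) (by decide)) ?_ ?_ lc11_11 ?_ ?_
    ⟨1, fun h => one_ne_zero ((X_eq_one (by norm_num)).1 h)⟩
    (T := fun c => H 1 c)
    (fun c hc => by
      have h0 : H 1 c * T F 0 = T F 0 * H 1 c := H_comm (by norm_num) (by norm_num) hc (neg_ne_zero.2 one_ne_zero)
      have h1 : H 1 c * T F 1 = T F 1 * H 1 c := H_comm (by norm_num) (by norm_num) hc (neg_ne_zero.2 one_ne_zero)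
      rw [← mul_assoc, h0, mul_assoc, h1, mul_assoc])
    (fun c hc t => by
      have e : chevG2.cartan 1 11 = 1 := by decide
      show H 1 c * X 11 t * (H 1 c)⁻¹ = X 11 (c * t)
      rw [H_conj (by norm_num) (by norm_num) hc, e, zpow_one])
  · intro j t
    fin_cases j
    · exact hinv 6 (by norm_num) (by decide) t
    · exact hinv 9 (by norm_num) (by decide) t
  · intro j t
    fin_cases j
    · exact hfix 10 (by norm_num) (by decide) t
    · exact hfix 8 (by norm_num) (by decide) t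
  · intro j t u
    fin_cases j
    · exact lc11_6 t u
    · exact lc11_9 t u
  · intro i j t u
    fin_cases i <;> fin_cases j
    · exact lc6_6 t u
    · exact lc6_9 hc t u
    · exact (lc6_9 hc u t).symm
    · exact lc9_9 h5 t u

/-- **`G₂(5)`.** -/
theorem numML {K : Type u} [Group K] {F : Type} [Field F] [Fintype F] (h5 : Fintype.card F = 5)
    (e : K ≃* ↥(chevG2.group F)) : NumML.{u, v} K := by
  have hp : Fact (Nat.Prime 5) := ⟨by norm_num⟩
  have hch : CharP F 5 := by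
    have h1 : ((5 : ℕ) : F) = 0 := by
      rw [← h5]
      exact FiniteField.cast_card_eq_zero F
    exact (CharP.charP_iff_prime_eq_zero (by norm_num)).2 h1
  have h2 : (2 : F) ≠ 0 := RowGTwo.two_ne (p := 5) Fact.out (by norm_num)
  have hs := (RowGTwo.simple' h2).1
  have hlb := lb.{0, u, v} (F := F) (by rw [Nat.card_eq_fintype_card, h5])
  rw [Nat.card_eq_fintype_card, h5] at hlb
  obtain ⟨hr6, hr4⟩ := RowGTwo.rk (F := F) (p := 5) Fact.out (by norm_num)
  apply OddExc.of_numX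
  refine OddExcNum.NumX.congr ⟨_, 6, 40, hlb, OddExcNum.rk_of_rk hr6, ?_, ?_⟩ e.symm
  · refine card_le.trans ?_
    rw [h5]
    norm_num
  · norm_num

/-- `G₂(5)` -/
def IsGTwoFive (S : Type u) [Group S] : Prop :=
  ∃ (F : Type) (_ : Field F) (_ : Fintype F), Fintype.card F = 5 ∧ Nonempty (S ≃* ↥(chevG2.group F))

/-- **The row `G₂(5)`.** -/
theorem dead : Rows.Dead.{u, v} (fun S _ => IsGTwoFive S) := by
  rintro H _ _ M _ _ _ K T A hI ⟨F, _, _, h5, ⟨e⟩⟩
  exact Num.dead H M K T A hI (numML h5 e)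

theorem deadZ : LocRow.DeadZ.{u, v} @IsGTwoFive := LocRow.Dead.deadZ dead

end Cfsg.Agent.Omega.ML.RowGTwoFive

end

section


/-!
# Unitary Heisenberg configurations and odd central extensions

`Herm σ p T Zs g U i₀`: root elements `T i c` (`c` in a field `F` with an involution `σ`) whose commutators lie in a
set `Zs` of central elements, inverted by `g`, and tori multiplying the parameter `c` by the elements `ζ` of a set
`U` of elements of norm one which generates `F` additively.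

In an odd central extension the commutator form of the lifts inverted by `g` is
`β (c, d) = f (σ c * d)` with `f` trivial on the norms; hence the configuration lifts to an `FHeis` over the fixed
field of `σ` (`Herm.lift`; tori multiply the parameter of the centre by norms), and one gets the lower bound `ord_p(2) * |F₀| ^ |ι|` (`Herm.lb`).
-/

set_option autoImplicit false
set_option linter.dupNamespace false

universe u v w

namespace Cfsg.Agent.Omega.ML.HermLift

open Cfsg.Agent.Omega.Lie.FHeis Cfsg.Agent.Omega.Lie.HeisLift Cfsg.Agent.Omega.Lie.Heis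

/-- The configuration. -/
structure Herm {F : Type*} [Field F] (σ : F →+* F) {ι : Type*} {K : Type*} [Group K] (p : ℕ) (T : ι → F → K)
    (Zs : Set K) (g : K) (U : Set F) (i₀ : ι) : Prop where
  zp : ∀ z ∈ Zs, z ^ p = 1
  zT : ∀ z ∈ Zs, ∀ i c, z * T i c = T i c * z
  zg : ∀ z ∈ Zs, z * g = g * z
  gT : ∀ i c, g * T i c * g⁻¹ = (T i c)⁻¹
  com : ∀ i c d, T i c * T i d * (T i c)⁻¹ * (T i d)⁻¹ ∈ Zs
  add : ∀ i c d, ∃ z ∈ Zs, T i (c + d) = T i c * T i d * z
  add' : ∀ i c d, σ c * d = c * σ d → T i (c + d) = T i c * T i d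
  cr : ∀ i j c d, i ≠ j → T i c * T j d = T j d * T i c
  tor : ∀ i, ∀ ζ ∈ U, ∃ t, t * g = g * t ∧ (∀ z ∈ Zs, t * z = z * t) ∧ Nat.Coprime (orderOf t) p ∧
    ∀ c, t * T i c * t⁻¹ = T i (ζ * c)
  tor2 : ∀ i j, i ≠ j → ∀ ζ ∈ U, ∃ t, t * g = g * t ∧ (∀ c, t * T i c * t⁻¹ = T i (ζ * c)) ∧
    ∀ c, t * T j c * t⁻¹ = T j (σ ζ * c)
  tor3 : ∀ i j, i ≠ j → ∃ a b, a * b ≠ 1 ∧ ∃ t, t * g = g * t ∧ (∀ c, t * T i c * t⁻¹ = T i (a * c)) ∧
    ∀ c, t * T j c * t⁻¹ = T j (b * c)
  perm : ∀ i, ∃ w, w * g = g * w ∧ (∀ z ∈ Zs, w * z = z * w) ∧ Nat.Coprime (orderOf w) p ∧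
    ∀ c, w * T i₀ c * w⁻¹ = T i c

/-- A homomorphism maps configurations to configurations. -/
theorem Herm.map {F : Type*} [Field F] {σ : F →+* F} {ι : Type*} {K : Type*} [Group K] {p : ℕ} {T : ι → F → K}
    {Zs : Set K} {g : K} {U : Set F} {i₀ : ι} (h : Herm σ p T Zs g U i₀) {H : Type*} [Group H] (f : K →* H) :
    Herm σ p (fun i c => f (T i c)) (f '' Zs) (f g) U i₀ where
  zp := by
    rintro _ ⟨z, hz, rfl⟩
    rw [← map_pow, h.zp z hz, map_one]
  zT := by
    rintro _ ⟨z, hz, rfl⟩ i c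
    rw [← map_mul, h.zT z hz, map_mul]
  zg := by
    rintro _ ⟨z, hz, rfl⟩
    rw [← map_mul, h.zg z hz, map_mul]
  gT i c := by rw [← map_inv, ← map_mul, ← map_mul, h.gT, map_inv]
  com i c d := ⟨_, h.com i c d, by rw [map_mul, map_mul, map_mul, map_inv, map_inv]⟩
  add i c d := by
    obtain ⟨z, hz, e⟩ := h.add i c d
    exact ⟨_, ⟨z, hz, rfl⟩, by rw [e, map_mul, map_mul]⟩
  add' i c d hcd := by rw [h.add' i c d hcd, map_mul]
  cr i j c d hij := by rw [← map_mul, h.cr i j c d hij, map_mul]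
  tor i ζ hζ := by
    obtain ⟨t, h1, h2, h3, h4⟩ := h.tor i ζ hζ
    refine ⟨f t, by rw [← map_mul, h1, map_mul], ?_, Nat.Coprime.coprime_dvd_left (orderOf_map_dvd f _) h3,
      fun c => by rw [← map_inv, ← map_mul, ← map_mul, h4]⟩
    rintro _ ⟨z, hz, rfl⟩
    rw [← map_mul, h2 z hz, map_mul]
  tor2 i j hij ζ hζ := by
    obtain ⟨t, h1, h2, h3⟩ := h.tor2 i j hij ζ hζ
    exact ⟨f t, by rw [← map_mul, h1, map_mul], fun c => by rw [← map_inv, ← map_mul, ← map_mul, h2],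
      fun c => by rw [← map_inv, ← map_mul, ← map_mul, h3]⟩
  tor3 i j hij := by
    obtain ⟨a, b, hab, t, h1, h2, h3⟩ := h.tor3 i j hij
    exact ⟨a, b, hab, f t, by rw [← map_mul, h1, map_mul], fun c => by rw [← map_inv, ← map_mul, ← map_mul, h2],
      fun c => by rw [← map_inv, ← map_mul, ← map_mul, h3]⟩
  perm i := by
    obtain ⟨w, h1, h2, h3, h4⟩ := h.perm i
    refine ⟨f w, by rw [← map_mul, h1, map_mul], ?_, Nat.Coprime.coprime_dvd_left (orderOf_map_dvd f _) h3,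
      fun c => by rw [← map_inv, ← map_mul, ← map_mul, h4]⟩
    rintro _ ⟨z, hz, rfl⟩
    rw [← map_mul, h2 z hz, map_mul]

/-- The fixed field. -/
def fix {F : Type*} [Field F] (σ : F →+* F) : Subfield F := RingHom.eqLocusField σ (RingHom.id F)

theorem mem_fix {F : Type*} [Field F] {σ : F →+* F} {x : F} : x ∈ fix σ ↔ σ x = x := Iff.rfl

theorem fix_coe {F : Type*} [Field F] {σ : F →+* F} (x : fix σ) : σ x = x := mem_fix.1 x.2

/-- A biadditive map adjoint on the generators. -/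
theorem adj {F : Type*} [Field F] {L : Type*} [Group L] {f : F → F → L} (σ τ : F → F)
    (hσ : ∀ a b, σ (a + b) = σ a + σ b) (hτ : ∀ a b, τ (a + b) = τ a + τ b)
    (hl : ∀ a b d, f (a + b) d = f a d * f b d) (hr : ∀ c a b, f c (a + b) = f c a * f c b) {U : Set F}
    (hU : AddSubgroup.closure U = ⊤) (h : ∀ ζ ∈ U, ∀ c d, f (σ ζ * c) d = f c (τ ζ * d)) (a c d : F) :
    f (σ a * c) d = f c (τ a * d) := by
  have hσ0 : σ 0 = 0 := by
    have := hσ 0 0
    rw [add_zero] at this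
    exact left_eq_add.1 this
  have hτ0 : τ 0 = 0 := by
    have := hτ 0 0
    rw [add_zero] at this
    exact left_eq_add.1 this
  have hσn : ∀ a, σ (-a) = -σ a := by
    intro a
    have := hσ a (-a)
    rw [add_neg_cancel, hσ0] at this
    exact (neg_eq_of_add_eq_zero_right this.symm).symm
  have hτn : ∀ a, τ (-a) = -τ a := by
    intro a
    have := hτ a (-a)
    rw [add_neg_cancel, hτ0] at this
    exact (neg_eq_of_add_eq_zero_right this.symm).symm
  have ha : a ∈ AddSubgroup.closure U := hU ▸ AddSubgroup.mem_top a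
  induction ha using AddSubgroup.closure_induction generalizing c d with
  | mem x hx => exact h x hx c d
  | zero =>
    rw [hσ0, hτ0, zero_mul, zero_mul, add_zero' (f := fun a => f a d) (fun a b => hl a b d),
      add_zero' (f := fun a => f c a) (fun a b => hr c a b)]
  | add x y _ _ ihx ihy => rw [hσ, hτ, add_mul, add_mul, hl, hr, ihx, ihy]
  | neg x _ ih =>
    rw [hσn, hτn, neg_mul, neg_mul, add_neg' (f := fun a => f a d) (fun a b => hl a b d),
      add_neg' (f := fun a => f c a) (fun a b => hr c a b), ih]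

variable {F : Type*} [Field F] {σ : F →+* F} {ι : Type*} {K : Type u} [Group K] {L : Type v} [Group L] {π : L →* K}
  {p : ℕ} {T : ι → F → K} {Zs : Set K} {g : K} {U : Set F} {i₀ : ι}

/-- **The lift of a unitary Heisenberg configuration.** -/
theorem Herm.lift (h : Herm σ p T Zs g U i₀) (hσ : ∀ x, σ (σ x) = x) (hU1 : ∀ ζ ∈ U, σ ζ * ζ = 1)
    (hU : AddSubgroup.closure U = ⊤) (hN : ∀ a, σ a = a → ∃ c, σ c * c = a) {τ : F} (hτ : σ τ = -τ)
    (hπ : Function.Surjective π) (hc : π.ker ≤ Subgroup.center L) (ho : Odd (Nat.card π.ker)) :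
    ∃ (z' : fix σ → L) (x' y' : ι → fix σ → L), FHeis z' x' y' ∧
      (∀ s, π (z' s) = T i₀ 1 * T i₀ (-τ * s) * (T i₀ 1)⁻¹ * (T i₀ (-τ * s))⁻¹) ∧
      ∀ (t : L) (a : F), π t * g = g * π t → (∀ c, π t * T i₀ c * (π t)⁻¹ = T i₀ (a * c)) →
        ∀ s s' : fix σ, (s' : F) = σ a * a * s → t * z' s * t⁻¹ = z' s' := by
  obtain ⟨g, rfl⟩ := hπ g
  choose X hX1 hX2 using fun i c => exists_inv_lift hπ hc ho (h.gT i c)
  -- lifts of `Zs` commute with all `X`
  have zX : ∀ a : L, π a ∈ Zs → ∀ i c, a * X i c = X i c * a := by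
    intro a ha i c
    exact comm_of_inv hc ho (hX2 i c) (by rw [hX1, h.zT _ ha]) (h.zg _ ha)
  have hsum : ∀ i c d, ∃ a : L, (∀ j r, a * X j r = X j r * a) ∧ X i (c + d) = X i c * X i d * a := by
    intro i c d
    obtain ⟨z, hz, e⟩ := h.add i c d
    refine ⟨(X i c * X i d)⁻¹ * X i (c + d), zX _ ?_, by group⟩
    rw [map_mul, map_inv, map_mul, hX1, hX1, hX1, e, inv_mul_cancel_left]
    exact hz
  -- the commutators `β`
  let γ : ι → ι → F → F → L := fun i j c d => X i c * X j d * (X i c)⁻¹ * (X j d)⁻¹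
  have hγ : ∀ i j c d, π (γ i j c d) = T i c * T j d * (T i c)⁻¹ * (T j d)⁻¹ := by
    intro i j c d
    show π (X i c * X j d * (X i c)⁻¹ * (X j d)⁻¹) = _
    rw [map_mul, map_mul, map_mul, map_inv, map_inv, hX1, hX1]
  have γX : ∀ i j c d l r, γ i j c d * X l r = X l r * γ i j c d := by
    intro i j c d l r
    by_cases hij : i = j
    · subst hij
      exact zX _ (by rw [hγ]; exact h.com i c d) l r
    · refine (mem_center hc (c := γ i j c d) ?_ _).symm
      rw [hγ, h.cr i j c d hij]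
      group
  have γl : ∀ i j c c' d, γ i j (c + c') d = γ i j c d * γ i j c' d := by
    intro i j c c' d
    obtain ⟨a, ha, e⟩ := hsum i c c'
    show X i (c + c') * X j d * (X i (c + c'))⁻¹ * (X j d)⁻¹ = _
    rw [e]
    calc X i c * X i c' * a * X j d * (X i c * X i c' * a)⁻¹ * (X j d)⁻¹
        = X i c * X i c' * (a * X j d) * a⁻¹ * (X i c * X i c')⁻¹ * (X j d)⁻¹ := by group
      _ = X i c * X i c' * (X j d * a) * a⁻¹ * (X i c * X i c')⁻¹ * (X j d)⁻¹ := by rw [ha]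
      _ = X i c * γ i j c' d * (X j d * (X i c)⁻¹ * (X j d)⁻¹) := by
          show _ = X i c * (X i c' * X j d * (X i c')⁻¹ * (X j d)⁻¹) * (X j d * (X i c)⁻¹ * (X j d)⁻¹)
          group
      _ = γ i j c' d * (X i c * (X j d * (X i c)⁻¹ * (X j d)⁻¹)) := by rw [← γX i j c' d i c]; group
      _ = γ i j c' d * γ i j c d := by
          show _ = γ i j c' d * (X i c * X j d * (X i c)⁻¹ * (X j d)⁻¹)
          group
      _ = γ i j c d * γ i j c' d := by
          have h1 : Commute (γ i j c' d) (X i c) := γX i j c' d i c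
          have h2 : Commute (γ i j c' d) (X j d) := γX i j c' d j d
          exact ((h1.mul_right h2).mul_right h1.inv_right).mul_right h2.inv_right
  have γr : ∀ i j c d d', γ i j c (d + d') = γ i j c d * γ i j c d' := by
    intro i j c d d'
    have hinv : ∀ r, γ i j c r = (γ j i r c)⁻¹ := by
      intro r
      show X i c * X j r * (X i c)⁻¹ * (X j r)⁻¹ = (X j r * X i c * (X j r)⁻¹ * (X i c)⁻¹)⁻¹
      group
    have h1 : Commute (γ j i d c) (X j d') := γX j i d c j d'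
    have h2 : Commute (γ j i d c) (X i c) := γX j i d c i c
    have h3 : Commute (γ j i d c) (γ j i d' c) :=
      ((h1.mul_right h2).mul_right h1.inv_right).mul_right h2.inv_right
    rw [hinv, hinv, hinv, γl, mul_inv_rev, ← mul_inv_rev, h3.eq, mul_inv_rev]
  -- conjugation
  have hconj : ∀ (t : L) (i : ι) (a : F), π t * π g = π g * π t → (∀ c, π t * T i c * (π t)⁻¹ = T i (a * c)) →
      ∀ c, t * X i c * t⁻¹ = X i (a * c) := by
    intro t i a h1 h2 c
    exact inv_lift_unique hc ho (conj_inv hc (hX2 i c) h1) (hX2 i _) (by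
      rw [map_mul, map_mul, map_inv, hX1, hX1, h2])
  have hγconj : ∀ (t : L) (i j : ι) (c d : F), t * γ i j c d * t⁻¹ =
      (t * X i c * t⁻¹) * (t * X j d * t⁻¹) * (t * X i c * t⁻¹)⁻¹ * (t * X j d * t⁻¹)⁻¹ := by
    intro t i j c d
    show t * (X i c * X j d * (X i c)⁻¹ * (X j d)⁻¹) * t⁻¹ = _
    group
  have hcop : ∀ (t z : L), π z ∈ Zs → (∀ z ∈ Zs, π t * z = z * π t) → Nat.Coprime (orderOf (π t)) p →
      t * z * t⁻¹ = z := by
    intro t z hz h1 h2
    have h3 : t * z = z * t := comm_of_coprime hc (m := orderOf (π t)) (n := p) (h1 _ hz)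
      (pow_orderOf_eq_one _) (h.zp _ hz) h2
    rw [h3, mul_inv_cancel_right]
  -- the form on the root groups
  have βU : ∀ i, ∀ ζ ∈ U, ∀ c d, γ i i (ζ * c) (ζ * d) = γ i i c d := by
    intro i ζ hζ c d
    obtain ⟨t, h1, h2, h3, h4⟩ := h.tor i ζ hζ
    obtain ⟨t, rfl⟩ := hπ t
    have h5 := hconj t i ζ h1 h4
    have h6 := hcop t (γ i i c d) (by rw [hγ]; exact h.com i c d) h2 h3
    rw [hγconj, h5, h5] at h6
    exact h6
  have βadj : ∀ i a c d, γ i i (a * c) d = γ i i c (σ a * d) := by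
    intro i
    refine adj (f := γ i i) id σ (fun _ _ => rfl) (map_add σ) (γl i i) (γr i i) hU ?_
    intro ζ hζ c d
    show γ i i (ζ * c) d = γ i i c (σ ζ * d)
    rw [← βU i ζ hζ c, ← mul_assoc, mul_comm ζ (σ ζ), hU1 ζ hζ, one_mul]
  have β1 : ∀ i c d, γ i i c d = γ i i 1 (σ c * d) := by
    intro i c d
    rw [← βadj i c 1 d, mul_one]
  have βN : ∀ i a, σ a = a → γ i i 1 a = 1 := by
    intro i a ha
    obtain ⟨c, rfl⟩ := hN a ha
    rw [← β1]
    show X i c * X i c * (X i c)⁻¹ * (X i c)⁻¹ = 1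
    group
  have βsym : ∀ i c d, σ c * d = c * σ d → γ i i c d = 1 := by
    intro i c d hcd
    rw [β1, βN]
    rw [map_mul, hσ, hcd]
  have comm_of : ∀ i j c d, γ i j c d = 1 → X i c * X j d = X j d * X i c := by
    intro i j c d h1
    calc X i c * X j d = (X i c * X j d * (X i c)⁻¹ * (X j d)⁻¹) * (X j d * X i c) := by group
      _ = X j d * X i c := by
        have : X i c * X j d * (X i c)⁻¹ * (X j d)⁻¹ = 1 := h1
        rw [this, one_mul]
  have hadd : ∀ i c d, σ c * d = c * σ d → X i (c + d) = X i c * X i d := by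
    intro i c d hcd
    apply inv_lift_unique hc ho (hX2 _ _) _ (by rw [map_mul, hX1, hX1, hX1, h.add' i c d hcd])
    calc g * (X i c * X i d) * g⁻¹ = (g * X i c * g⁻¹) * (g * X i d * g⁻¹) := by group
      _ = (X i d * X i c)⁻¹ := by rw [hX2, hX2]; group
      _ = (X i c * X i d)⁻¹ := by rw [comm_of i i c d (βsym i c d hcd)]
  -- all pairs give the same form
  have βw : ∀ i c d, γ i i c d = γ i₀ i₀ c d := by
    intro i c d
    obtain ⟨t, h1, h2, h3, h4⟩ := h.perm i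
    obtain ⟨t, rfl⟩ := hπ t
    have h5 : ∀ c, t * X i₀ c * t⁻¹ = X i c := fun c =>
      inv_lift_unique hc ho (conj_inv hc (hX2 i₀ c) h1) (hX2 i _) (by rw [map_mul, map_mul, map_inv, hX1, hX1, h4])
    have h6 := hcop t (γ i₀ i₀ c d) (by rw [hγ]; exact h.com i₀ c d) h2 h3
    rw [hγconj, h5, h5] at h6
    exact h6
  -- different root groups commute
  have hcr : ∀ i j, i ≠ j → ∀ c d, X i c * X j d = X j d * X i c := by
    intro i j hij
    have hk : ∀ c d (t : L), t * γ i j c d * t⁻¹ = γ i j c d := by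
      intro c d t
      rw [mem_center hc (c := γ i j c d) (by rw [hγ, h.cr i j c d hij]; group) t, mul_inv_cancel_right]
    have h1 : ∀ a c d, γ i j (a * c) d = γ i j c (a * d) := by
      refine adj (f := γ i j) id id (fun _ _ => rfl) (fun _ _ => rfl) (γl i j) (γr i j) hU ?_
      intro ζ hζ c d
      show γ i j (ζ * c) d = γ i j c (ζ * d)
      obtain ⟨t, h1, h2, h3⟩ := h.tor2 i j hij ζ hζ
      obtain ⟨t, rfl⟩ := hπ t
      have h4 := hk c (ζ * d) t
      rw [hγconj, hconj t i ζ h1 h2, hconj t j _ h1 h3, ← mul_assoc, hU1 ζ hζ, one_mul] at h4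
      exact h4
    obtain ⟨a, b, hab, t, h2, h3, h4⟩ := h.tor3 i j hij
    obtain ⟨t, rfl⟩ := hπ t
    have h5 : ∀ x, γ i j 1 (a * b * x) = γ i j 1 x := by
      intro x
      have h6 := hk 1 x t
      rw [hγconj, hconj t i a h2 h3, hconj t j b h2 h4] at h6
      have h7 : γ i j (a * 1) (b * x) = γ i j 1 x := h6
      rw [h1, ← mul_assoc] at h7
      exact h7
    have h6 : ∀ x, γ i j 1 x = 1 := by
      intro x
      have h7 : a * b - 1 ≠ 0 := sub_ne_zero.2 hab
      have h8 := γr i j 1 (a * b * ((a * b - 1)⁻¹ * x)) (-((a * b - 1)⁻¹ * x))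
      rw [h5, add_neg' (f := fun a => γ i j 1 a) (fun a b => γr i j 1 a b), mul_inv_cancel] at h8
      rw [← h8]
      congr 1
      field_simp
      ring
    intro c d
    apply comm_of
    have h7 := h1 c 1 d
    rw [mul_one] at h7
    rw [h7, h6]
  -- the configuration
  have hneg : σ (-τ) = τ := by rw [map_neg, hτ, neg_neg]
  refine ⟨fun s => γ i₀ i₀ 1 (-τ * s), fun i s => X i s, fun i s => X i (τ * s), ?_, fun s => hγ i₀ i₀ 1 _, ?_⟩
  swap
  · intro t a h1 h2 s s' hs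
    show t * γ i₀ i₀ 1 (-τ * s) * t⁻¹ = γ i₀ i₀ 1 (-τ * s')
    rw [hγconj, hconj t i₀ a h1 h2, hconj t i₀ a h1 h2]
    show γ i₀ i₀ (a * 1) (a * (-τ * s)) = γ i₀ i₀ 1 (-τ * s')
    rw [β1, mul_one, hs]
    congr 1
    ring
  refine ⟨fun s t => ?_, fun i s t => ?_, fun i s t => ?_, fun i s t => γX i₀ i₀ 1 _ i _,
    fun i s t => γX i₀ i₀ 1 _ i _, fun i j s t hij => hcr i j hij _ _, fun i j s t hij => (hcr j i (Ne.symm hij) _ _).symm,
    fun i s t => ?_⟩
  · show γ i₀ i₀ 1 (-τ * ((s + t : fix σ) : F)) = γ i₀ i₀ 1 (-τ * s) * γ i₀ i₀ 1 (-τ * t)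
    rw [← γr]
    congr 1
    push_cast
    ring
  · show X i ((s + t : fix σ) : F) = X i s * X i t
    rw [← hadd i _ _ (by rw [fix_coe, fix_coe])]
    rfl
  · show X i (τ * ((s + t : fix σ) : F)) = X i (τ * s) * X i (τ * t)
    rw [← hadd i _ _ (by rw [map_mul, map_mul, fix_coe, fix_coe, hτ]; ring)]
    congr 1
    push_cast
    ring
  · show X i (τ * t) * X i s * (X i (τ * t))⁻¹ = X i s * γ i₀ i₀ 1 (-τ * ((s * t : fix σ) : F))
    have h1 : γ i i (τ * t) s = γ i₀ i₀ 1 (-τ * ((s * t : fix σ) : F)) := by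
      rw [β1, βw, map_mul, hτ, fix_coe]
      congr 1
      push_cast
      ring
    rw [← h1, ← γX]
    show _ = X i (τ * t) * X i s * (X i (τ * t))⁻¹ * (X i s)⁻¹ * X i s
    group

/-- **The lower bound in all odd covers** of a simple group `K` with a unitary Heisenberg configuration. -/
theorem Herm.lb [Finite F] [Finite ι] {p : ℕ} [Fact p.Prime] [CharP F p] (hp2 : p ≠ 2) [IsSimpleGroup K]
    (h : Herm σ p T Zs g U i₀) (hσ : ∀ x, σ (σ x) = x) (hU1 : ∀ ζ ∈ U, σ ζ * ζ = 1)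
    (hU : AddSubgroup.closure U = ⊤) (hN : ∀ a, σ a = a → ∃ c, σ c * c = a) {τ : F} (hτ : σ τ = -τ)
    (hne : T i₀ 1 * T i₀ τ ≠ T i₀ τ * T i₀ 1) :
    LB.{u, v, w} K (orderOf (2 : ZMod p) * Nat.card (fix σ) ^ Nat.card ι) := by
  intro L _ _ π hπ hc ho hL V _ _ h2 φ hφ
  have : CharP (fix σ) p := (algebraMap (fix σ) F).charP (algebraMap (fix σ) F).injective p
  obtain ⟨z', x', y', h', hz', -⟩ := h.lift hσ hU1 hU hN hτ hπ hc ho
  refine two_pow_le hp2 h' φ h2 ⟨-1, fun h1 => hne ?_⟩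
  have h3 : z' (-1) ∈ π.ker := ker_le_ker hπ hc hL hφ (MonoidHom.mem_ker.2 h1)
  rw [MonoidHom.mem_ker, hz'] at h3
  have h4 : -τ * ((-1 : fix σ) : F) = τ := by
    push_cast
    ring
  rw [h4] at h3
  calc T i₀ 1 * T i₀ τ = (T i₀ 1 * T i₀ τ * (T i₀ 1)⁻¹ * (T i₀ τ)⁻¹) * (T i₀ τ * T i₀ 1) := by group
    _ = T i₀ τ * T i₀ 1 := by rw [h3, one_mul]

end Cfsg.Agent.Omega.ML.HermLift

end

section


/-!
# Unitary Heisenberg configurations and the torus

`Herm.lb_torus`: `HermLift.Herm.lb` together with elements `t` (commuting with `g`) which multiply the parameter of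
the root group `T i₀` by `a` with `σ a * a = c`, for all `c ≠ 0` in the fixed field `F₀`:
`LB K ((|F₀| - 1) * |F₀| ^ |ι|)` (helper351; `HermLift` is due to helper529).
-/

set_option autoImplicit false
set_option linter.dupNamespace false

universe u v w

namespace Cfsg.Agent.Omega.ML.HermLift

open Cfsg.Agent.Omega.Lie.FHeis Cfsg.Agent.Omega.Lie.HeisLift Cfsg.Agent.Omega.Lie.Heis

variable {F : Type*} [Field F] {σ : F →+* F} {ι : Type*} {K : Type u} [Group K] {p : ℕ} {T : ι → F → K} {Zs : Set K}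
  {g : K} {U : Set F} {i₀ : ι}

/-- **The lower bound with the torus in all odd covers.** -/
theorem Herm.lb_torus [Finite F] [Finite ι] [Fact p.Prime] [CharP F p] (hp2 : p ≠ 2) [IsSimpleGroup K]
    (h : Herm σ p T Zs g U i₀) (hσ : ∀ x, σ (σ x) = x) (hU1 : ∀ ζ ∈ U, σ ζ * ζ = 1)
    (hU : AddSubgroup.closure U = ⊤) (hN : ∀ a, σ a = a → ∃ c, σ c * c = a) {τ : F} (hτ : σ τ = -τ)
    (hne : T i₀ 1 * T i₀ τ ≠ T i₀ τ * T i₀ 1)
    (htor : ∀ c : F, σ c = c → c ≠ 0 → ∃ (t : K) (a : F), t * g = g * t ∧ (∀ d, t * T i₀ d * t⁻¹ = T i₀ (a * d)) ∧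
      σ a * a = c) :
    LB.{u, v, w} K ((Nat.card (fix σ) - 1) * Nat.card (fix σ) ^ Nat.card ι) := by
  intro L _ _ π hπ hc ho hL V _ _ h2 φ hφ
  have : CharP (fix σ) p := (algebraMap (fix σ) F).charP (algebraMap (fix σ) F).injective p
  obtain ⟨z', x', y', h', hz', hz''⟩ := h.lift hσ hU1 hU hN hτ hπ hc ho
  have hT : ∀ c : fix σ, ∃ T' : L, c ≠ 0 → ∀ s, T' * z' s * T'⁻¹ = z' (c * s) := by
    intro c
    by_cases hc0 : c = 0
    · exact ⟨1, fun h => absurd hc0 h⟩
    · obtain ⟨t, a, h1, h3, h4⟩ := htor c (fix_coe c) (fun h => hc0 (Subtype.ext h))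
      obtain ⟨t, rfl⟩ := hπ t
      exact ⟨t, fun _ s => hz'' t a h1 h3 s (c * s) (by rw [h4]; rfl)⟩
  choose T' hT' using hT
  refine TorusLB.two_pow_le_torus hp2 h' φ h2 ⟨-1, fun h1 => hne ?_⟩ hT'
  have h3 : z' (-1) ∈ π.ker := ker_le_ker hπ hc hL hφ (MonoidHom.mem_ker.2 h1)
  rw [MonoidHom.mem_ker, hz'] at h3
  have h4 : -τ * ((-1 : fix σ) : F) = τ := by
    push_cast
    ring
  rw [h4] at h3
  calc T i₀ 1 * T i₀ τ = (T i₀ 1 * T i₀ τ * (T i₀ 1)⁻¹ * (T i₀ τ)⁻¹) * (T i₀ τ * T i₀ 1) := by group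
    _ = T i₀ τ * T i₀ 1 := by rw [h3, one_mul]

end Cfsg.Agent.Omega.ML.HermLift

end

section


/-!
# `PSU_n(q)`, `q` odd: the Heisenberg bound over the field `F_q`

`lb : LB (PSU n F q) (ord_p(2) * q ^ (n - 2))` for all `n ≥ 3`, `(n, q) ≠ (4, 3)`.
-/

set_option autoImplicit false
set_option linter.unusedSectionVars false
set_option linter.unusedSimpArgs false

universe u v w

namespace Cfsg.Agent.Omega.ML.PsuLB

open Cfsg Matrix Cfsg.Agent.Omega.Lie.Heis Cfsg.Agent.Omega.ML.HermLift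
open Cfsg.Agent.LieClassical.HermBasic Cfsg.Agent.LieClassical.HermSiegel
open Cfsg.Agent.Omega.TwoF.LBPsu Cfsg.Agent.Omega.TwoF.RowPsu
open Cfsg.Agent.ClassicalGeometry.UnitAutBasic (pr)

section closure

variable {F : Type*} [Field F] [Fintype F] {q : ℕ}

/-- Equations `x ^ n = a` have at most `n` solutions. -/
theorem card_pow_eq_le (s : Finset F) {n : ℕ} (hn : 0 < n) {a : F} (h : ∀ x ∈ s, x ^ n = a) : s.card ≤ n := by
  classical
  have h1 : s ⊆ (Polynomial.nthRoots n a).toFinset := by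
    intro x hx
    rw [Multiset.mem_toFinset, Polynomial.mem_nthRoots hn]
    exact h x hx
  exact (Finset.card_le_card h1).trans ((Multiset.toFinset_card_le _).trans (Polynomial.card_nthRoots n a))

/-- The subfield generated additively by a submonoid. -/
theorem exists_subfield (M : Submonoid F) :
    ∃ S : Subfield F, (∀ x, x ∈ S ↔ x ∈ AddSubgroup.closure (M : Set F)) ∧ (∀ x ∈ M, x ∈ S) ∧
      ∃ m : ℕ, Fintype.card F = Nat.card S ^ m := by
  have hmem : ∀ x, x ∈ Subring.closure (M : Set F) ↔ x ∈ AddSubgroup.closure (M : Set F) := by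
    intro x
    rw [Subring.mem_closure_iff, Submonoid.closure_eq]
  let S : Subfield F :=
    { Subring.closure (M : Set F) with
      inv_mem' := by
        intro x hx
        by_cases h0 : x = 0
        · rw [h0, _root_.inv_zero]
          exact (Subring.closure (M : Set F)).zero_mem
        · have h1 : x ^ (Fintype.card F - 1) = 1 := FiniteField.pow_card_sub_one_eq_one x h0
          have h2 := Fintype.one_lt_card (α := F)
          obtain ⟨m, hm⟩ : ∃ m, Fintype.card F = m + 2 := ⟨Fintype.card F - 2, by omega⟩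
          have h3 : x⁻¹ = x ^ m := by
            apply inv_eq_of_mul_eq_one_left
            rw [← pow_succ, ← h1, hm]
            rfl
          rw [h3]
          exact (Subring.closure (M : Set F)).pow_mem hx _ }
  refine ⟨S, hmem, fun x hx => (hmem x).2 (AddSubgroup.subset_closure hx), Module.finrank S F, ?_⟩
  rw [← Nat.card_eq_fintype_card]
  exact Module.natCard_eq_pow_finrank (K := S) (V := F)

theorem closure_top_of_lt (hF : Fintype.card F = q ^ 2) (M : Submonoid F) (h : q < Nat.card M) :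
    AddSubgroup.closure (M : Set F) = ⊤ := by
  obtain ⟨S, h1, h2, m, hm⟩ := exists_subfield M
  have h3 : Nat.card M ≤ Nat.card S := Nat.card_le_card_of_injective (fun x : M => (⟨x.1, h2 x.1 x.2⟩ : S))
    (fun x y hxy => Subtype.ext (congrArg (fun z : S => (z : F)) hxy))
  have h4 : m < 2 := by
    by_contra hlt
    have h5 : Nat.card S ^ 2 ≤ Nat.card S ^ m := Nat.pow_le_pow_right (by omega) (by omega)
    rw [← hm, hF] at h5
    have h6 := lt_of_le_of_lt (Nat.pow_le_pow_left (show q + 1 ≤ Nat.card S by omega) 2) (Nat.lt_succ_of_le h5)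
    linarith only [h6, _root_.Nat.cast_nonneg (α := ℤ) (q)]
  have h7 : Nat.card S = Nat.card F := by
    have h8 := Fintype.one_lt_card (α := F)
    rw [Nat.card_eq_fintype_card (α := F)]
    interval_cases m
    · rw [pow_zero] at hm
      omega
    · rw [hm, pow_one]
  rw [eq_top_iff]
  intro x _
  rw [← h1]
  have h9 : (S : Set F) = Set.univ := by
    apply Set.eq_of_subset_of_ncard_le (Set.subset_univ _)
    rw [Set.ncard_univ, ← h7]
    exact (Nat.card_coe_set_eq (S : Set F)).le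
  exact (Set.ext_iff.1 h9 x).2 trivial

/-- The elements of norm one. -/
def N1 (_hF : Fintype.card F = q ^ 2) : Submonoid F where
  carrier := {x | x * x ^ q = 1}
  one_mem' := by
    show (1 : F) * 1 ^ q = 1
    rw [one_pow, one_mul]
  mul_mem' := by
    intro a b ha hb
    show (a * b) * (a * b) ^ q = 1
    rw [Cfsg.Agent.LieClassical.HermBasic.norm_mul, show a * a ^ q = 1 from ha, show b * b ^ q = 1 from hb, one_mul]

theorem mem_N1 {hF : Fintype.card F = q ^ 2} {x : F} : x ∈ N1 hF ↔ x * x ^ q = 1 := Iff.rfl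

theorem card_N1 (hF : Fintype.card F = q ^ 2) : Nat.card (N1 hF) = q + 1 := card_norm_eq_one hF

theorem closure_N1 (hF : Fintype.card F = q ^ 2) : AddSubgroup.closure (N1 hF : Set F) = ⊤ :=
  closure_top_of_lt hF _ (by rw [card_N1]; omega)

theorem N1_conj {hF : Fintype.card F = q ^ 2} {x : F} (hx : x ∈ N1 hF) : x ^ q ∈ N1 hF := by
  rw [mem_N1, pow_q_pow_q hF, mul_comm]
  exact hx

/-- Some element of norm one is not a root of `x ^ m = 1`, `m ≤ q`. -/
theorem exists_N1_ne (hF : Fintype.card F = q ^ 2) {m : ℕ} (hm0 : 0 < m) (hm : m ≤ q) :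
    ∃ x ∈ N1 hF, x ^ m ≠ 1 := by
  classical
  by_contra hcon
  push Not at hcon
  have h1 := card_pow_eq_le (s := Finset.univ.filter fun x : F => x ∈ N1 hF) hm0 (a := 1)
    (fun x hx => hcon x (Finset.mem_filter.1 hx).2)
  have h2 : Nat.card (N1 hF) = (Finset.univ.filter fun x : F => x ∈ N1 hF).card := by
    rw [Nat.card_eq_fintype_card, ← Fintype.card_coe]
    exact Fintype.card_congr (Equiv.subtypeEquivRight fun x => by simp)
  rw [card_N1] at h2
  omega

/-- The cubes of the elements of norm one. -/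
def N3 (hF : Fintype.card F = q ^ 2) : Submonoid F := (N1 hF).map (powMonoidHom 3)

theorem mem_N3 {hF : Fintype.card F = q ^ 2} {x : F} : x ∈ N3 hF ↔ ∃ y ∈ N1 hF, y ^ 3 = x := Iff.rfl

theorem N3_le (hF : Fintype.card F = q ^ 2) : N3 hF ≤ N1 hF := by
  rintro _ ⟨y, hy, rfl⟩
  exact (N1 hF).pow_mem hy 3

theorem card_N3 (hF : Fintype.card F = q ^ 2) : q + 1 ≤ 3 * Nat.card (N3 hF) := by
  classical
  have h2 : Nat.card (N1 hF) = (Finset.univ.filter fun x : F => x ∈ N1 hF).card := by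
    rw [Nat.card_eq_fintype_card, ← Fintype.card_coe]
    exact Fintype.card_congr (Equiv.subtypeEquivRight fun x => by simp)
  have h3 : Nat.card (N3 hF) = ((Finset.univ.filter fun x : F => x ∈ N1 hF).image fun x => x ^ 3).card := by
    rw [Nat.card_eq_fintype_card, ← Fintype.card_coe]
    exact Fintype.card_congr (Equiv.subtypeEquivRight fun x => by simp [mem_N3])
  rw [← card_N1 hF, h2, h3]
  apply Finset.card_le_mul_card_image
  intro a _
  exact card_pow_eq_le _ (by norm_num) (a := a) (fun x hx => (Finset.mem_filter.1 hx).2)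

theorem closure_N3 (hF : Fintype.card F = q ^ 2) (h7 : 7 ≤ q) (h8 : q ≠ 8) :
    AddSubgroup.closure (N3 hF : Set F) = ⊤ := by
  obtain ⟨S, h1, h2, m, hm⟩ := exists_subfield (N3 hF)
  have h3 : Nat.card (N3 hF) + 1 ≤ Nat.card S := by
    have h4 : Function.Injective (fun x : Option (N3 hF) => (x.elim 0 (fun y => ⟨y.1, h2 y.1 y.2⟩) : S)) := by
      have hne : ∀ y : N3 hF, (y : F) ≠ 0 := by
        intro y h0
        have h5 : (y : F) * (y : F) ^ q = 1 := N3_le hF y.2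
        rw [h0, zero_mul] at h5
        exact zero_ne_one h5
      rintro (_ | x) (_ | y) hxy
      · rfl
      · exact absurd (congrArg (fun z : S => (z : F)) hxy).symm (hne y)
      · exact absurd (congrArg (fun z : S => (z : F)) hxy) (hne x)
      · exact congrArg some (Subtype.ext (congrArg (fun z : S => (z : F)) hxy))
    have h5 := Nat.card_le_card_of_injective _ h4
    rwa [Finite.card_option] at h5
  have h4 := card_N3 hF
  have h5 : m < 3 := by
    by_contra hlt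
    have h6 : Nat.card S ^ 3 ≤ Nat.card S ^ m := Nat.pow_le_pow_right (by omega) (by omega)
    rw [← hm, hF] at h6
    have h9 := Nat.pow_le_pow_left (show q + 4 ≤ 3 * Nat.card S by omega) 3
    have h10 : (q + 4) ^ 3 ≤ 27 * q ^ 2 := by
      calc (q + 4) ^ 3 ≤ (3 * Nat.card S) ^ 3 := h9
        _ = 27 * Nat.card S ^ 3 := by ring
        _ ≤ 27 * q ^ 2 := Nat.mul_le_mul_left _ h6
    by_cases h11 : q = 7
    · subst h11
      norm_num at h10
    · obtain ⟨r, rfl⟩ : ∃ r, q = r + 9 := ⟨q - 9, by omega⟩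
      linarith only [h6, h9, Nat.zero_le (r ^ 3), _root_.sq_nonneg (↑r : ℤ), _root_.Nat.cast_nonneg (α := ℤ) (r)]
  have h7' : m ≠ 2 := by
    rintro rfl
    rw [hF] at hm
    have h8 : Nat.card S = q := (Nat.pow_left_injective (n := 2) (by norm_num) hm).symm
    obtain ⟨x, hx, hx6⟩ := exists_N1_ne hF (m := 6) (by norm_num) (by omega)
    apply hx6
    have h9 : x ^ 3 ∈ S := h2 _ ⟨x, hx, rfl⟩
    have h10 : (x ^ 3) ^ q = x ^ 3 := by
      have : Fintype S := Fintype.ofFinite S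
      have h11 := FiniteField.pow_card (⟨x ^ 3, h9⟩ : S)
      rw [← Nat.card_eq_fintype_card, h8] at h11
      exact congrArg (fun z : S => (z : F)) h11
    have h12 : x * x ^ q = 1 := hx
    calc x ^ 6 = x ^ 3 * x ^ 3 := by ring
      _ = x ^ 3 * (x ^ 3) ^ q := by rw [h10]
      _ = (x * x ^ q) ^ 3 := by ring
      _ = 1 := by rw [h12, one_pow]
  have h7 : Nat.card S = Nat.card F := by
    have h8 := Fintype.one_lt_card (α := F)
    rw [Nat.card_eq_fintype_card (α := F)]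
    interval_cases m
    · rw [pow_zero] at hm
      omega
    · rw [hm, pow_one]
    · exact absurd rfl h7'
  rw [eq_top_iff]
  intro x _
  rw [← h1]
  have h9 : (S : Set F) = Set.univ := by
    apply Set.eq_of_subset_of_ncard_le (Set.subset_univ _)
    rw [Set.ncard_univ, ← h7]
    exact (Nat.card_coe_set_eq (S : Set F)).le
  exact (Set.ext_iff.1 h9 x).2 trivial

end closure

/-! ### Diagonal elements -/

section diag

variable {F : Type*} [Field F] [Fintype F] {q n : ℕ}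

/-- The diagonal element of `SU_n(q)`. -/
def D (d : Fin n → F) (hd : ∀ i, d i * d i ^ q = 1) (hp : ∏ i, d i = 1) : SU n F q :=
  mkSU (Matrix.diagonal d) (by rw [Matrix.det_diagonal, hp]) (by
    intro x y
    rw [herm_def, herm_def]
    refine Finset.sum_congr rfl fun i _ => ?_
    rw [Matrix.mulVec_diagonal, Matrix.mulVec_diagonal]
    calc d i * x i * (d i * y i) ^ q = (d i * d i ^ q) * (x i * y i ^ q) := by ring
      _ = x i * y i ^ q := by rw [hd, one_mul])

theorem act_D (d : Fin n → F) (hd : ∀ i, d i * d i ^ q = 1) (hp : ∏ i, d i = 1) (x : Fin n → F) :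
    act (D d hd hp : SU n F q) x = fun i => d i * x i := by
  funext i
  show (Matrix.diagonal d *ᵥ x) i = _
  rw [Matrix.mulVec_diagonal]

theorem D_pow (d : Fin n → F) (hd : ∀ i, d i * d i ^ q = 1) (hp : ∏ i, d i = 1) :
    (D d hd hp : SU n F q) ^ (q + 1) = 1 := by
  have key : ∀ (m : ℕ) (x : Fin n → F), act ((D d hd hp : SU n F q) ^ m) x = fun i => d i ^ m * x i := by
    intro m
    induction m with
    | zero =>
      intro x
      rw [pow_zero, act_one]
      funext i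
      rw [pow_zero, one_mul]
    | succ m ih =>
      intro x
      rw [pow_succ, act_mul, ih, act_D]
      funext i
      rw [pow_succ, mul_assoc]
  apply ext_act
  intro x
  rw [key, act_one]
  funext i
  rw [pow_succ', hd, one_mul]

theorem D_coprime {p : ℕ} (hp : p.Prime) (hpq : p ∣ q) (d : Fin n → F) (hd : ∀ i, d i * d i ^ q = 1)
    (hpr : ∏ i, d i = 1) : Nat.Coprime (orderOf (D d hd hpr : SU n F q)) p := by
  apply Nat.Coprime.coprime_dvd_left (orderOf_dvd_of_pow_eq_one (D_pow d hd hpr))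
  rw [Nat.coprime_comm, hp.coprime_iff_not_dvd]
  intro h
  have h1 := (Nat.dvd_add_right hpq).1 h
  exact hp.one_lt.ne' (Nat.dvd_one.1 h1)

theorem D_comm (d e : Fin n → F) (hd : ∀ i, d i * d i ^ q = 1) (hp : ∏ i, d i = 1)
    (he : ∀ i, e i * e i ^ q = 1) (hp' : ∏ i, e i = 1) :
    (D d hd hp : SU n F q) * D e he hp' = D e he hp' * D d hd hp := by
  apply ext_act
  intro x
  rw [act_mul, act_mul, act_D, act_D, act_D, act_D]
  funext i
  ring

variable {m : ℕ} {u : Fin n → F} {w : Fin m → Fin n → F}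

/-- Conjugation of a root element by an element with `u ↦ λ u`, `w i ↦ d w j`, `λ` and `d` of norm one. -/
theorem conj_T_diag (hF : Fintype.card F = q ^ 2) (h2 : (2 : F) ≠ 0) (H : Frame q u w) {g : SU n F q} {l d : F}
    (hl : l * l ^ q = 1) (hd : d * d ^ q = 1) (hu : act g u = l • u) {i j : Fin m} (hw : act g (w i) = d • w j)
    (c : F) : g * T hF h2 H c i * g⁻¹ = T hF h2 H (l ^ q * d * c) j := by
  have h1 : IsSiegel q u ((c * d) • w j) (-((2 : F)⁻¹ * (c * c ^ q))) := by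
    have h3 := isSiegel_T hF h2 H (c * d) j
    have h4 : (c * d) * (c * d) ^ q = c * c ^ q := by
      calc (c * d) * (c * d) ^ q = (d * d ^ q) * (c * c ^ q) := by ring
        _ = c * c ^ q := by rw [hd, one_mul]
    rwa [h4] at h3
  rw [T, T, conj_siegel, siegel_congr hF _ (h1.smul (c := l)) hu
    (show act g (c • w i) = (c * d) • w j by rw [act_smul, hw, smul_smul]) rfl, siegel_smul hF h1]
  refine siegel_congr hF _ _ rfl ?_ ?_
  · rw [smul_smul]
    congr 1
    ring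
  · have h5 : (l ^ q * d * c) * (l ^ q * d * c) ^ q = (l * l ^ q) ^ q * (d * d ^ q) * (c * c ^ q) := by ring
    rw [h5, hl, hd, one_pow]
    ring

theorem conj_Z_diag (hF : Fintype.card F = q ^ 2) (H : Frame q u w) {δ : F} (hδ : δ + δ ^ q = 0)
    {g : SU n F q} {l : F} (hl : l * l ^ q = 1) (hu : act g u = l • u) : g * Z hF H hδ * g⁻¹ = Z hF H hδ := by
  have h1 := isSiegel_Z hF H hδ
  rw [Z, conj_siegel, siegel_congr hF _ (h1.smul (c := l)) hu (act_zero g) rfl, siegel_smul hF h1]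
  refine siegel_congr hF _ _ rfl (smul_zero _) ?_
  rw [hl, one_mul]

end diag

/-! ### The configuration -/

section config

variable {F : Type*} [Field F] [Fintype F] {q n m : ℕ} {u : Fin n → F} {w : Fin m → Fin n → F}

/-- The centre of the Heisenberg group. -/
def ZZ (hF : Fintype.card F = q ^ 2) (H : Frame q u w) : Set (SU n F q) :=
  {z | ∃ (δ : F) (hδ : δ + δ ^ q = 0), z = Z hF H hδ}

theorem Z_mul_siegel (hF : Fintype.card F = q ^ 2) (H : Frame q u w) {δ : F} (hδ : δ + δ ^ q = 0)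
    {v : Fin n → F} {μ μ' : F} (h : IsSiegel q u v μ) (h' : IsSiegel q u v μ') (hμ : μ' = δ + μ) :
    Z hF H hδ * siegel hF u v μ h = siegel hF u v μ' h' := by
  rw [Z, siegel_mul]
  refine siegel_congr hF _ _ rfl (zero_add _) ?_
  rw [herm_zero_right hF, sub_zero, hμ]

theorem siegel_mul_Z (hF : Fintype.card F = q ^ 2) (H : Frame q u w) {δ : F} (hδ : δ + δ ^ q = 0)
    {v : Fin n → F} {μ μ' : F} (h : IsSiegel q u v μ) (h' : IsSiegel q u v μ') (hμ : μ' = μ + δ) :
    siegel hF u v μ h * Z hF H hδ = siegel hF u v μ' h' := by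
  rw [Z, siegel_mul]
  refine siegel_congr hF _ _ rfl (add_zero _) ?_
  rw [herm_zero_left, sub_zero, hμ]

theorem T_com (hF : Fintype.card F = q ^ 2) (h2 : (2 : F) ≠ 0) (H : Frame q u w) (i : Fin m) (c d : F) :
    T hF h2 H c i * T hF h2 H d i * (T hF h2 H c i)⁻¹ * (T hF h2 H d i)⁻¹ ∈ ZZ hF H := by
  have hδ : (c * d ^ q - d * c ^ q) + (c * d ^ q - d * c ^ q) ^ q = 0 := by
    rw [sub_pow_q hF, mul_pow, mul_pow, pow_q_pow_q hF, pow_q_pow_q hF]
    ring
  refine ⟨_, hδ, ?_⟩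
  rw [mul_assoc (T hF h2 H c i * T hF h2 H d i), ← _root_.mul_inv_rev, mul_inv_eq_iff_eq_mul]
  rw [T, T, siegel_mul, siegel_mul]
  have h1 := (isSiegel_T hF h2 H d i).mul hF (isSiegel_T hF h2 H c i)
  rw [Z_mul_siegel hF H hδ h1 (μ' := -((2 : F)⁻¹ * (c * c ^ q)) + -((2 : F)⁻¹ * (d * d ^ q)) -
    hermForm n F q (d • w i) (c • w i)) (by
      have := (isSiegel_T hF h2 H c i).mul hF (isSiegel_T hF h2 H d i)
      rwa [add_comm (c • w i)] at this) (by
      rw [herm_smul_left, herm_smul_right, herm_smul_left, herm_smul_right, H.ww]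
      ring)]
  exact siegel_congr hF _ _ rfl (add_comm _ _) rfl

theorem T_add (hF : Fintype.card F = q ^ 2) (h2 : (2 : F) ≠ 0) (H : Frame q u w) (i : Fin m) (c d : F)
    {δ : F} (hδ : δ + δ ^ q = 0) (h : 2 * δ = d * c ^ q - c * d ^ q) :
    T hF h2 H (c + d) i = T hF h2 H c i * T hF h2 H d i * Z hF H hδ := by
  have h0 := isSiegel_T hF h2 H (c + d) i
  have h1 := (isSiegel_T hF h2 H c i).mul hF (isSiegel_T hF h2 H d i)
  rw [add_smul] at h0
  rw [T, T, T, siegel_mul, siegel_mul_Z hF H hδ h1 h0 (by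
    rw [herm_smul_left, herm_smul_right, H.ww, add_pow_q hF, mul_one]
    have h3 : (2 : F)⁻¹ * 2 = 1 := inv_mul_cancel₀ h2
    have h4 : δ = 2⁻¹ * (d * c ^ q - c * d ^ q) := by
      rw [← h, ← mul_assoc, h3, one_mul]
    rw [h4]
    linear_combination (-(d * c ^ q)) * h3)]
  exact siegel_congr hF _ _ rfl (add_smul _ _ _) rfl

theorem Z_zero (hF : Fintype.card F = q ^ 2) (H : Frame q u w) (hδ : (0 : F) + 0 ^ q = 0) : Z hF H hδ = 1 := by
  rw [Z, siegel_zero]

end config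

/-! ### The standard configuration -/

section std

variable {F : Type*} [Field F] [Fintype F] {q k p : ℕ}

theorem ss_ne {i j : Fin k} (hij : i ≠ j) : i.succ.succ ≠ j.succ.succ := fun h =>
  hij (Fin.succ_injective _ (Fin.succ_injective _ h))

theorem ss_ne_zero (i : Fin k) : i.succ.succ ≠ (0 : Fin (k + 2)) := Fin.succ_ne_zero _

theorem ss_ne_one (i : Fin k) : i.succ.succ ≠ (1 : Fin (k + 2)) := by
  intro h
  have := congrArg Fin.val h
  simp at this

theorem act_D_uu {d : Fin (k + 2) → F} (hd : ∀ i, d i * d i ^ q = 1) (hp : ∏ i, d i = 1) {l : F} (h0 : d 0 = l)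
    (h1 : d 1 = l) (α : F) : act (D d hd hp : SU (k + 2) F q) (uu k α) = l • uu k α := by
  rw [act_D, uu]
  funext i
  by_cases hi0 : i = 0
  · subst hi0
    simp [h0]
  · by_cases hi1 : i = 1
    · subst hi1
      simp [h1]
    · simp [hi0, hi1]

theorem act_D_ww {d : Fin (k + 2) → F} (hd : ∀ i, d i * d i ^ q = 1) (hp : ∏ i, d i = 1) (i : Fin k) :
    act (D d hd hp : SU (k + 2) F q) (ww k i) = d i.succ.succ • ww k i := by
  rw [act_D, ww]
  funext j
  by_cases hj : j = i.succ.succ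
  · subst hj
    simp
  · simp [hj]

/-- `ζ` at `i`, `ζ⁻¹` at `j`. -/
def dA (q : ℕ) (i j : Fin k) (ζ : F) : Fin (k + 2) → F := fun l =>
  if l = i.succ.succ then ζ else if l = j.succ.succ then ζ ^ q else 1

theorem dA_norm (hF : Fintype.card F = q ^ 2) (i j : Fin k) {ζ : F} (hζ : ζ * ζ ^ q = 1) (l : Fin (k + 2)) :
    dA q i j ζ l * dA q i j ζ l ^ q = 1 := by
  rw [dA]
  split_ifs
  · exact hζ
  · rw [pow_q_pow_q hF, mul_comm, hζ]
  · rw [one_pow, one_mul]

theorem dA_prod {i j : Fin k} (hij : i ≠ j) {ζ : F} (hζ : ζ * ζ ^ q = 1) : ∏ l, dA q i j ζ l = 1 := by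
  rw [Finset.prod_eq_mul (a := i.succ.succ) (b := j.succ.succ) (ss_ne hij)]
  · rw [dA, dA, if_pos rfl, if_neg (ss_ne hij).symm, if_pos rfl, hζ]
  · rintro l - ⟨h1, h2⟩
    rw [dA, if_neg h1, if_neg h2]
  · intro h
    exact absurd (Finset.mem_univ _) h
  · intro h
    exact absurd (Finset.mem_univ _) h

/-- `μ` at the first two places, `μ⁻²` at `i`. -/
def dB (q : ℕ) (i : Fin k) (μ : F) : Fin (k + 2) → F := fun l =>
  if l = 0 then μ else if l = 1 then μ else if l = i.succ.succ then (μ ^ q) ^ 2 else 1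

theorem dB_norm (hF : Fintype.card F = q ^ 2) (i : Fin k) {μ : F} (hμ : μ * μ ^ q = 1) (l : Fin (k + 2)) :
    dB q i μ l * dB q i μ l ^ q = 1 := by
  rw [dB]
  split_ifs
  · exact hμ
  · exact hμ
  · have h1 : (μ ^ q) ^ 2 * ((μ ^ q) ^ 2) ^ q = (μ ^ q * (μ ^ q) ^ q) ^ 2 := by ring
    rw [h1, pow_q_pow_q hF, mul_comm, hμ, one_pow]
  · rw [one_pow, one_mul]

theorem dB_prod (i : Fin k) {μ : F} (hμ : μ * μ ^ q = 1) : ∏ l, dB q i μ l = 1 := by
  rw [Fin.prod_univ_succ, Fin.prod_univ_succ, Finset.prod_eq_single i]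
  · have h0 : dB q i μ 0 = μ := by rw [dB, if_pos rfl]
    have h1 : dB q i μ (Fin.succ 0) = μ := by rw [dB, if_neg (Fin.succ_ne_zero _), if_pos Fin.succ_zero_eq_one]
    have h2 : dB q i μ i.succ.succ = (μ ^ q) ^ 2 := by
      rw [dB, if_neg (ss_ne_zero i), if_neg (ss_ne_one i), if_pos rfl]
    rw [h0, h1, h2]
    calc μ * (μ * (μ ^ q) ^ 2) = (μ * μ ^ q) ^ 2 := by ring
      _ = 1 := by rw [hμ, one_pow]
  · intro l _ hl
    rw [dB, if_neg (ss_ne_zero l), if_neg (ss_ne_one l), if_neg (ss_ne hl)]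
  · intro h
    exact absurd (Finset.mem_univ _) h

/-- `-1` at the first two places. -/
def dG (F : Type*) [Field F] (k : ℕ) : Fin (k + 2) → F := fun l => if l = 0 then -1 else if l = 1 then -1 else 1

theorem dG_norm (hF : Fintype.card F = q ^ 2) (l : Fin (k + 2)) : dG F k l * dG F k l ^ q = 1 := by
  rw [dG]
  split_ifs
  · rw [neg_pow_q hF, one_pow, neg_mul_neg, one_mul]
  · rw [neg_pow_q hF, one_pow, neg_mul_neg, one_mul]
  · rw [one_pow, one_mul]

theorem dG_prod : ∏ l, dG F k l = 1 := by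
  rw [Fin.prod_univ_succ, Fin.prod_univ_succ, Finset.prod_eq_one]
  · have h0 : dG F k 0 = -1 := by rw [dG, if_pos rfl]
    have h1 : dG F k (Fin.succ 0) = -1 := by rw [dG, if_neg (Fin.succ_ne_zero _), if_pos Fin.succ_zero_eq_one]
    rw [h0, h1]
    ring
  · intro l _
    rw [dG, if_neg (ss_ne_zero l), if_neg (ss_ne_one l)]

/-- The inverting element. -/
def gg (hF : Fintype.card F = q ^ 2) : SU (k + 2) F q := D (dG F k) (dG_norm hF) dG_prod

theorem act_gg_uu (hF : Fintype.card F = q ^ 2) (α : F) :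
    act (gg hF : SU (k + 2) F q) (uu k α) = (-1 : F) • uu k α :=
  act_D_uu _ _ (by rw [dG, if_pos rfl]) (by rw [dG, if_neg (by simp), if_pos rfl]) α

theorem act_gg_ww (hF : Fintype.card F = q ^ 2) (i : Fin k) : act (gg hF : SU (k + 2) F q) (ww k i) = ww k i := by
  rw [gg, act_D_ww, dG, if_neg (ss_ne_zero i), if_neg (ss_ne_one i), one_smul]

theorem WU_gg (hF : Fintype.card F = q ^ 2) {i j : Fin k} (hij : i.succ.succ ≠ j.succ.succ) :
    WU hF hij * gg hF = gg hF * WU hF hij := by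
  apply ext_act
  intro x
  rw [act_mul, act_mul, act_WU, act_WU, gg, act_D, act_D]
  have h1 : ∀ i : Fin k, dG F k i.succ.succ = 1 := fun i => by
    rw [dG, if_neg (ss_ne_zero i), if_neg (ss_ne_one i)]
  funext l
  by_cases hl : l = i.succ.succ
  · subst hl
    simp [h1]
  · by_cases hl' : l = j.succ.succ
    · subst hl'
      simp [h1, hl]
    · simp [hl, hl']

theorem WU_ww (hF : Fintype.card F = q ^ 2) {i j : Fin k} (hij : i ≠ j) :
    act (WU hF (ss_ne hij)) (ww k i) = (ww k j : Fin (k + 2) → F) := by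
  rw [act_WU]
  funext l
  by_cases h1 : l = i.succ.succ
  · rw [if_pos h1, h1, ww, ww, Pi.single_eq_of_ne (ss_ne (Ne.symm hij)), Pi.single_eq_of_ne (ss_ne hij), neg_zero]
  · by_cases h3 : l = j.succ.succ
    · rw [if_neg h1, if_pos h3, h3, ww, ww, Pi.single_eq_same, Pi.single_eq_same]
    · rw [if_neg h1, if_neg h3, ww, ww, Pi.single_eq_of_ne h1, Pi.single_eq_of_ne h3]

theorem p_dvd (hF : Fintype.card F = q ^ 2) (hp : p.Prime) [CharP F p] : p ∣ q := by
  obtain ⟨n, _, hn⟩ := FiniteField.card F p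
  apply hp.dvd_of_dvd_pow (n := 2)
  rw [← hF, hn]
  exact dvd_pow_self p n.pos.ne'

/-- The common part of the configuration. -/
theorem herm_of (hF : Fintype.card F = q ^ 2) (h2 : (2 : F) ≠ 0) (hp : p.Prime) [CharP F p] {α : F}
    (H : Frame q (uu k α) (fun i : Fin k => ww k i)) (U : Set F) (i₀ : Fin k)
    (tor : ∀ i : Fin k, ∀ ζ ∈ U, ∃ t : SU (k + 2) F q, t * gg hF = gg hF * t ∧ (∀ z ∈ ZZ hF H, t * z = z * t) ∧
      Nat.Coprime (orderOf t) p ∧ ∀ c, t * T hF h2 H c i * t⁻¹ = T hF h2 H (ζ * c) i)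
    (tor2 : ∀ i j : Fin k, i ≠ j → ∀ ζ ∈ U, ∃ t : SU (k + 2) F q, t * gg hF = gg hF * t ∧
      (∀ c, t * T hF h2 H c i * t⁻¹ = T hF h2 H (ζ * c) i) ∧
      ∀ c, t * T hF h2 H c j * t⁻¹ = T hF h2 H (ζ ^ q * c) j)
    (tor3 : ∀ i j : Fin k, i ≠ j → ∃ a b : F, a * b ≠ 1 ∧ ∃ t : SU (k + 2) F q, t * gg hF = gg hF * t ∧
      (∀ c, t * T hF h2 H c i * t⁻¹ = T hF h2 H (a * c) i) ∧
      ∀ c, t * T hF h2 H c j * t⁻¹ = T hF h2 H (b * c) j) :
    Herm (conj hF : F →+* F) p (fun (i : Fin k) c => T hF h2 H c i) (ZZ hF H) (gg hF) U i₀ where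
  zp := by
    rintro _ ⟨δ, hδ, rfl⟩
    exact Z_pow hF H hδ p (CharP.cast_eq_zero F p)
  zT := by
    rintro _ ⟨δ, hδ, rfl⟩ i c
    exact Z_comm hF h2 H hδ c i
  zg := by
    rintro _ ⟨δ, hδ, rfl⟩
    exact (comm_of_conj (conj_Z_neg hF H hδ (act_gg_uu hF α))).symm
  gT i c := conj_T_neg' hF h2 H (act_gg_uu hF α) (act_gg_ww hF i) c
  com i c d := T_com hF h2 H i c d
  add i c d := by
    have h3 : (2 : F) * 2⁻¹ = 1 := mul_inv_cancel₀ h2
    have hδ : (2⁻¹ : F) * (d * c ^ q - c * d ^ q) + ((2⁻¹ : F) * (d * c ^ q - c * d ^ q)) ^ q = 0 := by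
      rw [mul_pow, half_pow hF, sub_pow_q hF, mul_pow, mul_pow, pow_q_pow_q hF, pow_q_pow_q hF]
      ring
    exact ⟨_, ⟨_, hδ, rfl⟩, T_add hF h2 H i c d hδ (by rw [← mul_assoc, h3, one_mul])⟩
  add' i c d hcd := by
    have h4 : c ^ q * d = c * d ^ q := hcd
    have hδ : (0 : F) + 0 ^ q = 0 := by rw [zero_pow_q hF, add_zero]
    show T hF h2 H (c + d) i = T hF h2 H c i * T hF h2 H d i
    rw [T_add hF h2 H i c d hδ (by rw [← h4]; ring), Z_zero, mul_one]
  cr i j c d hij := T_comm hF h2 H c d hij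
  tor := tor
  tor2 := tor2
  tor3 := tor3
  perm i := by
    by_cases hi : i₀ = i
    · subst hi
      exact ⟨1, by rw [one_mul, mul_one], fun z _ => by rw [one_mul, mul_one],
        by simp, fun c => by rw [one_mul, _root_.inv_one, mul_one]⟩
    · have hp2 : p ≠ 2 := by
        rintro rfl
        exact h2 (by exact_mod_cast CharP.cast_eq_zero F 2)
      refine ⟨WU hF (ss_ne hi), WU_gg hF _, ?_, ?_, fun c =>
        conj_T hF h2 H (WU_uu hF α _) (WU_ww hF hi) c⟩
      · rintro _ ⟨δ, hδ, rfl⟩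
        exact comm_of_conj (conj_Z hF H hδ (WU_uu hF α _))
      · apply Nat.Coprime.coprime_dvd_left (orderOf_dvd_of_pow_eq_one (WU_pow hF _))
        exact Nat.Coprime.pow_left _ ((Nat.coprime_primes Nat.prime_two hp).2 (Ne.symm hp2))

theorem dA_zero (i j : Fin k) (ζ : F) : dA q i j ζ 0 = 1 := by
  rw [dA, if_neg (ss_ne_zero i).symm, if_neg (ss_ne_zero j).symm]

theorem dA_one (i j : Fin k) (ζ : F) : dA q i j ζ 1 = 1 := by
  rw [dA, if_neg (ss_ne_one i).symm, if_neg (ss_ne_one j).symm]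

theorem dA_left (i j : Fin k) (ζ : F) : dA q i j ζ i.succ.succ = ζ := by
  rw [dA, if_pos rfl]

theorem dA_right {i j : Fin k} (hij : i ≠ j) (ζ : F) : dA q i j ζ j.succ.succ = ζ ^ q := by
  rw [dA, if_neg (ss_ne (Ne.symm hij)), if_pos rfl]

theorem dB_zero (i : Fin k) (μ : F) : dB q i μ 0 = μ := by rw [dB, if_pos rfl]

theorem dB_one (i : Fin k) (μ : F) : dB q i μ 1 = μ := by rw [dB, if_neg (by simp), if_pos rfl]

theorem dB_left (i : Fin k) (μ : F) : dB q i μ i.succ.succ = (μ ^ q) ^ 2 := by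
  rw [dB, if_neg (ss_ne_zero i), if_neg (ss_ne_one i), if_pos rfl]

theorem dB_right {i j : Fin k} (hij : i ≠ j) (μ : F) : dB q i μ j.succ.succ = 1 := by
  rw [dB, if_neg (ss_ne_zero j), if_neg (ss_ne_one j), if_neg (ss_ne (Ne.symm hij))]

theorem one_norm : (1 : F) * 1 ^ q = 1 := by rw [one_pow, one_mul]

/-- The torus element `diag (1, 1, .., ζ, .., ζ⁻¹, ..)`. -/
theorem exists_torA (hF : Fintype.card F = q ^ 2) (h2 : (2 : F) ≠ 0) (hp : p.Prime) [CharP F p] {α : F}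
    (H : Frame q (uu k α) (fun i : Fin k => ww k i)) {i j : Fin k} (hij : i ≠ j) {ζ : F} (hζ : ζ * ζ ^ q = 1) :
    ∃ t : SU (k + 2) F q, t * gg hF = gg hF * t ∧ (∀ z ∈ ZZ hF H, t * z = z * t) ∧ Nat.Coprime (orderOf t) p ∧
      (∀ c, t * T hF h2 H c i * t⁻¹ = T hF h2 H (ζ * c) i) ∧
      ∀ c, t * T hF h2 H c j * t⁻¹ = T hF h2 H (ζ ^ q * c) j := by
  have hu : act (D (dA q i j ζ) (dA_norm hF i j hζ) (dA_prod hij hζ) : SU (k + 2) F q) (uu k α) = (1 : F) • uu k α :=
    act_D_uu _ _ (dA_zero i j ζ) (dA_one i j ζ) α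
  refine ⟨D (dA q i j ζ) (dA_norm hF i j hζ) (dA_prod hij hζ), D_comm _ _ _ _ _ _, ?_,
    D_coprime hp (p_dvd hF hp) _ _ _, fun c => ?_, fun c => ?_⟩
  · rintro _ ⟨δ, hδ, rfl⟩
    exact comm_of_conj (conj_Z_diag hF H hδ one_norm hu)
  · rw [conj_T_diag hF h2 H one_norm hζ hu (by rw [act_D_ww, dA_left]) c, one_pow, one_mul]
  · rw [conj_T_diag hF h2 H (d := ζ ^ q) one_norm (by rw [pow_q_pow_q hF, mul_comm, hζ]) hu
      (by rw [act_D_ww, dA_right hij]) c, one_pow, one_mul]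

/-- The torus element `diag (μ, μ, .., μ⁻², ..)`. -/
theorem exists_torB (hF : Fintype.card F = q ^ 2) (h2 : (2 : F) ≠ 0) (hp : p.Prime) [CharP F p] {α : F}
    (H : Frame q (uu k α) (fun i : Fin k => ww k i)) (i : Fin k) {μ : F} (hμ : μ * μ ^ q = 1) :
    ∃ t : SU (k + 2) F q, t * gg hF = gg hF * t ∧ (∀ z ∈ ZZ hF H, t * z = z * t) ∧ Nat.Coprime (orderOf t) p ∧
      (∀ c, t * T hF h2 H c i * t⁻¹ = T hF h2 H ((μ ^ q) ^ 3 * c) i) ∧
      ∀ j, i ≠ j → ∀ c, t * T hF h2 H c j * t⁻¹ = T hF h2 H (μ ^ q * c) j := by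
  have hu : act (D (dB q i μ) (dB_norm hF i hμ) (dB_prod i hμ) : SU (k + 2) F q) (uu k α) = μ • uu k α :=
    act_D_uu _ _ (dB_zero i μ) (dB_one i μ) α
  refine ⟨D (dB q i μ) (dB_norm hF i hμ) (dB_prod i hμ), D_comm _ _ _ _ _ _, ?_,
    D_coprime hp (p_dvd hF hp) _ _ _, fun c => ?_, fun j hij c => ?_⟩
  · rintro _ ⟨δ, hδ, rfl⟩
    exact comm_of_conj (conj_Z_diag hF H hδ hμ hu)
  · have h1 : (μ ^ q) ^ 2 * ((μ ^ q) ^ 2) ^ q = 1 := by
      have := dB_norm hF i hμ i.succ.succ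
      rwa [dB_left] at this
    rw [conj_T_diag hF h2 H hμ h1 hu (by rw [act_D_ww, dB_left]) c]
    congr 1
    ring
  · rw [conj_T_diag hF h2 H hμ one_norm hu (by rw [act_D_ww, dB_right hij]) c, mul_one]

/-- **The configuration, at least two pairs.** -/
theorem herm_two (hF : Fintype.card F = q ^ 2) (h2 : (2 : F) ≠ 0) (hp : p.Prime) [CharP F p] {α : F}
    (H : Frame q (uu k α) (fun i : Fin k => ww k i)) (hk : 2 ≤ k) (h4 : 4 ≤ q) (i₀ : Fin k) :
    Herm (conj hF : F →+* F) p (fun (i : Fin k) c => T hF h2 H c i) (ZZ hF H) (gg hF) (N1 hF : Set F) i₀ := by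
  refine herm_of hF h2 hp H _ i₀ ?_ ?_ ?_
  · intro i ζ hζ
    obtain ⟨j, hj⟩ : ∃ j : Fin k, i ≠ j := by
      have : Nontrivial (Fin k) := Fin.nontrivial_iff_two_le.2 hk
      obtain ⟨j, hj⟩ := exists_ne i
      exact ⟨j, hj.symm⟩
    obtain ⟨t, h1, h3, h5, h6, -⟩ := exists_torA hF h2 hp H hj (mem_N1.1 hζ)
    exact ⟨t, h1, h3, h5, h6⟩
  · intro i j hij ζ hζ
    obtain ⟨t, h1, h3, h5, h6, h7⟩ := exists_torA hF h2 hp H hij (mem_N1.1 hζ)
    exact ⟨t, h1, h6, h7⟩
  · intro i j hij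
    obtain ⟨μ, hμ, hμ4⟩ := exists_N1_ne hF (m := 4) (by norm_num) h4
    obtain ⟨t, h1, h3, h5, h6, h7⟩ := exists_torB hF h2 hp H i (mem_N1.1 hμ)
    refine ⟨(μ ^ q) ^ 3, μ ^ q, fun h => hμ4 ?_, t, h1, h6, h7 j hij⟩
    calc μ ^ 4 = μ ^ 4 * ((μ ^ q) ^ 3 * μ ^ q) := by rw [h, mul_one]
      _ = (μ * μ ^ q) ^ 4 := by ring
      _ = 1 := by rw [mem_N1.1 hμ, one_pow]

/-- **The configuration, one pair.** -/
theorem herm_one (hF : Fintype.card F = q ^ 2) (h2 : (2 : F) ≠ 0) (hp : p.Prime) [CharP F p] {α : F}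
    (H : Frame q (uu 1 α) (fun i : Fin 1 => ww 1 i)) :
    Herm (conj hF : F →+* F) p (fun (i : Fin 1) c => T hF h2 H c i) (ZZ hF H) (gg hF) (N3 hF : Set F) 0 := by
  refine herm_of hF h2 hp H _ 0 ?_ ?_ ?_
  · rintro i ζ ⟨ν, hν, rfl⟩
    obtain ⟨t, h1, h3, h5, h6, -⟩ := exists_torB hF h2 hp H i (mem_N1.1 (N1_conj hν))
    refine ⟨t, h1, h3, h5, fun c => ?_⟩
    rw [h6, pow_q_pow_q hF]
    rfl
  · intro i j hij
    exact absurd (Subsingleton.elim i j) hij
  · intro i j hij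
    exact absurd (Subsingleton.elim i j) hij

theorem card_fix (hF : Fintype.card F = q ^ 2) : Nat.card (fix (conj hF : F →+* F)) = q := card_fixed hF

/-- The bound from the configuration. -/
theorem lb_of {F : Type v} [Field F] [Fintype F] {q k p : ℕ} (hF : Fintype.card F = q ^ 2) (h2 : (2 : F) ≠ 0)
    (hp : p.Prime) [CharP F p] {α τ : F} (hτ0 : τ ≠ 0) (hτ : τ ^ q = -τ) (hk : 1 ≤ k)
    (H : Frame q (uu k α) (fun i : Fin k => ww k i)) {M : Submonoid F} (hM : M ≤ N1 hF)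
    (hcl : AddSubgroup.closure (M : Set F) = ⊤) {i₀ : Fin k}
    (hS : Herm (conj hF : F →+* F) p (fun (i : Fin k) c => T hF h2 H c i) (ZZ hF H) (gg hF) (M : Set F) i₀) :
    LB.{v, u, w} (PSU (k + 2) F q) (orderOf (2 : ZMod p) * q ^ k) := by
  have hp2 : p ≠ 2 := by
    rintro rfl
    exact h2 (by exact_mod_cast CharP.cast_eq_zero F 2)
  have hq2 : q ≠ 2 := by
    rintro rfl
    exact hp2 ((Nat.prime_dvd_prime_iff_eq hp Nat.prime_two).1 (p_dvd hF hp))
  have : IsSimpleGroup (PSU (k + 2) F q) :=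
    Cfsg.Agent.S0283.result hF (k + 2) (by omega) (fun h => hq2 h.2)
  have : Fact p.Prime := ⟨hp⟩
  have h := (hS.map (pr (k + 2) F q)).lb hp2 (pow_q_pow_q hF)
    (fun ζ hζ => by
      show ζ ^ q * ζ = 1
      rw [mul_comm]
      exact hM hζ) hcl
    (fun a ha => by
      obtain ⟨c, hc⟩ := _root_.Cfsg.Agent.LieClassical.HermBasic.exists_norm_eq hF ha
      exact ⟨c, by rw [mul_comm]; exact hc⟩)
    (τ := τ) hτ (fun hne => by
      have h1 := congrArg (pr (k + 2) F q) (T_conj hF h2 H hτ (two_tau hF hτ) i₀)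
      rw [map_mul, map_mul, map_mul] at h1
      have h3 : pr (k + 2) F q (Z hF H (two_tau hF hτ)) = 1 := by
        have h4 : pr (k + 2) F q (T hF h2 H 1 i₀) * pr (k + 2) F q (T hF h2 H τ i₀) =
            pr (k + 2) F q (T hF h2 H τ i₀) * pr (k + 2) F q (T hF h2 H 1 i₀) := hne
        rw [← h4, mul_assoc] at h1
        have h5 := (mul_left_cancel h1 :)
        exact right_eq_mul.1 h5
      exact Z_ne hF (by omega) (by omega) H _ (mul_ne_zero h2 hτ0) (uu_ne α) h3)
  rwa [card_fix hF, Nat.card_eq_fintype_card (α := Fin k), Fintype.card_fin] at h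

/-- **The Heisenberg bound for `PSU_n(q)`, `q` odd.** -/
theorem lb {F : Type v} [Field F] [Fintype F] {q n p : ℕ} (hF : Fintype.card F = q ^ 2) (h2 : (2 : F) ≠ 0)
    (hp : p.Prime) [CharP F p] (hn : 3 ≤ n) (h43 : ¬ (n = 4 ∧ q = 3)) :
    LB.{v, u, w} (PSU n F q) (orderOf (2 : ZMod p) * q ^ (n - 2)) := by
  obtain ⟨k, rfl⟩ : ∃ k, n = k + 2 := ⟨n - 2, by omega⟩
  rw [Nat.add_sub_cancel]
  obtain ⟨α, hα⟩ := exists_alpha hF
  obtain ⟨τ, hτ0, hτ⟩ := exists_tau hF
  have H := frame hF hα (fun i : Fin k => i) Function.injective_id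
  have hp2 : p ≠ 2 := by
    rintro rfl
    exact h2 (by exact_mod_cast CharP.cast_eq_zero F 2)
  have hdvd := p_dvd hF hp
  have hodd : ¬ 2 ∣ q := by
    intro h
    obtain ⟨f, m, hpm, hq, -⟩ : ∃ (f : ℕ) (m : ℕ), p.Prime ∧ q = p ^ f ∧ m = m := by
      obtain ⟨a, _, ha⟩ := FiniteField.card F p
      have h6 : q ∣ p ^ (a : ℕ) := by
        rw [← ha, hF]
        exact dvd_pow_self q (by norm_num)
      obtain ⟨f, _, hf⟩ := (Nat.dvd_prime_pow hp).1 h6
      exact ⟨f, 0, hp, hf, rfl⟩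
    rw [hq] at h
    exact hp2 ((Nat.prime_dvd_prime_iff_eq Nat.prime_two hp).1 (Nat.prime_two.dvd_of_dvd_pow h)).symm
  have hq1 := two_le hF
  have hprime : ∀ r : ℕ, r.Prime → q = r → p = r := fun r hr h =>
    (Nat.prime_dvd_prime_iff_eq hp hr).1 (h ▸ hdvd)
  by_cases h3 : q = 3
  · obtain rfl := hprime 3 Nat.prime_three h3
    rcases Nat.lt_or_ge 2 k with hk | hk
    · exact lb_five hF h2 hp hp2 hk (by rw [h3])
    · obtain rfl : k = 1 := by
        by_contra h
        exact h43 ⟨by omega, h3⟩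
      exact lb_one hF h2 hp hp2 le_rfl (by rw [h3, pow_one])
  · rcases Nat.lt_or_ge 1 k with hk | hk
    · exact lb_of hF h2 hp hτ0 hτ (by omega) H le_rfl (closure_N1 hF)
        (herm_two hF h2 hp H hk (by omega) ⟨0, by omega⟩)
    · obtain rfl : k = 1 := by omega
      by_cases h5 : q = 5
      · obtain rfl := hprime 5 (by norm_num) h5
        exact lb_one hF h2 hp hp2 le_rfl (by rw [h5, pow_one])
      · exact lb_of hF h2 hp hτ0 hτ le_rfl H (N3_le hF) (closure_N3 hF (by (clear * - hodd hq1 h3 h5; omega)) (by omega)) (herm_one hF h2 hp H)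

end std

end Cfsg.Agent.Omega.ML.PsuLB

end

section


/-!
# `PSU_n(q)`, `q` odd: the Heisenberg bound with the torus

`lb : LB (PSU n F q) ((q - 1) * q ^ (n - 2))` for all `n ≥ 3`, `q ≥ 4`, `(n, q) ≠ (3, 5)` (helper351).
-/

set_option autoImplicit false
set_option linter.unusedSectionVars false
set_option linter.unusedSimpArgs false

universe u v w

namespace Cfsg.Agent.Omega.ML.PsuTorus

open Cfsg Matrix Cfsg.Agent.Omega.Lie.Heis Cfsg.Agent.Omega.ML.HermLift Cfsg.Agent.Omega.ML.PsuLB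
open Cfsg.Agent.LieClassical.HermBasic Cfsg.Agent.LieClassical.HermSiegel
open Cfsg.Agent.Omega.TwoF.LBPsu Cfsg.Agent.Omega.TwoF.RowPsu
open Cfsg.Agent.ClassicalGeometry.UnitAutBasic (pr)

section element

variable {F : Type*} [Field F] [Fintype F] {q n : ℕ}

/-- `x ↦ x + a h(x, v) u` -/
def dil (q : ℕ) (a : F) (u v : Fin n → F) : Matrix (Fin n) (Fin n) F :=
  1 + Matrix.vecMulVec u (fun j => a * v j ^ q)

theorem dil_mulVec (a : F) (u v x : Fin n → F) :
    dil q a u v *ᵥ x = x + (a * hermForm n F q x v) • u := by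
  have h1 : (fun j => a * v j ^ q) ⬝ᵥ x = a * hermForm n F q x v := by
    rw [herm_def, dotProduct, Finset.mul_sum]
    exact Finset.sum_congr rfl fun _ _ => by ring
  rw [dil, Matrix.add_mulVec, Matrix.one_mulVec, Matrix.vecMulVec_mulVec, h1, op_smul_eq_smul]

theorem dil_det (a : F) (u v : Fin n → F) : (dil q a u v).det = 1 + a * hermForm n F q u v := by
  rw [dil, Matrix.vecMulVec_eq Unit, Matrix.det_one_add_replicateCol_mul_replicateRow, herm_def, dotProduct,
    Finset.mul_sum]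
  congr 1
  exact Finset.sum_congr rfl fun _ _ => by ring

/-- A hyperbolic pair `u, v` (`h(u, v) = 2`) and a vector `w` of norm one. -/
structure Tri (q : ℕ) (u v w : Fin n → F) : Prop where
  uu : hermForm n F q u u = 0
  vv : hermForm n F q v v = 0
  uv : hermForm n F q u v = 2
  vu : hermForm n F q v u = 2
  wu : hermForm n F q w u = 0
  wv : hermForm n F q w v = 0
  uw : hermForm n F q u w = 0
  vw : hermForm n F q v w = 0
  ww : hermForm n F q w w = 1

/-- The matrix `x ↦ x + a h(x, v) u + b h(x, u) v + c h(x, w) w`. -/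
def tm (q : ℕ) (a b c : F) (u v w : Fin n → F) : Matrix (Fin n) (Fin n) F :=
  dil q a u v * (dil q b v u * dil q c w w)

variable {u v w : Fin n → F} {a b c : F}

theorem tm_mulVec (H : Tri q u v w) (x : Fin n → F) :
    tm q a b c u v w *ᵥ x = x + (a * hermForm n F q x v) • u + (b * hermForm n F q x u) • v +
      (c * hermForm n F q x w) • w := by
  rw [tm, ← Matrix.mulVec_mulVec, ← Matrix.mulVec_mulVec, dil_mulVec, dil_mulVec, dil_mulVec]
  simp only [herm_add_left, herm_smul_left, H.wu, H.wv, H.vv, mul_zero, add_zero]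
  abel

theorem tm_det (H : Tri q u v w) : (tm q a b c u v w).det = (1 + 2 * a) * (1 + 2 * b) * (1 + c) := by
  rw [tm, Matrix.det_mul, Matrix.det_mul, dil_det, dil_det, dil_det, H.uv, H.vu, H.ww]
  ring

theorem tm_herm (hF : Fintype.card F = q ^ 2) (H : Tri q u v w) (h1 : a + b ^ q + 2 * a * b ^ q = 0)
    (h2 : a ^ q + b + 2 * a ^ q * b = 0) (h3 : c + c ^ q + c * c ^ q = 0) (x y : Fin n → F) :
    hermForm n F q (tm q a b c u v w *ᵥ x) (tm q a b c u v w *ᵥ y) = hermForm n F q x y := by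
  rw [tm_mulVec H, tm_mulVec H]
  simp only [herm_add_left, herm_add_right hF, herm_smul_left, herm_smul_right, H.uu, H.vv, H.uv, H.vu, H.wu,
    H.wv, H.uw, H.vw, H.ww, mul_pow, mul_zero, add_zero, zero_add, mul_one]
  rw [herm_swap hF y u, herm_swap hF y v, herm_swap hF y w]
  linear_combination (hermForm n F q x v * hermForm n F q y u ^ q) * h1 +
    (hermForm n F q x u * hermForm n F q y v ^ q) * h2 + (hermForm n F q x w * hermForm n F q y w ^ q) * h3

/-- The torus element `u ↦ l u`, `v ↦ l⁻q v`, `w ↦ l ^ (q - 1) w`. -/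
theorem exists_tor (hF : Fintype.card F = q ^ 2) (h2 : (2 : F) ≠ 0) (H : Tri q u v w) {l : F} (hl : l ≠ 0) :
    ∃ t : SU n F q, act t u = l • u ∧ act t w = (l ^ q * l⁻¹) • w ∧
      ∀ g : SU n F q, act g u = (-1 : F) • u → act g v = (-1 : F) • v → act g w = w → t * g = g * t := by
  have hlq : l ^ q ≠ 0 := pow_ne_zero _ hl
  have hh : (2 : F) * 2⁻¹ = 1 := mul_inv_cancel₀ h2
  have h2q : ((2 : F)⁻¹) ^ q = 2⁻¹ := half_pow hF
  set! a : F := 2⁻¹ * (l - 1) with ha
  set! b : F := 2⁻¹ * ((l ^ q)⁻¹ - 1) with hb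
  set! c : F := l ^ q * l⁻¹ - 1 with hc
  have e1 : 1 + 2 * a = l := by rw [ha, ← mul_assoc, hh]; ring
  have e2 : 1 + 2 * b = (l ^ q)⁻¹ := by rw [hb, ← mul_assoc, hh]; ring
  have e3 : 1 + c = l ^ q * l⁻¹ := by rw [hc]; ring
  have e4 : 1 + 2 * a ^ q = l ^ q := by
    rw [ha, mul_pow, h2q, sub_pow_q hF, one_pow, ← mul_assoc, hh]; ring
  have e5 : 1 + 2 * b ^ q = l⁻¹ := by
    rw [hb, mul_pow, h2q, sub_pow_q hF, one_pow, ← mul_assoc, hh, inv_pow, pow_q_pow_q hF]; ring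
  have e6 : 1 + c ^ q = l * (l ^ q)⁻¹ := by
    rw [hc, sub_pow_q hF, one_pow, mul_pow, pow_q_pow_q hF, inv_pow]; ring
  have h1' : a + b ^ q + 2 * a * b ^ q = 0 := by
    have h3 : (1 + 2 * a) * (1 + 2 * b ^ q) = 1 := by rw [e1, e5, mul_inv_cancel₀ hl]
    apply mul_left_cancel₀ h2
    linear_combination h3
  have h2' : a ^ q + b + 2 * a ^ q * b = 0 := by
    have h3 : (1 + 2 * a ^ q) * (1 + 2 * b) = 1 := by rw [e4, e2, mul_inv_cancel₀ hlq]
    apply mul_left_cancel₀ h2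
    linear_combination h3
  have h3' : c + c ^ q + c * c ^ q = 0 := by
    have h3 : (1 + c) * (1 + c ^ q) = 1 := by
      rw [e3, e6]
      field_simp
    linear_combination h3
  have hdet : (tm q a b c u v w).det = 1 := by
    rw [tm_det H, e1, e2, e3]
    field_simp
  have hact : ∀ x, act (mkSU (tm q a b c u v w) hdet (tm_herm hF H h1' h2' h3') : SU n F q) x =
      x + (a * hermForm n F q x v) • u + (b * hermForm n F q x u) • v + (c * hermForm n F q x w) • w :=
    fun x => tm_mulVec H x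
  refine ⟨mkSU (tm q a b c u v w) hdet (tm_herm hF H h1' h2' h3'), ?_, ?_, ?_⟩
  · rw [hact, H.uv, H.uu, H.uw, mul_zero, mul_zero, zero_smul, zero_smul, add_zero, add_zero, ← e1, add_smul,
      one_smul, mul_comm a]
  · rw [hact, H.wv, H.wu, H.ww, mul_zero, mul_zero, zero_smul, zero_smul, add_zero, add_zero, mul_one, ← e3,
      add_smul, one_smul]
  · intro g hgu hgv hgw
    apply ext_act
    intro x
    rw [act_mul, act_mul, hact, hact, act_add, act_add, act_add, act_smul, act_smul, act_smul, hgu, hgv, hgw]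
    have k1 : hermForm n F q (act g x) v = -hermForm n F q x v := by
      have h5 : act g ((-1 : F) • v) = v := by rw [act_smul, hgv, smul_smul]; simp
      rw [← h5, herm_act, herm_smul_right, h5, neg_pow_q hF, one_pow]
      ring
    have k2 : hermForm n F q (act g x) u = -hermForm n F q x u := by
      have h5 : act g ((-1 : F) • u) = u := by rw [act_smul, hgu, smul_smul]; simp
      rw [← h5, herm_act, herm_smul_right, h5, neg_pow_q hF, one_pow]
      ring
    have k3 : hermForm n F q (act g x) w = hermForm n F q x w := by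
      nth_rw 1 [← hgw]
      rw [herm_act]
    rw [k1, k2, k3, smul_smul, smul_smul]
    simp only [mul_neg, mul_one]

variable {m : ℕ}

/-- Conjugation of a root element by an element with `u ↦ l u`, `w i ↦ d w i`, `d` of norm one. -/
theorem conj_T_tor (hF : Fintype.card F = q ^ 2) (h2 : (2 : F) ≠ 0) {u : Fin n → F} {w : Fin m → Fin n → F}
    (H : Frame q u w) {g : SU n F q} {l d : F} (hd : d * d ^ q = 1) (hu : act g u = l • u) {i : Fin m}
    (hw : act g (w i) = d • w i) (c : F) : g * T hF h2 H c i * g⁻¹ = T hF h2 H (l ^ q * d * c) i := by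
  have h1 : IsSiegel q u ((c * d) • w i) (-((2 : F)⁻¹ * (c * c ^ q))) := by
    have h3 := isSiegel_T hF h2 H (c * d) i
    have h4 : (c * d) * (c * d) ^ q = c * c ^ q := by
      calc (c * d) * (c * d) ^ q = (d * d ^ q) * (c * c ^ q) := by ring
        _ = c * c ^ q := by rw [hd, one_mul]
    rwa [h4] at h3
  rw [T, T, conj_siegel, siegel_congr hF _ (h1.smul (c := l)) hu
    (show act g (c • w i) = (c * d) • w i by rw [act_smul, hw, smul_smul]) rfl, siegel_smul hF h1]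
  refine siegel_congr hF _ _ rfl ?_ ?_
  · rw [smul_smul]
    congr 1
    ring
  · have h5 : (l ^ q * d * c) * (l ^ q * d * c) ^ q = (l ^ q * (l ^ q) ^ q) * (d * d ^ q) * (c * c ^ q) := by ring
    rw [h5, hd, pow_q_pow_q hF]
    ring

end element

/-! ### The standard configuration -/

section std

variable {F : Type*} [Field F] [Fintype F] {q k p : ℕ}

theorem herm_uu (hF : Fintype.card F = q ^ 2) {α : F} (hα : α * α ^ q = -1) :
    hermForm (k + 2) F q (uu k α) (uu k (-α)) = 2 := by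
  rw [uu, uu, herm_add_left, herm_smul_left, herm_single_left, herm_single_left]
  simp only [Pi.add_apply, Pi.smul_apply, Pi.single_eq_same, smul_eq_mul, one_mul, mul_one]
  rw [Pi.single_eq_of_ne (by simp : (0 : Fin (k + 2)) ≠ 1), Pi.single_eq_of_ne (by simp : (1 : Fin (k + 2)) ≠ 0)]
  simp only [mul_zero, add_zero, zero_add, one_pow, neg_pow_q hF]
  linear_combination -hα

theorem tri (hF : Fintype.card F = q ^ 2) {α : F} (hα : α * α ^ q = -1) (i : Fin k) :
    Tri q (uu k α) (uu k (-α)) (ww k i) := by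
  have hα' : -α * (-α) ^ q = -1 := by rw [neg_pow_q hF, neg_mul_neg, hα]
  have H := frame hF hα (fun i : Fin k => i) Function.injective_id
  have H' := frame hF hα' (fun i : Fin k => i) Function.injective_id
  refine ⟨H.uu, H'.uu, herm_uu hF hα, ?_, H.wu i, H'.wu i, herm_eq_zero_swap hF (H.wu i),
    herm_eq_zero_swap hF (H'.wu i), H.ww i⟩
  rw [herm_swap hF (uu k α), herm_uu hF hα, two_pow hF]

/-- The torus elements for the standard configuration. -/
theorem exists_torC (hF : Fintype.card F = q ^ 2) (h2 : (2 : F) ≠ 0) {α : F} (hα : α * α ^ q = -1)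
    (H : Frame q (uu k α) (fun i : Fin k => ww k i)) (i : Fin k) {e : F} (he : e ^ q = e) (he0 : e ≠ 0) :
    ∃ (t : SU (k + 2) F q) (a : F), t * gg hF = gg hF * t ∧
      (∀ c, t * T hF h2 H c i * t⁻¹ = T hF h2 H (a * c) i) ∧ a ^ q * a = e := by
  obtain ⟨l, hl⟩ := _root_.Cfsg.Agent.LieClassical.HermBasic.exists_norm_eq hF he
  have hl0 : l ≠ 0 := by
    rintro rfl
    rw [zero_mul] at hl
    exact he0 hl.symm
  obtain ⟨t, h1, h3, h4⟩ := exists_tor hF h2 (tri hF hα i) hl0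
  have hlq : l ^ q ≠ 0 := pow_ne_zero _ hl0
  have hd : (l ^ q * l⁻¹) * (l ^ q * l⁻¹) ^ q = 1 := by
    rw [mul_pow, pow_q_pow_q hF, inv_pow]
    field_simp
  refine ⟨t, l ^ q * (l ^ q * l⁻¹), h4 _ (act_gg_uu hF α) (act_gg_uu hF (-α)) (act_gg_ww hF i), fun c => ?_, ?_⟩
  · exact conj_T_tor hF h2 H hd h1 h3 c
  · calc (l ^ q * (l ^ q * l⁻¹)) ^ q * (l ^ q * (l ^ q * l⁻¹)) =
          (l ^ q) ^ q * l ^ q * ((l ^ q * l⁻¹) * (l ^ q * l⁻¹) ^ q) := by ring
      _ = e := by rw [hd, pow_q_pow_q hF, mul_one, hl]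

/-- The bound from the configuration. -/
theorem lb_of {F : Type v} [Field F] [Fintype F] {q k p : ℕ} (hF : Fintype.card F = q ^ 2) (h2 : (2 : F) ≠ 0)
    (hp : p.Prime) [CharP F p] {α τ : F} (hα : α * α ^ q = -1) (hτ0 : τ ≠ 0) (hτ : τ ^ q = -τ) (hk : 1 ≤ k)
    (H : Frame q (uu k α) (fun i : Fin k => ww k i)) {M : Submonoid F} (hM : M ≤ N1 hF)
    (hcl : AddSubgroup.closure (M : Set F) = ⊤) {i₀ : Fin k}
    (hS : Herm (conj hF : F →+* F) p (fun (i : Fin k) c => T hF h2 H c i) (ZZ hF H) (gg hF) (M : Set F) i₀) :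
    LB.{v, u, w} (PSU (k + 2) F q) ((q - 1) * q ^ k) := by
  have hp2 : p ≠ 2 := by
    rintro rfl
    exact h2 (by exact_mod_cast CharP.cast_eq_zero F 2)
  have hq2 : q ≠ 2 := by
    rintro rfl
    exact hp2 ((Nat.prime_dvd_prime_iff_eq hp Nat.prime_two).1 (p_dvd hF hp))
  have : IsSimpleGroup (PSU (k + 2) F q) :=
    Cfsg.Agent.S0283.result hF (k + 2) (by omega) (fun h => hq2 h.2)
  have : Fact p.Prime := ⟨hp⟩
  have h := (hS.map (pr (k + 2) F q)).lb_torus hp2 (pow_q_pow_q hF)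
    (fun ζ hζ => by
      show ζ ^ q * ζ = 1
      rw [mul_comm]
      exact hM hζ) hcl
    (fun a ha => by
      obtain ⟨c, hc⟩ := _root_.Cfsg.Agent.LieClassical.HermBasic.exists_norm_eq hF ha
      exact ⟨c, by rw [mul_comm]; exact hc⟩)
    (τ := τ) hτ (fun hne => by
      have h1 := congrArg (pr (k + 2) F q) (T_conj hF h2 H hτ (two_tau hF hτ) i₀)
      rw [map_mul, map_mul, map_mul] at h1
      have h3 : pr (k + 2) F q (Z hF H (two_tau hF hτ)) = 1 := by
        have h4 : pr (k + 2) F q (T hF h2 H 1 i₀) * pr (k + 2) F q (T hF h2 H τ i₀) =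
            pr (k + 2) F q (T hF h2 H τ i₀) * pr (k + 2) F q (T hF h2 H 1 i₀) := hne
        rw [← h4, mul_assoc] at h1
        have h5 := (mul_left_cancel h1 :)
        exact right_eq_mul.1 h5
      exact Z_ne hF (by omega) (by omega) H _ (mul_ne_zero h2 hτ0) (uu_ne α) h3)
    (fun e he he0 => by
      obtain ⟨t, a, h1, h3, h4⟩ := exists_torC hF h2 hα H i₀ (e := e) he he0
      refine ⟨pr (k + 2) F q t, a, ?_, fun c => ?_, h4⟩
      · rw [← map_mul, h1, map_mul]
      · rw [← map_inv, ← map_mul, ← map_mul, h3])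
  rwa [card_fix hF, Nat.card_eq_fintype_card (α := Fin k), Fintype.card_fin] at h

/-- **The Heisenberg bound with the torus for `PSU_n(q)`, `q` odd.** -/
theorem lb {F : Type v} [Field F] [Fintype F] {q n : ℕ} (hF : Fintype.card F = q ^ 2) (h2 : (2 : F) ≠ 0)
    (hn : 3 ≤ n) (hq : 4 ≤ q) (h35 : n = 3 → 7 ≤ q) :
    LB.{v, u, w} (PSU n F q) ((q - 1) * q ^ (n - 2)) := by
  obtain ⟨p, hpF⟩ := CharP.exists F
  have hp : p.Prime := CharP.char_is_prime F p
  obtain ⟨k, rfl⟩ : ∃ k, n = k + 2 := ⟨n - 2, by omega⟩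
  rw [Nat.add_sub_cancel]
  obtain ⟨α, hα⟩ := exists_alpha hF
  obtain ⟨τ, hτ0, hτ⟩ := exists_tau hF
  have H := frame hF hα (fun i : Fin k => i) Function.injective_id
  rcases Nat.lt_or_ge 1 k with hk | hk
  · exact lb_of hF h2 hp hα hτ0 hτ (by omega) H le_rfl (closure_N1 hF)
      (herm_two hF h2 hp H hk (by omega) ⟨0, by omega⟩)
  · obtain rfl : k = 1 := by omega
    have h8 : q ≠ 8 := by
      rintro rfl
      have h9 : ((8 : ℕ) : F) = 0 := by
        have h10 := Nat.cast_card_eq_zero F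
        rw [hF, Nat.cast_pow] at h10
        exact pow_eq_zero_iff (two_ne_zero) |>.1 h10
      apply h2
      have h10 : (2 : F) ^ 3 = 0 := by
        rw [← h9]; norm_num
      exact pow_eq_zero_iff (by norm_num : (3 : ℕ) ≠ 0) |>.1 h10
    exact lb_of hF h2 hp hα hτ0 hτ le_rfl H (N3_le hF) (closure_N3 hF (h35 rfl) h8) (herm_one hF h2 hp H)

end std

end Cfsg.Agent.Omega.ML.PsuTorus

end

section


/-!
# (ML), the K-list end: `PSU_n(q)`, `q` odd: the numbers

* `card_le : |PSU_n(q)| ≤ q ^ (n² - 1)`;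
* `numML` : `NumML` for all `PSU_n(q)`, `n ≥ 3`, `q` odd, `(n, q) ≠ (3, 3), (4, 3), (3, 9)`;
* `psu` : the row.
-/

set_option autoImplicit false
set_option linter.unusedSectionVars false

universe u v

namespace Cfsg.Agent.Omega.ML.PsuNum

open Cfsg Cfsg.Agent.Omega.TwoF Cfsg.Agent.Omega.KFacts Cfsg.Agent.Omega.ML.Num
open Cfsg.Agent.Omega.Lie
open Cfsg.Agent.LieClassical.HermBasic

/-- The product in the order of `SU_n(q)`. -/
def P (q n : ℕ) : ℕ := ∏ i ∈ Finset.range n, (if Even i then q ^ (i + 1) + 1 else q ^ (i + 1) - 1)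

theorem P_succ (q n : ℕ) : P q (n + 1) = P q n * (if Even n then q ^ (n + 1) + 1 else q ^ (n + 1) - 1) :=
  Finset.prod_range_succ _ _

theorem pair_le {q a : ℕ} (hq : 1 ≤ q) : (q ^ a - 1) * (q ^ (a + 1) + 1) ≤ q ^ (2 * a + 1) := by
  have h1 : 1 ≤ q ^ a := Nat.one_le_pow _ _ hq
  obtain ⟨x, hx⟩ : ∃ x, q ^ a = x + 1 := ⟨q ^ a - 1, by omega⟩
  have h2 : q ^ (2 * a + 1) = q * (q ^ a * q ^ a) := by ring
  have h3 : q ^ (a + 1) = q * q ^ a := by ring
  rw [h2, h3, hx, Nat.add_sub_cancel]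
  linarith only [Nat.mul_le_mul_right (x + 1) hq]

theorem P_odd {q : ℕ} (hq : 1 ≤ q) (m : ℕ) : P q (2 * m + 1) ≤ (q + 1) * q ^ (2 * m ^ 2 + 3 * m) := by
  induction m with
  | zero => simp only [P, _root_.Cfsg.Agent.Omega.ML.PsuNum.P, _root_.MulZeroClass.mul_zero, _root_.zero_add, _root_.Finset.range_one, _root_.Finset.prod_singleton, _root_.Even.zero, ↓ _root_.reduceIte, _root_.pow_one, _root_.ne_eq, _root_.OfNat.ofNat_ne_zero, _root_.not_false_eq_true, _root_.zero_pow, _root_.add_zero, _root_.pow_zero, _root_.mul_one, _root_.Std.le_refl]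
  | succ m ih =>
    have h1 : ¬ Even (2 * m + 1) := by
      rw [Nat.not_even_iff_odd]
      exact ⟨m, rfl⟩
    have h2 : Even (2 * m + 1 + 1) := ⟨m + 1, by ring⟩
    rw [show 2 * (m + 1) + 1 = 2 * m + 1 + 1 + 1 by ring, P_succ, P_succ, if_neg h1, if_pos h2, mul_assoc]
    calc P q (2 * m + 1) * ((q ^ (2 * m + 1 + 1) - 1) * (q ^ (2 * m + 1 + 1 + 1) + 1))
        ≤ ((q + 1) * q ^ (2 * m ^ 2 + 3 * m)) * q ^ (2 * (2 * m + 1 + 1) + 1) :=
          Nat.mul_le_mul ih (pair_le hq)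
      _ = (q + 1) * q ^ (2 * (m + 1) ^ 2 + 3 * (m + 1)) := by
          rw [mul_assoc, ← pow_add]
          congr 2
          ring

theorem P_even {q : ℕ} (hq : 1 ≤ q) (m : ℕ) : P q (2 * m + 2) ≤ (q + 1) * q ^ (2 * m ^ 2 + 5 * m + 2) := by
  have h1 : ¬ Even (2 * m + 1) := by
    rw [Nat.not_even_iff_odd]
    exact ⟨m, rfl⟩
  rw [show 2 * m + 2 = 2 * m + 1 + 1 by ring, P_succ, if_neg h1]
  calc P q (2 * m + 1) * (q ^ (2 * m + 1 + 1) - 1)
      ≤ ((q + 1) * q ^ (2 * m ^ 2 + 3 * m)) * q ^ (2 * m + 1 + 1) :=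
        Nat.mul_le_mul (P_odd hq m) (Nat.sub_le _ _)
    _ = (q + 1) * q ^ (2 * m ^ 2 + 5 * m + 2) := by
        rw [mul_assoc, ← pow_add]
        congr 2
        ring

theorem P_le {q : ℕ} (hq : 1 ≤ q) {n : ℕ} (hn : 1 ≤ n) :
    q ^ (n * (n - 1) / 2) * P q n ≤ (q + 1) * q ^ (n ^ 2 - 1) := by
  obtain ⟨m, rfl | rfl⟩ : ∃ m, n = 2 * m + 1 ∨ n = 2 * m + 2 := ⟨(n - 1) / 2, by omega⟩
  · have h1 : (2 * m + 1) * (2 * m + 1 - 1) / 2 = 2 * m ^ 2 + m := by
      rw [Nat.add_sub_cancel]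
      apply Nat.div_eq_of_eq_mul_right (by norm_num)
      ring
    have h2 : (2 * m + 1) ^ 2 - 1 = (2 * m ^ 2 + m) + (2 * m ^ 2 + 3 * m) := by
      have : (2 * m + 1) ^ 2 = (2 * m ^ 2 + m) + (2 * m ^ 2 + 3 * m) + 1 := by ring
      rw [this, Nat.add_sub_cancel]
    rw [h1, h2]
    calc q ^ (2 * m ^ 2 + m) * P q (2 * m + 1)
        ≤ q ^ (2 * m ^ 2 + m) * ((q + 1) * q ^ (2 * m ^ 2 + 3 * m)) := Nat.mul_le_mul_left _ (P_odd hq m)
      _ = (q + 1) * q ^ (2 * m ^ 2 + m + (2 * m ^ 2 + 3 * m)) := by rw [pow_add q (2 * m ^ 2 + m)]; ring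
  · have h1 : (2 * m + 2) * (2 * m + 2 - 1) / 2 = 2 * m ^ 2 + 3 * m + 1 := by
      rw [show 2 * m + 2 - 1 = 2 * m + 1 by omega]
      apply Nat.div_eq_of_eq_mul_right (by norm_num)
      ring
    have h2 : (2 * m + 2) ^ 2 - 1 = (2 * m ^ 2 + 3 * m + 1) + (2 * m ^ 2 + 5 * m + 2) := by
      have : (2 * m + 2) ^ 2 = (2 * m ^ 2 + 3 * m + 1) + (2 * m ^ 2 + 5 * m + 2) + 1 := by ring
      rw [this, Nat.add_sub_cancel]
    rw [h1, h2]
    calc q ^ (2 * m ^ 2 + 3 * m + 1) * P q (2 * m + 2)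
        ≤ q ^ (2 * m ^ 2 + 3 * m + 1) * ((q + 1) * q ^ (2 * m ^ 2 + 5 * m + 2)) :=
          Nat.mul_le_mul_left _ (P_even hq m)
      _ = (q + 1) * q ^ (2 * m ^ 2 + 3 * m + 1 + (2 * m ^ 2 + 5 * m + 2)) := by
          rw [pow_add q (2 * m ^ 2 + 3 * m + 1)]; ring

/-- **The order of `PSU_n(q)`.** -/
theorem card_le {F : Type*} [Field F] [Fintype F] {n q : ℕ} (hF : Fintype.card F = q ^ 2) (hn : 2 ≤ n) :
    Nat.card (PSU n F q) ≤ q ^ (n ^ 2 - 1) := by
  have h1 := Cfsg.Agent.S0280.result hF n hn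
  have hq := two_le hF
  have h2 : (q + 1) * Nat.card (PSU n F q) ≤ (q + 1) * q ^ (n ^ 2 - 1) := by
    calc (q + 1) * Nat.card (PSU n F q)
        ≤ Nat.gcd n (q + 1) * ((q + 1) * Nat.card (PSU n F q)) :=
          Nat.le_mul_of_pos_left _ (Nat.gcd_pos_of_pos_left _ (by omega))
      _ = q ^ (n * (n - 1) / 2) * P q n := h1
      _ ≤ _ := P_le (by omega) (by omega)
  exact Nat.le_of_mul_le_mul_left h2 (by omega)

/-- `q ≤ 2 ^ (q / 4 + 2)`. -/
theorem le_two_pow (q : ℕ) : q ≤ 2 ^ (q / 4 + 2) := by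
  have key : ∀ m r : ℕ, r < 4 → 4 * m + r ≤ 2 ^ (m + 2) := by
    intro m r hr
    induction m with
    | zero => omega
    | succ m ih =>
      have h1 : 2 ^ (m + 1 + 2) = 2 * 2 ^ (m + 2) := by ring
      have h2 : 2 ^ (m + 2) = 4 * 2 ^ m := by ring
      have h3 : 1 ≤ 2 ^ m := Nat.one_le_two_pow
      omega
  have h1 := key (q / 4) (q % 4) (Nat.mod_lt _ (by norm_num))
  omega

theorem card_le_two_pow {F : Type*} [Field F] [Fintype F] {n q l : ℕ} (hF : Fintype.card F = q ^ 2) (hn : 2 ≤ n)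
    (hl : q ≤ 2 ^ l) : Nat.card (PSU n F q) ≤ 2 ^ (l * (n ^ 2 - 1)) := by
  rw [pow_mul]
  exact (card_le hF hn).trans (Nat.pow_le_pow_left hl _)

theorem ineq_a (j : ℕ) : (j + 5) ^ 2 - 1 ≤ 24 * 2 ^ j := by
  induction j with
  | zero => norm_num
  | succ j ih =>
    have h2 : (j + 1 + 5) ^ 2 - 1 ≤ 2 * ((j + 5) ^ 2 - 1) := by
      have h3 : (j + 1 + 5) ^ 2 = (j ^ 2 + 12 * j + 35) + 1 := by ring
      have h4 : (j + 5) ^ 2 = (j ^ 2 + 10 * j + 24) + 1 := by ring
      rw [h3, h4, Nat.add_sub_cancel, Nat.add_sub_cancel]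
      linarith only [_root_.sq_nonneg (↑j : ℤ), _root_.Nat.cast_nonneg (α := ℤ) (j)]
    have h5 : 2 ^ (j + 1) = 2 * 2 ^ j := by ring
    omega

theorem ineq_b (j : ℕ) : 2 * (j + 5) - 1 ≤ 9 * 2 ^ j := by
  induction j with
  | zero => norm_num
  | succ j ih =>
    have h5 : 2 ^ (j + 1) = 2 * 2 ^ j := by ring
    omega

theorem ineq_c (j l : ℕ) : ((j + 5) ^ 2 - 1) * l + 2 * (j + 5) - 1 ≤ (24 * l + 9) * 2 ^ j := by
  calc ((j + 5) ^ 2 - 1) * l + 2 * (j + 5) - 1 ≤ ((j + 5) ^ 2 - 1) * l + (2 * (j + 5) - 1) := by omega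
    _ ≤ (24 * 2 ^ j) * l + 9 * 2 ^ j := Nat.add_le_add (Nat.mul_le_mul_right _ (ineq_a j)) (ineq_b j)
    _ = (24 * l + 9) * 2 ^ j := by ring

/-- The inequality for `n = j + 5`, `q ≥ 5`. -/
theorem ineq_five {q j l : ℕ} (hq : 2 ≤ q) (h : 24 * l + 9 ≤ 2 * q ^ 3) :
    ((j + 5) ^ 2 - 1) * l + 2 * (j + 5) - 1 ≤ 2 * q ^ (j + 3) := by
  calc ((j + 5) ^ 2 - 1) * l + 2 * (j + 5) - 1 ≤ (24 * l + 9) * 2 ^ j := ineq_c j l
    _ ≤ (2 * q ^ 3) * q ^ j := Nat.mul_le_mul h (Nat.pow_le_pow_left hq _)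
    _ = 2 * q ^ (j + 3) := by ring

/-- The inequality for `n = j + 6`, `q = 3`. -/
theorem ineq_three (j : ℕ) : ((j + 6) ^ 2 - 1) * 2 + 2 * (j + 6) - 1 ≤ 2 * 3 ^ (j + 4) := by
  have h1 := ineq_c (j + 1) 2
  calc ((j + 6) ^ 2 - 1) * 2 + 2 * (j + 6) - 1 ≤ (24 * 2 + 9) * 2 ^ (j + 1) := h1
    _ = 114 * 2 ^ j := by ring
    _ ≤ 162 * 3 ^ j := Nat.mul_le_mul (by norm_num) (Nat.pow_le_pow_left (by norm_num) _)
    _ = 2 * 3 ^ (j + 4) := by ring

/-- From `X ≤ 2 q ^ k` to the criterion. -/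
theorem crit {n X Y c : ℕ} (hn : 2 ≤ n) (h0 : 1 ≤ X) (h : X ≤ 2 * Y) (hc : 2 ≤ c) : (n - 1) * X < n * (c * Y) := by
  obtain ⟨m, rfl⟩ : ∃ m, n = m + 1 := ⟨n - 1, by omega⟩
  rw [Nat.add_sub_cancel]
  calc m * X < m * X + X := by omega
    _ = (m + 1) * X := by ring
    _ ≤ (m + 1) * (2 * Y) := Nat.mul_le_mul_left _ h
    _ ≤ (m + 1) * (c * Y) := Nat.mul_le_mul_left _ (Nat.mul_le_mul_right _ hc)

theorem rk_psu {F : Type*} [Field F] [Fintype F] {n q : ℕ} (hF : Fintype.card F = q ^ 2) (h2 : (2 : F) ≠ 0)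
    (hn : 3 ≤ n) : Rk.RK.{u} (PSU n F q) (RkLin.rk n + 1) := by
  intro X _ _ N _ ⟨e⟩ hc A hA
  exact RkPSL.RkAut.of_normal (RkPSU.rkAut hF h2 hn) e hc A hA

theorem NumML.congr {S : Type*} [Group S] {K : Type u} [Group K] (e : S ≃* K) {n a N : ℕ}
    (h1 : Heis.LB.{_, u, v} S n) (h2 : Rk.RK.{u} S a) (h4 : Nat.card S ≤ 2 ^ N)
    (h5 : (a - 1) * (N + 2 * a - 1) < a * n) : NumML.{u, v} K :=
  NumML.of_card (h1.congr e) (h2.of_equiv e) (by rwa [← Nat.card_congr e.toEquiv]) h5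

/-- `ord_p(2) ≥ 3` for `p ≥ 5`. -/
theorem three_le_order {p : ℕ} (hp : p.Prime) (h5 : 5 ≤ p) : 3 ≤ orderOf (2 : ZMod p) := by
  apply RowPsl.le_orderOf hp (by omega)
  intro d h0 h1 h
  have h6 : ((2 ^ d : ℕ) : ZMod p) = ((1 : ℕ) : ZMod p) := by push_cast; exact h
  rw [ZMod.natCast_eq_natCast_iff] at h6
  have h7 : (2 ^ d) % p = 1 % p := h6
  have hd : d = 1 ∨ d = 2 := by omega
  rcases hd with rfl | rfl
  · rw [Nat.mod_eq_of_lt (by omega), Nat.mod_eq_of_lt (by omega)] at h7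
    omega
  · rw [Nat.mod_eq_of_lt (by omega), Nat.mod_eq_of_lt (by omega)] at h7
    omega

/-- **`NumML` for `PSU_n(q)`, `q` odd.** -/
theorem numML {F : Type*} [Field F] [Fintype F] {n q p : ℕ} (hF : Fintype.card F = q ^ 2) (h2 : (2 : F) ≠ 0)
    (hp : p.Prime) [CharP F p] (hn : 3 ≤ n) (h33 : ¬ (n = 3 ∧ q = 3)) (h43 : ¬ (n = 4 ∧ q = 3))
    (h39 : ¬ (n = 3 ∧ q = 9)) {K : Type u} [Group K] (e : PSU n F q ≃* K) : NumML.{u, v} K := by
  have hlb := PsuLB.lb.{u, _, v} hF h2 hp hn h43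
  have hrk := rk_psu.{u} hF h2 hn
  have hp2 : p ≠ 2 := by
    rintro rfl
    exact h2 (by exact_mod_cast CharP.cast_eq_zero F 2)
  have hc := RowPsl.two_le_order hp hp2
  have hpq := PsuLB.p_dvd hF hp
  have hq1 := two_le hF
  obtain ⟨f, hf⟩ : ∃ f, q = p ^ f := by
    obtain ⟨a, _, ha⟩ := FiniteField.card F p
    have h6 : q ∣ p ^ (a : ℕ) := by
      rw [← ha, hF]
      exact dvd_pow_self q (by norm_num)
    obtain ⟨f, _, hf⟩ := (Nat.dvd_prime_pow hp).1 h6
    exact ⟨f, hf⟩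
  have hodd : Odd q := by
    rw [hf]
    exact (hp.odd_of_ne_two hp2).pow
  have hq3 : 3 ≤ q := by
    obtain ⟨m, hm⟩ := hodd
    omega
  have hl := le_two_pow q
  by_cases hn3 : n = 3
  · subst hn3
    have hr : RkLin.rk 3 + 1 = 3 := by decide
    rw [hr] at hrk
    have hq5 : 5 ≤ q := by
      obtain ⟨m, hm⟩ := hodd
      omega
    refine NumML.congr e hlb hrk (card_le_two_pow hF (by norm_num) hl) ?_
    have h10 : (orderOf (2 : ZMod p) * q ^ (3 - 2)) = orderOf (2 : ZMod p) * q := by norm_num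
    rw [h10]
    by_cases hp3 : p = 3
    · subst hp3
      have h27 : 27 ≤ q := by
        have hf3 : 3 ≤ f := by
          by_contra hlt
          have h6 : f = 0 ∨ f = 1 ∨ f = 2 := by omega
          rcases h6 with rfl | rfl | rfl
          · rw [hf] at hq3
            norm_num at hq3
          · exact h33 ⟨rfl, by rw [hf]; norm_num⟩
          · exact h39 ⟨rfl, by rw [hf]; norm_num⟩
        rw [hf]
        exact (show 27 = 3 ^ 3 by norm_num) ▸ Nat.pow_le_pow_right (by norm_num) hf3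
      have h9 : 2 * q ≤ orderOf (2 : ZMod 3) * q := Nat.mul_le_mul_right _ hc
      omega
    · have hp5 : 5 ≤ p := by
        have := hp.two_le
        by_contra hlt
        have h6 : p = 4 := by (clear * - hp2 hp3 this hlt; omega)
        subst h6
        exact absurd hp (by norm_num)
      have h9 : 3 * q ≤ orderOf (2 : ZMod p) * q := Nat.mul_le_mul_right _ (three_le_order hp hp5)
      by_cases h5 : q = 5
      · obtain rfl : p = 5 := (Nat.prime_dvd_prime_iff_eq hp (by norm_num)).1 (h5 ▸ hpq)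
        subst h5
        have h11 : 4 * 5 ≤ orderOf (2 : ZMod 5) * 5 := Nat.mul_le_mul_right _ RowPsl.order_five
        omega
      · by_cases h7 : q = 7
        · subst h7
          omega
        · have h9' : 9 ≤ q := by
            obtain ⟨m, hm⟩ := hodd
            omega
          omega
  by_cases hn4 : n = 4
  · subst hn4
    have hr : RkLin.rk 4 + 1 = 5 := by decide
    rw [hr] at hrk
    have hq5 : 5 ≤ q := by
      obtain ⟨m, hm⟩ := hodd
      omega
    refine NumML.congr e hlb hrk (card_le_two_pow hF (by norm_num) hl) ?_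
    have h8 : (5 - 1) * ((q / 4 + 2) * (4 ^ 2 - 1) + 2 * 5 - 1) ≤ 15 * q + 156 := by omega
    refine lt_of_le_of_lt h8 ?_
    show 15 * q + 156 < 5 * (orderOf (2 : ZMod p) * q ^ 2)
    have h9 : 10 * q ^ 2 ≤ 5 * (orderOf (2 : ZMod p) * q ^ 2) := by
      have := Nat.mul_le_mul_right (q ^ 2) hc
      omega
    refine lt_of_lt_of_le ?_ h9
    nlinarith only [hq5]
  obtain ⟨j, rfl⟩ : ∃ j, n = j + 5 := ⟨n - 5, by omega⟩
  have hr : RkLin.rk (j + 5) + 1 = j + 5 := by
    rw [RkLin.rk, if_neg (by omega)]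
    omega
  rw [hr] at hrk
  have hlb' : Heis.LB.{_, u, v} (PSU (j + 5) F q) (orderOf (2 : ZMod p) * q ^ (j + 3)) := hlb
  by_cases hq5 : 5 ≤ q
  · refine NumML.congr e hlb' hrk (card_le_two_pow hF (by omega) hl) ?_
    have h8 : 24 * (q / 4 + 2) + 9 ≤ 2 * q ^ 3 := by
      have h9 : 24 * (q / 4 + 2) + 9 ≤ 6 * q + 57 := by omega
      nlinarith only [h9, Nat.mul_le_mul hq5 hq5, Nat.mul_le_mul (Nat.mul_le_mul hq5 hq5) hq5]
    have h9 := ineq_five (j := j) (by omega) h8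
    rw [mul_comm ((j + 5) ^ 2 - 1)] at h9
    exact crit (by omega) (by omega) h9 hc
  · obtain rfl : q = 3 := by
      obtain ⟨m, hm⟩ := hodd
      omega
    have hl2 : 3 ≤ 2 ^ 2 := by norm_num
    refine NumML.congr e hlb' hrk (card_le_two_pow hF (by omega) hl2) ?_
    rcases Nat.eq_zero_or_pos j with rfl | hj
    · have h9 : 2 * 27 ≤ orderOf (2 : ZMod p) * 27 := Nat.mul_le_mul_right _ hc
      show (5 - 1) * (2 * (5 ^ 2 - 1) + 2 * 5 - 1) < 5 * (orderOf (2 : ZMod p) * 27)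
      omega
    · obtain ⟨i, rfl⟩ : ∃ i, j = i + 1 := ⟨j - 1, by omega⟩
      have h9 := ineq_three i
      rw [mul_comm ((i + 6) ^ 2 - 1)] at h9
      exact crit (by omega) (by omega) h9 hc

/-- `K ≅ PSU_n(q)`. -/
def IsU (n q : ℕ) (K : Type u) [Group K] : Prop :=
  ∃ (F : Type) (_ : Field F) (_ : Fintype F), Fintype.card F = q ^ 2 ∧ Nonempty (K ≃* PSU n F q)

/-- **The row `PSU_n(q)`, `q` odd.** -/
theorem psu (K : Type u) [Group K] (h : OddChar @IsPSUChar K) (h33 : ¬ IsU 3 3 K) (h43 : ¬ IsUFourThree K)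
    (h39 : ¬ IsU 3 9 K) : NumML.{u, v} K := by
  obtain ⟨p, hp, hp2, F, _, _, _, n, q, hF, hn, h32, ⟨e⟩⟩ := h
  have h2 : (2 : F) ≠ 0 := by
    intro h0
    have h1 : ((2 : ℕ) : F) = 0 := by exact_mod_cast h0
    rw [CharP.cast_eq_zero_iff F p] at h1
    exact hp2 ((Nat.prime_dvd_prime_iff_eq hp Nat.prime_two).1 h1)
  refine numML hF h2 hp hn ?_ ?_ ?_ e.symm
  · rintro ⟨rfl, rfl⟩
    exact h33 ⟨F, _, _, hF, ⟨e⟩⟩
  · rintro ⟨rfl, rfl⟩
    exact h43 ⟨F, _, _, by rw [hF]; norm_num, ⟨e⟩⟩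
  · rintro ⟨rfl, rfl⟩
    exact h39 ⟨F, _, _, hF, ⟨e⟩⟩

end Cfsg.Agent.Omega.ML.PsuNum

end

section


/-!
# (ML), the K-list end: `U₃(9)` and the full row `PSU_n(q)`, `q` odd (helper351)

`nine` : `NumML K` for `K ≅ PSU₃(9)` (the bound 72 by the torus); `psu` : the row without the exception `U₃(9)`.
-/

set_option autoImplicit false

universe u v

namespace Cfsg.Agent.Omega.ML.UThreeNine

open Cfsg Cfsg.Agent.Omega.TwoF Cfsg.Agent.Omega.KFacts Cfsg.Agent.Omega.ML.Num Cfsg.Agent.Omega.ML.PsuNum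
open Cfsg.Agent.Omega.Lie
open Cfsg.Agent.LieClassical.HermBasic

theorem two_ne {F : Type*} [Field F] [Fintype F] (hF : Fintype.card F = 9 ^ 2) : (2 : F) ≠ 0 := by
  intro h
  have h1 := Nat.cast_card_eq_zero F
  rw [hF] at h1
  have h2 : ((9 ^ 2 : ℕ) : F) = 2 * 40 + 1 := by norm_num
  rw [h2, h, zero_mul, zero_add] at h1
  exact one_ne_zero h1

/-- **`U₃(9)`.** -/
theorem nine {K : Type u} [Group K] (h : IsU 3 9 K) : NumML.{u, v} K := by
  obtain ⟨F, _, _, hF, ⟨e⟩⟩ := h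
  have h2 := two_ne hF
  have hlb := PsuTorus.lb.{u, _, v} (n := 3) hF h2 le_rfl (by norm_num) (fun _ => by norm_num)
  have hrk := rk_psu.{u} (n := 3) hF h2 le_rfl
  have hr : RkLin.rk 3 + 1 = 3 := by decide
  rw [hr] at hrk
  refine PsuNum.NumML.congr e.symm hlb hrk (card_le_two_pow (l := 4) hF (by norm_num) (by norm_num)) ?_
  norm_num

/-- **The row `PSU_n(q)`, `q` odd.** -/
theorem psu (K : Type u) [Group K] (h : OddChar @IsPSUChar K) (h33 : ¬ IsU 3 3 K) (h43 : ¬ IsUFourThree K) :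
    NumML.{u, v} K := by
  by_cases h39 : IsU 3 9 K
  · exact nine h39
  · exact PsuNum.psu K h h33 h43 h39

end Cfsg.Agent.Omega.ML.UThreeNine

end

section


/-!
# (ML), the K-list end: a few conjugates of an involution generate (helper844)

The situation `In H M K T A` of `Omega/ML/Rows.lean`; `S = K / Z(K)`.

* `GenBy S n` : `S` is generated by `n` conjugates of every involution;
* `card_le` : `|M| ≤ |M : C_M(x)|^n` for an involution `x ∈ K`;
* `not_le_nine` : `3⁶ ∣ |S|` ⟹ `|M| > 2⁹` (`3⁶ ∤ |GL₉(2)|`);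
* `card_A_le` : `RK S a` ⟹ `|A| ≤ 2^a`;  `card_A_le_inf` : `|A : A ∩ K| ≤ 2^c` if this holds in `Aut S`;
* `NormEl S` : a normal elementary abelian 2-subgroup of `C_S(z)`, `z` an involution, has order at most 2;
  `inf_le_two` : if `|M : C_M(x)| = |M : C_M(A)|` for some `1 ≠ x ∈ A ∩ K` then `|A ∩ K| ≤ 2`;
* **`dead_of_five`** : `GenBy S 3`, `3⁶ ∣ |S|`, `NormEl S`, `RK S 5`, `|B : B ∩ Inn S| ≤ 4` : the row is dead (`U₄(3)`);
* **`dead_of_four`** : `GenBy S 3`, `3⁶ ∣ |S|`, `RK S 4`, `|B : B ∩ Inn S| ≤ 4` : the row is dead (`G₂(3)`).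
-/

set_option autoImplicit false
set_option linter.unusedVariables false

namespace Cfsg.Agent.Omega.ML.Gen3

open Subgroup Cfsg Cfsg.Agent.ClassTwoFusion.Quad Cfsg.Agent.Omega.NOThree.NoOver Cfsg.Agent.Omega.ML.CD
  Cfsg.Agent.Omega.ML.Rows Cfsg.Agent.Omega.ML.InvFrob Cfsg.Agent.Omega.TwoF

universe u v w

/-- `S` is generated by `n` conjugates of every involution. -/
def GenBy (S : Type w) [Group S] (n : ℕ) : Prop :=
  ∀ x : S, x ≠ 1 → x * x = 1 → ∃ l : Fin n → S, Subgroup.closure (Set.range fun i => l i * x * (l i)⁻¹) = ⊤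

/-- A normal elementary abelian 2-subgroup of the centraliser of an involution has order at most 2. -/
def NormEl (S : Type w) [Group S] : Prop :=
  ∀ z : S, z ≠ 1 → z * z = 1 → ∀ N : Subgroup S, (∀ x ∈ N, x * z = z * x) →
    (∀ c : S, c * z = z * c → ∀ x ∈ N, c * x * c⁻¹ ∈ N) → (∀ x ∈ N, x * x = 1) → Nat.card N ≤ 2

/-- `|B : B ∩ Inn S| ≤ 2^c` for the elementary abelian 2-groups of automorphisms. -/
def OutLe (S : Type w) [Group S] (c : ℕ) : Prop :=
  ∀ B : Subgroup (MulAut S), (∀ b ∈ B, b ^ 2 = 1) →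
    Nat.card B ≤ 2 ^ c * Nat.card (B ⊓ (MulAut.conj : S →* MulAut S).range : Subgroup (MulAut S))

section equiv

variable {S : Type v} {S' : Type w} [Group S] [Group S']

theorem GenBy.equiv (e : S ≃* S') {n : ℕ} (h : GenBy S' n) : GenBy S n := by
  intro x hx hxx
  obtain ⟨l, hl⟩ := h (e x) (fun h1 => hx (e.injective (h1.trans (map_one e).symm))) (by rw [← map_mul, hxx, map_one])
  refine ⟨fun i => e.symm (l i), ?_⟩
  have h1 : (Subgroup.closure (Set.range fun i => e.symm (l i) * x * (e.symm (l i))⁻¹)).map e.toMonoidHom = ⊤ := by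
    rw [MonoidHom.map_closure, ← Set.range_comp, ← hl]
    congr 1
    congr 1
    funext i
    simp only [_root_.MulEquiv.toMonoidHom_eq_coe, _root_.MonoidHom.coe_coe, _root_.Function.comp_apply, _root_.map_mul, _root_.MulEquiv.apply_symm_apply, _root_.map_inv]
  have h2 := congrArg (Subgroup.comap e.toMonoidHom) h1
  rw [comap_map_eq_self_of_injective e.injective, comap_top] at h2
  exact h2

theorem NormEl.equiv (e : S ≃* S') (h : NormEl S') : NormEl S := by
  intro z hz hzz N h1 h2 h3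
  have h4 := h (e z) (fun h1 => hz (e.injective (h1.trans (map_one e).symm))) (by rw [← map_mul, hzz, map_one])
    (N.map e.toMonoidHom) (by
      rintro _ ⟨x, hx, rfl⟩
      exact (map_mul e x z).symm.trans ((congrArg e (h1 x hx)).trans (map_mul e z x))) (by
      intro c hc
      obtain ⟨c, rfl⟩ := e.surjective c
      rintro _ ⟨x, hx, rfl⟩
      refine ⟨c * x * c⁻¹, h2 c ?_ x hx, ?_⟩
      · apply e.injective
        rw [map_mul, map_mul, hc]
      · simp only [_root_.MulEquiv.toMonoidHom_eq_coe, _root_.MonoidHom.coe_coe, _root_.map_mul, _root_.map_inv]) (by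
      rintro _ ⟨x, hx, rfl⟩
      exact (map_mul e x x).symm.trans ((congrArg e (h3 x hx)).trans (map_one e)))
  rwa [← Nat.card_congr (N.equivMapOfInjective e.toMonoidHom e.injective).toEquiv] at h4

theorem OutLe.equiv (e : S ≃* S') {c : ℕ} (h : OutLe S' c) : OutLe S c := by
  intro B hB
  have h1 := h (B.map (MulAut.congr e).toMonoidHom) (by
    rintro _ ⟨x, hx, rfl⟩
    rw [← map_pow, hB x hx, map_one])
  have h2 : (B.map (MulAut.congr e).toMonoidHom ⊓ (MulAut.conj : S' →* MulAut S').range) =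
      (B ⊓ (MulAut.conj : S →* MulAut S).range).map (MulAut.congr e).toMonoidHom := by
    ext φ
    constructor
    · rintro ⟨⟨b, hb, rfl⟩, ⟨s, hs⟩⟩
      refine ⟨b, ⟨hb, e.symm s, ?_⟩, rfl⟩
      ext t
      have h3 := congrArg (fun ψ : MulAut S' => ψ (e t)) hs
      simp only [MulAut.conj_apply, MulEquiv.toMonoidHom_eq_coe, MonoidHom.coe_coe, MulAut.congr_apply,
        MulEquiv.trans_apply, MulEquiv.symm_apply_apply] at h3
      rw [MulAut.conj_apply]
      apply e.injective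
      rw [← h3]
      simp only [_root_.map_mul, _root_.MulEquiv.apply_symm_apply, _root_.map_inv]
    · rintro ⟨b, ⟨hb, s, hs⟩, rfl⟩
      refine ⟨⟨b, hb, rfl⟩, e s, ?_⟩
      ext t
      have h3 := congrArg (fun ψ : MulAut S => e (ψ (e.symm t))) hs
      simp only [MulAut.conj_apply, map_mul, map_inv, MulEquiv.apply_symm_apply] at h3
      rw [MulAut.conj_apply, h3]
      simp
  rw [h2, ← Nat.card_congr (B.equivMapOfInjective _ (MulAut.congr e).injective).toEquiv,
    ← Nat.card_congr ((B ⊓ (MulAut.conj : S →* MulAut S).range).equivMapOfInjective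
      (MulAut.congr e).toMonoidHom (MulAut.congr e).injective).toEquiv] at h1
  exact h1

end equiv

/-! ### Generation -/

/-- A subgroup covering `K / Z(K)`, `K` perfect, is `K`. -/
theorem eq_top_of_sup_center {G : Type*} [Group G] (hp : commutator G = ⊤) {L : Subgroup G} (h : L ⊔ center G = ⊤) :
    L = ⊤ := by
  rw [eq_top_iff, ← hp, commutator_def, commutator_le]
  intro a _ b _
  have ha : a ∈ L ⊔ center G := h ▸ mem_top a
  have hb : b ∈ L ⊔ center G := h ▸ mem_top b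
  obtain ⟨l, hl, z, hz, rfl⟩ := mem_sup_of_normal_right.1 ha
  obtain ⟨m, hm, y, hy, rfl⟩ := mem_sup_of_normal_right.1 hb
  have hz' := mem_center_iff.1 hz
  have hy' := mem_center_iff.1 hy
  have e1 : l * z * (m * y) * (l * z)⁻¹ = l * (m * y) * l⁻¹ := by
    calc l * z * (m * y) * (l * z)⁻¹ = l * (z * (m * y)) * z⁻¹ * l⁻¹ := by group
      _ = l * ((m * y) * z) * z⁻¹ * l⁻¹ := by rw [hz' (m * y)]
      _ = _ := by group
  have e2 : l * (m * y) * l⁻¹ = l * m * l⁻¹ * y := by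
    calc l * (m * y) * l⁻¹ = l * m * (y * l⁻¹) := by group
      _ = l * m * (l⁻¹ * y) := by rw [hy' l⁻¹]
      _ = _ := by group
  have e3 : l * z * (m * y) * (l * z)⁻¹ * (m * y)⁻¹ = l * m * l⁻¹ * m⁻¹ := by
    rw [e1, e2]
    group
  rw [commutatorElement_def, e3]
  exact mul_mem (mul_mem (mul_mem hl hm) (inv_mem hl)) (inv_mem hm)

theorem gen_lift {G : Type*} [Group G] (hp : commutator G = ⊤) {n : ℕ} (hg : GenBy (G ⧸ center G) n) {x : G}
    (hx : x ∉ center G) (hxx : x * x = 1) :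
    ∃ l : Fin n → G, Subgroup.closure (Set.range fun i => l i * x * (l i)⁻¹) = ⊤ := by
  obtain ⟨l, hl⟩ := hg (QuotientGroup.mk x) (fun h => hx ((QuotientGroup.eq_one_iff x).1 h))
    (by rw [← QuotientGroup.mk_mul, hxx, QuotientGroup.mk_one])
  choose k hk using fun i => QuotientGroup.mk_surjective (l i)
  refine ⟨k, eq_top_of_sup_center hp ?_⟩
  have h1 : (Subgroup.closure (Set.range fun i => k i * x * (k i)⁻¹)).map (QuotientGroup.mk' (center G)) = ⊤ := by
    rw [MonoidHom.map_closure, ← Set.range_comp, ← hl]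
    congr 1
    congr 1
    funext i
    show QuotientGroup.mk (k i * x * (k i)⁻¹) = _
    rw [QuotientGroup.mk_mul, QuotientGroup.mk_mul, QuotientGroup.mk_inv, hk]
  have h2 := congrArg (Subgroup.comap (QuotientGroup.mk' (center G))) h1
  rw [comap_map_eq, QuotientGroup.ker_mk', comap_top] at h2
  exact h2

section main

variable {H : Type u} [Group H] {M : Type v} [Group M] [MulDistribMulAction H M] {K T A : Subgroup H}

/-- An involution of `K` is not central in `K`. -/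
theorem not_mem_center [Finite H] (h : In H M K T A) {x : K} (hx : x ≠ 1) (hxx : x * x = 1) : x ∉ center K := by
  intro h1
  have h2 : orderOf x ∣ 2 ^ 1 := orderOf_dvd_of_pow_eq_one (by rw [pow_one, pow_two, hxx])
  have h3 : orderOf x ∣ Nat.card (center K) := by
    have := _root_.orderOf_dvd_natCard (⟨x, h1⟩ : center K)
    rwa [orderOf_mk] at this
  have h4 : Nat.Coprime (2 ^ 1) (Nat.card (center K)) := (Nat.coprime_two_left.2 h.odd).pow_left 1
  exact hx (orderOf_eq_one_iff.1 (Nat.eq_one_of_dvd_coprimes h4 h2 h3))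

/-- `C_M(K) = 1`. -/
theorem cv_eq_bot (h : In H M K T A) : cv M (K : Set H) = ⊥ := by
  have hK := h.norm
  rcases h.irr (cv M (K : Set H)) (by
    intro g w hw k hk
    have h1 := hw (g⁻¹ * k * g) (by
      have := hK.conj_mem k hk g⁻¹
      rwa [inv_inv] at this)
    rw [mul_smul, mul_smul, inv_smul_eq_iff] at h1
    exact h1) with h1 | h1
  · exact h1
  · exfalso
    have h2 : K = ⊥ := by
      rw [eq_bot_iff]
      intro k hk
      exact mem_bot.2 (h.faith k fun m => (h1 ▸ mem_top m : m ∈ cv M (K : Set H)) k hk)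
    have h3 : Subsingleton K := by rw [h2]; infer_instance
    have h4 := h.qs.2
    have h5 := h4.toNontrivial
    obtain ⟨a, b, hab⟩ := h5
    obtain ⟨a, rfl⟩ := QuotientGroup.mk_surjective a
    obtain ⟨b, rfl⟩ := QuotientGroup.mk_surjective b
    exact hab (congrArg _ (Subsingleton.elim a b))

/-- **`|M| ≤ |M : C_M(x)|^n`.** -/
theorem card_le [Finite H] [Finite M] (h : In H M K T A) {n : ℕ} (hg : GenBy (K ⧸ center K) n) {x : H} (hxK : x ∈ K)
    (hx : x ≠ 1) (hxx : x * x = 1) : Nat.card M ≤ (cv M ({x} : Set H)).index ^ n := by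
  have h1 : (⟨x, hxK⟩ : K) ∉ center K := not_mem_center h (fun h2 => hx (congrArg Subtype.val h2)) (Subtype.ext hxx)
  obtain ⟨l, hl⟩ := gen_lift h.perf hg h1 (Subtype.ext hxx)
  have h2 : (⨅ i : Fin n, cv M ({(l i : H) * x * (l i : H)⁻¹} : Set H)) ≤ cv M (K : Set H) := by
    intro m hm k hk
    have h3 : ∀ i, ((l i : H) * x * (l i : H)⁻¹) • m = m := fun i => mem_cv_singleton.1 (mem_iInf.1 hm i)
    let St : Subgroup K := (MulAction.stabilizer H m).comap K.subtype
    have h4 : (⊤ : Subgroup K) ≤ St := by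
      rw [← hl, closure_le]
      rintro _ ⟨i, rfl⟩
      exact h3 i
    exact h4 (mem_top (⟨k, hk⟩ : K))
  rw [cv_eq_bot h, le_bot_iff] at h2
  have h5 : (⨅ i : Fin n, cv M ({(l i : H) * x * (l i : H)⁻¹} : Set H)).index ≤
      ∏ i : Fin n, (cv M ({(l i : H) * x * (l i : H)⁻¹} : Set H)).index := Subgroup.index_iInf_le _
  rw [h2, index_bot] at h5
  refine h5.trans (le_of_eq ?_)
  rw [Finset.prod_congr rfl fun i _ => index_cv_conj (M := M) (l i : H) x, Finset.prod_const, Finset.card_univ,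
    Fintype.card_fin]

/-- `3⁶ ∤ |GL_m(2)|` for `m ≤ 9`. -/
theorem not_dvd_GL : ∀ m ≤ 9, ¬ 3 ^ 6 ∣ Nat.card (Matrix.GeneralLinearGroup (Fin m) (ZMod 2)) := by
  intro m hm
  have : Fact (Nat.Prime 2) := ⟨Nat.prime_two⟩
  rw [Matrix.card_GL_field, ZMod.card]
  interval_cases m <;> simp only [Finset.univ_unique, Fin.prod_univ_succ, Finset.univ_eq_empty,
    Finset.prod_empty, Fin.val_zero, Fin.val_succ] <;> decide

/-- `|M| > 2⁹` if `3⁶` divides `|K / Z(K)|`. -/
theorem not_le_nine [Finite H] [Finite M] (h : In H M K T A) (h3 : 3 ^ 6 ∣ Nat.card (K ⧸ center K)) :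
    ¬ Nat.card M ≤ 2 ^ 9 := by
  intro hM
  have : Fact (Nat.Prime 2) := ⟨Nat.prime_two⟩
  let _ : CommGroup M := { (inferInstance : Group M) with mul_comm := comm_of_sq h.sq }
  obtain ⟨m, hm⟩ := IsPGroup.iff_card.1 (isPGroup_two h.sq)
  have hm9 : m ≤ 9 := (Nat.pow_le_pow_iff_right (by norm_num)).1 (hm ▸ hM)
  obtain ⟨e⟩ := Cfsg.Agent.Lib.ElemAbGL.mulAut_equiv_GL (V := M) 2 m (fun x => by rw [pow_two]; exact h.sq x) hm
  apply not_dvd_GL m hm9
  rw [← Nat.card_congr e.toEquiv]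
  have h4 : Nat.card K ∣ Nat.card (MulAut M) := by
    refine Subgroup.card_dvd_of_injective ((MulDistribMulAction.toMulAut H M).comp K.subtype) ?_
    rw [injective_iff_map_eq_one]
    intro k hk
    refine Subtype.ext (h.faith k fun m => ?_)
    exact congrArg (fun φ : MulAut M => φ m) hk
  have h5 : Nat.card (K ⧸ center K) ∣ Nat.card K := (center K).card_quotient_dvd_card
  exact (h3.trans h5).trans h4

/-- `|M : C_M(x)| ≥ 2⁴` for the involutions `x ∈ K`. -/
theorem four_le [Finite H] [Finite M] (h : In H M K T A) (hg : GenBy (K ⧸ center K) 3)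
    (h3 : 3 ^ 6 ∣ Nat.card (K ⧸ center K)) {x : H} (hxK : x ∈ K) (hx : x ≠ 1) (hxx : x * x = 1) :
    2 ^ 4 ≤ (cv M ({x} : Set H)).index := by
  obtain ⟨k, hk⟩ := index_pow h.sq (cv M ({x} : Set H))
  rw [hk]
  refine Nat.pow_le_pow_right (by norm_num) ?_
  by_contra hc
  apply not_le_nine h h3
  refine (card_le h hg hxK hx hxx).trans ?_
  rw [hk, ← pow_mul]
  exact Nat.pow_le_pow_right (by norm_num) (by omega)

/-! ### The action of `A` on `K / Z(K)` -/

/-- `H → Aut (K / Z(K))` -/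
def act (hK : K.Normal) : H →* MulAut (K ⧸ center K) where
  toFun g := QuotientGroup.congr (center K) (center K) (MulAut.conjNormal (H := K) g)
    (Subgroup.characteristic_iff_map_eq.1 (inferInstance : (center K).Characteristic) _)
  map_one' := by
    ext x
    obtain ⟨k, rfl⟩ := QuotientGroup.mk_surjective x
    change (QuotientGroup.mk (MulAut.conjNormal (H := K) (1 : H) k) : K ⧸ center K) = QuotientGroup.mk k
    rw [map_one]
    rfl
  map_mul' a b := by
    ext x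
    obtain ⟨k, rfl⟩ := QuotientGroup.mk_surjective x
    change (QuotientGroup.mk (MulAut.conjNormal (H := K) (a * b) k) : K ⧸ center K) =
      QuotientGroup.mk (MulAut.conjNormal (H := K) a (MulAut.conjNormal (H := K) b k))
    rw [map_mul]
    rfl

theorem act_mk (hK : K.Normal) (g : H) (k : K) :
    act hK g (QuotientGroup.mk k) = QuotientGroup.mk (MulAut.conjNormal (H := K) g k) := rfl

theorem mem_of_center (h : In H M K T A) {k : K} (hk : k ∈ center K) (x : H) : x * (k : H) = (k : H) * x := by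
  refine h.zen (k : H) ?_ x
  exact mem_centralizer_iff.2 fun y hy => congrArg Subtype.val (mem_center_iff.1 hk ⟨y, hy⟩)

/-- An element acting trivially on `K / Z(K)` centralises `K`. -/
theorem mem_centralizer_of_act (h : In H M K T A) {g : H} (hg : act h.norm g = 1) : g ∈ centralizer (K : Set H) := by
  refine commutes_of_central h.perf fun k hk x => ?_
  have := h.norm
  have h1 := congrArg (fun φ : MulAut (K ⧸ center K) => φ (QuotientGroup.mk ⟨k, hk⟩)) hg
  change QuotientGroup.mk (MulAut.conjNormal (H := K) g ⟨k, hk⟩) = (QuotientGroup.mk ⟨k, hk⟩ : K ⧸ center K) at h1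
  have h2 := QuotientGroup.eq.1 h1.symm
  -- `k⁻¹ g k g⁻¹ ∈ Z(K)`
  have h3 := mem_of_center h h2
  have h4 : ((⟨k, hk⟩⁻¹ * MulAut.conjNormal (H := K) g ⟨k, hk⟩ : K) : H) = k⁻¹ * (g * k * g⁻¹) := by
    rw [Subgroup.coe_mul, Subgroup.coe_inv, MulAut.conjNormal_apply]
  rw [h4] at h3
  have h5 : g * k * g⁻¹ * k⁻¹ = k⁻¹ * (g * k * g⁻¹) := by
    have h6 := h3 k
    calc g * k * g⁻¹ * k⁻¹ = (k * (k⁻¹ * (g * k * g⁻¹))) * k⁻¹ := by group
      _ = (k⁻¹ * (g * k * g⁻¹) * k) * k⁻¹ := by rw [h6]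
      _ = _ := by group
  rw [h5]
  exact h3 x

theorem isPGroup_A (h : In H M K T A) : IsPGroup 2 A :=
  fun a => ⟨1, Subtype.ext (by rw [pow_one, pow_two]; exact h.el a a.2)⟩

theorem act_injective [Finite H] (h : In H M K T A) :
    Function.Injective ((act h.norm).comp A.subtype) := by
  rw [injective_iff_map_eq_one]
  intro a ha
  have h1 := mem_centralizer_of_act h (g := (a : H)) ha
  have h2 : (a : H) ∈ A ⊓ centralizer (K : Set H) := ⟨a.2, h1⟩
  rw [h.inf_eq_bot A (isPGroup_A h)] at h2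
  exact Subtype.ext (mem_bot.1 h2)

/-- **`|A| ≤ 2^a`.** -/
theorem card_A_le [Finite H] (h : In H M K T A) {a : ℕ} (hr : RK (K ⧸ center K) a) : Nat.card A ≤ 2 ^ a :=
  hr.card_le_of_injective _ (act_injective h) fun x => Subtype.ext (by rw [pow_two]; exact h.el x x.2)

/-- **`|A : A ∩ K| ≤ 2^c`.** -/
theorem card_A_le_inf [Finite H] (h : In H M K T A) {c : ℕ} (ho : OutLe (K ⧸ center K) c) :
    Nat.card A ≤ 2 ^ c * Nat.card (A ⊓ K : Subgroup H) := by
  have h1 := ho (A.map (act h.norm)) (by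
    rintro _ ⟨a, ha, rfl⟩
    rw [← map_pow, pow_two, h.el a ha, map_one])
  have hinj := act_injective h
  have h2 : Nat.card (A.map (act h.norm)) = Nat.card A := by
    have h6 : ((act h.norm).comp A.subtype).range = A.map (act h.norm) := by
      rw [MonoidHom.range_eq_map, ← Subgroup.map_map, ← MonoidHom.range_eq_map, range_subtype]
    rw [← h6]
    exact (Nat.card_congr (MonoidHom.ofInjective hinj).toEquiv).symm
  have h3 : (A.map (act h.norm) ⊓ (MulAut.conj : K ⧸ center K →* MulAut (K ⧸ center K)).range) ≤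
      (A ⊓ K).map (act h.norm) := by
    rintro _ ⟨⟨a, ha, rfl⟩, ⟨s, hs⟩⟩
    refine ⟨a, ⟨ha, ?_⟩, rfl⟩
    obtain ⟨k, rfl⟩ := QuotientGroup.mk_surjective s
    have h4 : act h.norm (a * (k : H)⁻¹) = 1 := by
      have h5 : act h.norm (k : H) = MulAut.conj (QuotientGroup.mk k : K ⧸ center K) := by
        ext x
        obtain ⟨y, rfl⟩ := QuotientGroup.mk_surjective x
        rw [act_mk, MulAut.conj_apply, ← QuotientGroup.mk_inv, ← QuotientGroup.mk_mul, ← QuotientGroup.mk_mul]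
        rfl
      rw [map_mul, map_inv, ← hs, h5, mul_inv_cancel]
    have h5 := h.cen (mem_centralizer_of_act h h4)
    have h6 := mul_mem h5 k.2
    rwa [inv_mul_cancel_right] at h6
  have h4 : Nat.card ((A ⊓ K).map (act h.norm)) ≤ Nat.card (A ⊓ K : Subgroup H) :=
    Nat.card_le_card_of_surjective _ ((act h.norm).subgroupMap_surjective (A ⊓ K))
  rw [h2] at h1
  exact h1.trans (Nat.mul_le_mul_left _ ((card_le_of_le h3).trans h4))

/-! ### The normal elementary abelian subgroup of `C(x)` -/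

/-- `C_K(x) ∩ C_K(C_M(x))` -/
def nn (M : Type v) [Group M] [MulDistribMulAction H M] (K : Subgroup H) (x : H) : Subgroup K where
  carrier := {k | (k : H) * x = x * k ∧ ∀ m ∈ cv M ({x} : Set H), (k : H) • m = m}
  one_mem' := ⟨by simp, fun m _ => by rw [Subgroup.coe_one, one_smul]⟩
  mul_mem' := by
    rintro a b ⟨ha, ha'⟩ ⟨hb, hb'⟩
    refine ⟨?_, fun m hm => ?_⟩
    · rw [Subgroup.coe_mul, mul_assoc, hb, ← mul_assoc, ha, mul_assoc]
    · rw [Subgroup.coe_mul, mul_smul, hb' m hm, ha' m hm]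
  inv_mem' := by
    rintro a ⟨ha, ha'⟩
    refine ⟨?_, fun m hm => ?_⟩
    · rw [Subgroup.coe_inv, inv_mul_eq_iff_eq_mul, ← mul_assoc, ha, mul_assoc, mul_inv_cancel, mul_one]
    · rw [Subgroup.coe_inv, inv_smul_eq_iff, ha' m hm]

theorem nn_sq (h : In H M K T A) {x : H} (hxx : x * x = 1) {k : K} (hk : k ∈ nn M K x) : k * k = 1 := by
  obtain ⟨h1, h2⟩ := hk
  refine Subtype.ext (h.faith _ fun m => ?_)
  -- `c = m⁻¹ (x • m) ∈ C_M(x)`
  have hcomm := comm_of_sq h.sq
  have hinv : ∀ a : M, a⁻¹ = a := fun a => inv_eq_of_mul_eq_one_left (h.sq a)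
  have h3 : ∀ m : M, m * x • m ∈ cv M ({x} : Set H) := by
    intro m
    rw [mem_cv_singleton, smul_mul', ← mul_smul, hxx, one_smul, hcomm]
  -- `m * (k • m) ∈ C_M(x)`
  have h4 : m * (k : H) • m ∈ cv M ({x} : Set H) := by
    rw [mem_cv_singleton, smul_mul', ← mul_smul, ← h1, mul_smul]
    have h5 := h2 _ (h3 m)
    rw [smul_mul'] at h5
    -- `k • m * k • x • m = m * x • m`
    have h6 : (k : H) • x • m = (k : H) • m * (m * x • m) := by
      rw [← h5, ← mul_assoc, h.sq, one_mul]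
    rw [h6]
    calc x • m * ((k : H) • m * (m * x • m)) = (x • m * x • m) * (m * (k : H) • m) := by
          rw [hcomm ((k : H) • m) (m * x • m), hcomm m (x • m), mul_assoc (x • m) m, ← mul_assoc (x • m) (x • m)]
      _ = m * (k : H) • m := by rw [h.sq, one_mul]
  have h5 := h2 _ h4
  rw [smul_mul'] at h5
  -- `k • m * k • k • m = m * k • m`
  have h6 : (k : H) • (k : H) • m = m := by
    have h7 : (k : H) • (k : H) • m = (k : H) • m * (m * (k : H) • m) := by
      rw [← h5, ← mul_assoc, h.sq, one_mul]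
    rw [h7, hcomm m, ← mul_assoc, h.sq, one_mul]
  rw [Subgroup.coe_mul, mul_smul, h6]

/-- **If `C_M(x) = C_M(A)` then `|A ∩ K| ≤ 2`.** -/
theorem inf_le_two [Finite H] (h : In H M K T A) (hN : NormEl (K ⧸ center K)) {x : H} (hxK : x ∈ K) (hxA : x ∈ A)
    (hx : x ≠ 1) (hc : cv M ({x} : Set H) ≤ cv M (A : Set H)) : Nat.card (A ⊓ K : Subgroup H) ≤ 2 := by
  have hxx := h.el x hxA
  set! x' : K := ⟨x, hxK⟩ with hx'
  have hx1 : x' ≠ 1 := fun h1 => hx (congrArg Subtype.val h1)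
  have hodd : ∀ y ∈ center K, y * y = 1 → y = 1 := by
    intro y hy hyy
    by_contra hy1
    exact not_mem_center h hy1 hyy hy
  have h1 := hN (QuotientGroup.mk x') (fun h1 => not_mem_center h hx1 (Subtype.ext hxx)
      ((QuotientGroup.eq_one_iff _).1 h1)) (by rw [← QuotientGroup.mk_mul, (Subtype.ext hxx : x' * x' = 1),
      QuotientGroup.mk_one]) ((nn M K x).map (QuotientGroup.mk' (center K))) (by
      rintro _ ⟨y, hy, rfl⟩
      show QuotientGroup.mk y * QuotientGroup.mk x' = QuotientGroup.mk x' * QuotientGroup.mk y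
      rw [← QuotientGroup.mk_mul, ← QuotientGroup.mk_mul]
      congr 1
      exact Subtype.ext hy.1) (by
      intro c hc'
      obtain ⟨c, rfl⟩ := QuotientGroup.mk_surjective c
      rintro _ ⟨y, hy, rfl⟩
      -- `c` commutes with `x`
      have h2 : c * x' * c⁻¹ = x' := by
        have h3 : (QuotientGroup.mk (x'⁻¹ * (c * x' * c⁻¹)) : K ⧸ center K) = 1 := by
          rw [QuotientGroup.mk_mul, QuotientGroup.mk_mul, QuotientGroup.mk_mul, hc', QuotientGroup.mk_inv,
            QuotientGroup.mk_inv, mul_inv_cancel_right, inv_mul_cancel]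
        have h4 := (QuotientGroup.eq_one_iff _).1 h3
        set ζ := x'⁻¹ * (c * x' * c⁻¹) with hζ
        have h5 : c * x' * c⁻¹ = x' * ζ := by rw [hζ]; group
        have h6 : ζ * ζ = 1 := by
          have h7 : (c * x' * c⁻¹) * (c * x' * c⁻¹) = 1 := by
            calc (c * x' * c⁻¹) * (c * x' * c⁻¹) = c * (x' * x') * c⁻¹ := by group
              _ = 1 := by rw [(Subtype.ext hxx : x' * x' = 1), mul_one, mul_inv_cancel]
          rw [h5] at h7
          calc ζ * ζ = (x' * x') * (ζ * ζ) := by rw [(Subtype.ext hxx : x' * x' = 1), one_mul]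
            _ = x' * (x' * ζ) * ζ := by group
            _ = x' * (ζ * x') * ζ := by rw [mem_center_iff.1 h4 x']
            _ = (x' * ζ) * (x' * ζ) := by group
            _ = 1 := h7
        rw [h5, hodd ζ h4 h6, mul_one]
      have h3 : (c : H) * x = x * c := by
        have h4 := congrArg Subtype.val h2
        rw [Subgroup.coe_mul, Subgroup.coe_mul, Subgroup.coe_inv] at h4
        rwa [mul_inv_eq_iff_eq_mul] at h4
      refine ⟨c * y * c⁻¹, ⟨?_, fun m hm => ?_⟩, rfl⟩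
      · have h5 := hy.1
        have h6 : (c : H)⁻¹ * x = x * (c : H)⁻¹ := by
          rw [inv_mul_eq_iff_eq_mul, ← mul_assoc, h3, mul_assoc, mul_inv_cancel, mul_one]
        rw [Subgroup.coe_mul, Subgroup.coe_mul, Subgroup.coe_inv]
        calc (c : H) * y * (c : H)⁻¹ * x = c * y * ((c : H)⁻¹ * x) := by group
          _ = c * (y * x) * (c : H)⁻¹ := by rw [h6]; group
          _ = c * x * y * (c : H)⁻¹ := by rw [h5]; group
          _ = x * (c * y * (c : H)⁻¹) := by rw [h3]; group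
      · have h5 : (c : H)⁻¹ • m ∈ cv M ({x} : Set H) := by
          have h6 : (c : H)⁻¹ * x = x * (c : H)⁻¹ := by
            rw [inv_mul_eq_iff_eq_mul, ← mul_assoc, h3, mul_assoc, mul_inv_cancel, mul_one]
          rw [mem_cv_singleton, ← mul_smul, ← h6, mul_smul, mem_cv_singleton.1 hm]
        rw [Subgroup.coe_mul, Subgroup.coe_mul, Subgroup.coe_inv, mul_smul, mul_smul, hy.2 _ h5, smul_inv_smul]) (by
      rintro _ ⟨y, hy, rfl⟩
      rw [← map_mul, nn_sq h hxx hy, map_one])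
  refine le_trans ?_ h1
  let f : (A ⊓ K : Subgroup H) → (nn M K x).map (QuotientGroup.mk' (center K)) := fun a =>
    ⟨QuotientGroup.mk' (center K) ⟨a, a.2.2⟩, ⟨⟨a, a.2.2⟩, ⟨by
      have h2 := h.el a a.2.1
      have h3 := h.el (a * x) (mul_mem a.2.1 hxA)
      have e1 : ((a : H))⁻¹ = a := inv_eq_of_mul_eq_one_left h2
      have e2 : x⁻¹ = x := inv_eq_of_mul_eq_one_left hxx
      have e3 : ((a : H) * x)⁻¹ = a * x := inv_eq_of_mul_eq_one_left h3
      rw [mul_inv_rev, e1, e2] at e3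
      exact e3.symm, fun m hm => hc hm a a.2.1⟩, rfl⟩⟩
  refine Nat.card_le_card_of_injective f ?_
  intro a b hab
  have h2 : (QuotientGroup.mk (⟨a, a.2.2⟩ : K) : K ⧸ center K) = QuotientGroup.mk ⟨b, b.2.2⟩ :=
    congrArg Subtype.val hab
  have h3 := QuotientGroup.eq.1 h2
  have h4 : (⟨a, a.2.2⟩ : K)⁻¹ * ⟨b, b.2.2⟩ = 1 := by
    apply hodd _ h3
    apply Subtype.ext
    exact h.el _ (mul_mem (inv_mem a.2.1) b.2.1)
  have h5 := congrArg Subtype.val (inv_mul_eq_one.1 h4)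
  exact Subtype.ext h5

/-! ### The rows -/

theorem exists_inv [Finite H] (h : In H M K T A) (ho : OutLe (K ⧸ center K) 2) : ∃ x ∈ A, x ∈ K ∧ x ≠ 1 := by
  by_contra hc
  push Not at hc
  have h1 : A ⊓ K = ⊥ := by
    rw [eq_bot_iff]
    intro x hx
    exact mem_bot.2 (hc x hx.1 hx.2)
  have h2 := card_A_le_inf h ho
  rw [h1, Subgroup.card_bot] at h2
  have h3 := h.eight
  omega

theorem index_lt [Finite H] [Finite M] (h : In H M K T A) : (cv M (A : Set H)).index < Nat.card A := by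
  have h1 : A ≠ ⊥ := by
    intro h1
    have h2 := h.eight
    rw [h1, Subgroup.card_bot] at h2
    omega
  have h2 := h.strict ⊥ (bot_lt_iff_ne_bot.2 h1)
  have h4 : fab M 1 1 (⊥ : Subgroup H) = Nat.card M := by
    rw [fab, cv_bot, Subgroup.card_bot]
    simp only [_root_.one_pow, _root_.Subgroup.mem_top, _root_.nonempty_subtype, _root_.exists_const, _root_.Nat.card_subtype_true, _root_.pow_one, _root_.one_mul]
  have h5 : fab M 1 1 A = Nat.card A * Nat.card (cv M (A : Set H)) := by rw [fab, pow_one, pow_one]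
  rw [h4, h5, ← (cv M (A : Set H)).card_mul_index, mul_comm] at h2
  exact Nat.lt_of_mul_lt_mul_right h2

/-- **`a ≤ 5`.** -/
theorem dead_of_five {𝒮 : ∀ (S : Type u) [Group S], Prop} (h𝒮 : ∀ (S : Type u) [Group S], 𝒮 S →
    GenBy S 3 ∧ 3 ^ 6 ∣ Nat.card S ∧ RK S 5 ∧ OutLe S 2 ∧ NormEl S) : Dead.{u, v} 𝒮 := by
  intro H _ _ M _ _ _ K T A h hK
  obtain ⟨hg, h3, hr, ho, hN⟩ := h𝒮 _ hK
  obtain ⟨x, hxA, hxK, hx⟩ := exists_inv h ho
  have h1 := four_le h hg h3 hxK hx (h.el x hxA)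
  have h2 := index_lt h
  have hle : cv M (A : Set H) ≤ cv M ({x} : Set H) := cv_anti (Set.singleton_subset_iff.2 hxA)
  have h4 : (cv M ({x} : Set H)).index ≤ (cv M (A : Set H)).index :=
    Nat.le_of_dvd (Nat.pos_of_ne_zero Subgroup.FiniteIndex.index_ne_zero) (Subgroup.index_dvd_of_le hle)
  have h5 := card_A_le h hr
  obtain ⟨i, hi⟩ := index_pow h.sq (cv M (A : Set H))
  obtain ⟨j, hj⟩ := index_pow h.sq (cv M ({x} : Set H))
  rw [hj] at h1
  rw [hi, hj] at h4
  have h6 : 2 ^ i < 2 ^ 5 := by rw [← hi]; omega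
  have e1 := (Nat.pow_le_pow_iff_right (by norm_num : 1 < 2)).1 h1
  have e2 := (Nat.pow_le_pow_iff_right (by norm_num : 1 < 2)).1 h4
  have e3 := (Nat.pow_lt_pow_iff_right (by norm_num : 1 < 2)).1 h6
  have e4 : i = j := by omega
  have hcard : Nat.card (cv M (A : Set H)) = Nat.card (cv M ({x} : Set H)) := by
    have f1 := (cv M (A : Set H)).card_mul_index
    have f2 := (cv M ({x} : Set H)).card_mul_index
    rw [hi] at f1
    rw [hj, ← e4, ← f1] at f2
    exact (Nat.eq_of_mul_eq_mul_right (Nat.pow_pos (by norm_num)) f2).symm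
  have heq : cv M (A : Set H) = cv M ({x} : Set H) := Subgroup.eq_of_le_of_card_ge hle hcard.ge
  have h7 := inf_le_two h hN hxK hxA hx heq.ge
  have h8 := card_A_le_inf h ho
  rw [hi] at h2
  have h9 : 2 ^ 4 ≤ 2 ^ i := Nat.pow_le_pow_right (by norm_num) (by omega)
  omega

end main

end Cfsg.Agent.Omega.ML.Gen3

end

section


/-!
# `U₄(3)`: elementary abelian 2-groups of automorphisms (helper844)

`outLe : OutLe (PSU 4 F 3) 2`, `rk : RK (PSU 4 F 3) 5` (`|F| = 9`).
-/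

set_option autoImplicit false
set_option linter.unusedSectionVars false

namespace Cfsg.Agent.Omega.ML.UFour.Out

open Cfsg Matrix Cfsg.Agent.Omega.TwoF.RkLin Cfsg.Agent.Omega.TwoF.RkPSL Cfsg.Agent.Omega.TwoF.RkPSU
open Cfsg.Agent.LieClassical.HermBasic Cfsg.Agent.LieClassical.HermSiegel
open Cfsg.Agent.ClassicalGeometry.PSUAutCount (gm toAut gm_mul gm_one gm_mul_inv gm_inv_mul eq_of_toAut_eq herm_gm)
open Cfsg.Agent.ClassicalGeometry.UnitAutBasic (pr pr_surjective)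
open Cfsg.Agent.Schreier.PSU (f₁ f₂ toAut_eq mapGU conj_field f₁_eq_conj)
open Cfsg.Agent.Omega.ML.Gen3 Cfsg.Agent.Omega.TwoF

variable {F : Type*} [Field F] [Fintype F]

theorem two_ne (hF : Fintype.card F = 9) : (2 : F) ≠ 0 := by
  intro h0
  obtain ⟨p, hp⟩ := CharP.exists F
  obtain ⟨k, hpp, hk⟩ := FiniteField.card F p
  have h1 : ((2 : ℕ) : F) = 0 := by exact_mod_cast h0
  rw [CharP.cast_eq_zero_iff F p] at h1
  have h3 := (Nat.prime_dvd_prime_iff_eq hpp Nat.prime_two).1 h1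
  subst h3
  have h4 : 2 ∣ 9 := by
    rw [← hF, hk]
    exact dvd_pow_self 2 k.pos.ne'
  norm_num at h4

theorem rk (hF : Fintype.card F = 9) : RK (PSU 4 F 3) 5 := by
  have h1 : RkAut (PSU 4 F 3) (RkLin.rk 4 + 1) := _root_.Cfsg.Agent.Omega.TwoF.RkPSU.rkAut (by rw [hF]; norm_num) (two_ne hF) (by norm_num)
  have h2 : RkLin.rk 4 + 1 = 5 := by decide
  rw [h2] at h1
  exact fun A hA => h1 A fun x hx => by rw [← pow_two]; exact hA x hx

/-- An element of determinant one of `GU₄(3)` induces an inner automorphism. -/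
theorem inner_of_det (A : GU 4 F 3) (h : (gm A).det = 1) :
    (f₁ A : MulAut (PSU 4 F 3)) ∈ (MulAut.conj : PSU 4 F 3 →* MulAut (PSU 4 F 3)).range := by
  let g : SU 4 F 3 := mkSU (gm A) h (fun u v => herm_gm _ u v)
  exact ⟨pr 4 F 3 g, (f₁_eq_conj A g rfl).symm⟩

theorem det_sq (hF : Fintype.card F = 9) (A : GU 4 F 3) (h : (f₁ A : MulAut (PSU 4 F 3)) * f₁ A = 1) :
    (gm A).det * (gm A).det = 1 := by
  have hF' : Fintype.card F = 3 ^ 2 := by rw [hF]; norm_num
  have h1 : (toAut 1 1 : MulAut (PSU 4 F 3)) = toAut (A * A) 1 := by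
    rw [toAut_one, toAut_one, map_one, map_mul, h]
  obtain ⟨-, c, hc, h2⟩ := eq_of_toAut_eq hF' (by norm_num) h1
  rw [gm_mul, gm_one] at h2
  have h3 := congrArg Matrix.det h2
  rw [det_mul, det_smul, det_one, mul_one, Fintype.card_fin] at h3
  rw [h3]
  linear_combination hc

/-- **The outer part.** -/
theorem outLe (hF : Fintype.card F = 9) : OutLe (PSU 4 F 3) 2 := by
  have hF' : Fintype.card F = 3 ^ 2 := by rw [hF]; norm_num
  have := finite_PSU (F := F) (q := 3) (n := 4)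
  have : Finite (MulAut (PSU 4 F 3)) := finite_mulAut _
  have h32 : ¬ (4 = 3 ∧ 3 = 2) := by norm_num
  intro A hA'
  have hA : ∀ x ∈ A, x * x = 1 := fun x hx => by rw [← pow_two]; exact hA' x hx
  have hall := Cfsg.Agent.ClassicalGeometry.PSUAutMain.exists_toAut (F := F) (q := 3) (n := 4) hF' (by norm_num) h32
  have h1 : Nat.card A ≤ 2 * Nat.card (A ⊓ (f₁ : GU 4 F 3 →* MulAut (PSU 4 F 3)).range : Subgroup _) := by
    apply card_le_two_mul
    intro x hx hxn y hy hyn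
    obtain ⟨C, σ, hC⟩ := hall x
    obtain ⟨D, τ, hD⟩ := hall y
    have hsq : ∀ (C : GU 4 F 3) (σ : F ≃+* F), toAut C σ * toAut C σ = 1 → σ * σ = 1 := by
      intro C σ h
      rw [toAut_mul] at h
      have h3 : (toAut (C * mapGU σ C) (σ * σ) : MulAut (PSU 4 F 3)) = toAut 1 1 := by
        rw [h, toAut_one, map_one]
      exact (eq_of_toAut_eq hF' (by norm_num) h3).1.symm
    have hσ : σ * σ = 1 := hsq C σ (by rw [← hC]; exact hA x hx)
    have hτ : τ * τ = 1 := hsq D τ (by rw [← hD]; exact hA y hy)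
    have hσ1 : σ ≠ 1 := by
      rintro rfl
      exact hxn ⟨hx, C, by rw [hC, toAut_one]⟩
    have hτ1 : τ ≠ 1 := by
      rintro rfl
      exact hyn ⟨hy, D, by rw [hD, toAut_one]⟩
    have hστ := field_inv_unique hσ hτ hσ1 hτ1
    refine ⟨mul_mem hx hy, C * mapGU σ D, ?_⟩
    rw [hC, hD, toAut_mul, ← hστ, hσ, toAut_one]
  have h2 : Nat.card (A ⊓ (f₁ : GU 4 F 3 →* MulAut (PSU 4 F 3)).range : Subgroup _) ≤
      2 * Nat.card (A ⊓ (MulAut.conj : PSU 4 F 3 →* MulAut (PSU 4 F 3)).range : Subgroup _) := by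
    apply card_le_two_mul
    rintro x ⟨hx, C, rfl⟩ hxn y ⟨hy, D, rfl⟩ hyn
    refine ⟨mul_mem hx hy, ?_⟩
    have e1 := det_sq hF C (hA _ hx)
    have e2 := det_sq hF D (hA _ hy)
    have d1 : (gm C).det ≠ 1 := fun h => hxn ⟨hx, inner_of_det C h⟩
    have d2 : (gm D).det ≠ 1 := fun h => hyn ⟨hy, inner_of_det D h⟩
    have f1 : (gm C).det = -1 := (mul_self_eq_one_iff.1 e1).resolve_left d1
    have f2 : (gm D).det = -1 := (mul_self_eq_one_iff.1 e2).resolve_left d2
    rw [← map_mul]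
    apply inner_of_det
    rw [gm_mul, det_mul, f1, f2]
    ring
  omega

end Cfsg.Agent.Omega.ML.UFour.Out

end

end

private theorem dce_a7877ffb989d : _root_.True := by
  try have : _root_.True := by simp only [_root_.Cfsg.Agent.Omega.ML.PsuTorus.tm.eq_1]
  try have : _root_.True := by simp only [_root_.Cfsg.Agent.Omega.ML.PsuLB.N1.congr_simp]
  try have : _root_.True := by simp only [_root_.Cfsg.Agent.Omega.ML.PsuLB.N3.congr_simp]
  try have : _root_.True := by simp only [_root_.Cfsg.Agent.Omega.ML.PsuNum.P.eq_1]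
  try have : _root_.True := by simp only [_root_.Cfsg.Agent.Omega.ML.PsuLB.dB.eq_1]
  try have : _root_.True := by simp only [_root_.Cfsg.Agent.Omega.ML.PsuTorus.dil.eq_1]
  try have : _root_.True := by simp only [_root_.Cfsg.Agent.Omega.ML.PsuLB.dG.eq_1]
  try have : _root_.True := by simp only [_root_.Cfsg.Agent.Omega.ML.PsuLB.gg.eq_1]
  try have : _root_.True := by simp only [_root_.Cfsg.Agent.Omega.ML.PsuLB.dA.eq_1]
  exact _root_.True.intro
end

-- part: Mrg/Omega/ML/UFour/Perm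
section
prune_inst 0x91306104454012000000051230003c26ec000090002b0401cd810b420208c30209020f400c8011014822a200000500000200005000000000002004000005012080825204a348010426008f800084000000000000000000000000000000000000000000000
set_option linter.all false
open scoped Cfsg.Agent.FastGrp

-- merged: Cfsg.Agent.Omega.ML.UFour.Data
section

/-!
# `U₄(3)` on 280 points: centraliser of an involution, Sylow 2-subgroup (data and checks; helper844)

Letters: `0 = A`, `1 = B` (the generators of `U43Perm`), `2`, `3` generate `C(B)` (order 1152), `1`, `4 .. 9` a Sylow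
2-subgroup in `C(B)` with normal form `nf`.  Elements of the group are determined by the images of `10`, `88`, `0`.
-/

set_option autoImplicit false
set_option maxRecDepth 100000

namespace Cfsg.Agent.Omega.ML.UFour.Data

open Cfsg.Agent.SporadicStructure.PermChain Cfsg.Agent.SporadicStructure.U43Perm

/-- table of the letter `2` -/
def t2 : ℕ := 0x1a9383c04523a0706b48039bc4a169da2ee3800595c554396cf70a4b364b4283f1c036b365b84c68a1209a1e8909ae5be2508849c48c20adc848b30100c30d700416c62862f97ec1601a0f29f4306844194cc0dcadd17238bf10752454a0763c1452d704af57459043f07278782802a92519b1d6215885ccc9d0e131a20261314968f2e2ad6a7d7b4114c772845906ff1502d2a671b015eea1843c90ad56733400f82f2a818ec809508a3279c1ce311233b8309c07bec608d39b0d98d200a9c28754128868f53d0b1df0b739b467133a3915043683f478d82c0bd5a0d6d9a612b23e1943e3756121f4316333d94d344019ac64268ec56bc7f21128802240960236a13ca69b5791dd29e1ea6014da7320628a9831fca2722eb7092f935075271237149e3154d080aced01b1190c94b95c7cbb37bd1683a5c0fe1c27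
/-- table of the letter `3` -/
def t3 : ℕ := 0x580fc0cca5eb90381013314a5145a0cc6afc533409ef54d208fa952e1281e2e6d40daa153c4215e70648516a567f83580f86e0913f16232640098490f1ee163d1a43ae588c389acf11c04af0a75104446c05339448a4e20d0cde2f92df6bc5ca80aa3677bf40ee984b2ccf006c0b12c01459fc9c0836bd1acc61391060ab6e839c4a53d8f8a6b3623c9c65a39109988c4ba1d230269991707970860a112613982668788d16409861315049062f95a2547235208f300a20cc33b3b834633b8aa087576bb057053a0a4c49d5716216055536cbabf2a2ea263a0f2d886d7330e62edf442010894201c562e839c553cc70fbe862ac2405dc0a4191946e7c869ac42f3168ec162053bd9a8f06406d424740a2404932dc41761260be45e5e08bf87aa366864d44587aa4dcd13f00d3685692ddb2512cb9cde04838e0c2eb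
/-- table of the letter `4` -/
def t4 : ℕ := 0x4121ce8303a60bcd144bec72ca008b4422e071b110af211315a915f9c4fcf687268ae6a47bf0da63431152cb62e26c6c1572a4d883f8ab31d68c32290f019468ac5e000e315080a2d9f43c33120c620755bb387ce62d430686955101b4e933acc866b7f83cb29f1aa70e89567bc10e61610310051821c2024b40b1c40270e80c78e24705ccc8b5e05124ba773e915124bbc570827527600907ba8dbee4502661f055abccfed98a25156b142bf5ac020c140f2e10291da0b914035fcae3006deb06603e1904f61a84b0e37a0e9686f22444baef6bb2d7a657c8b03e23148dd607a341241302560689d163b019e45f60c0c16c6743342ca51d98a1a25293b576c96a0c9a4126ec2214566f044a6735404c70d32a04212a92ab554edb37129c07b510f5d89e130c054225f41ce4b220b609b1789918ee04531f216dc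
/-- table of the letter `5` -/
def t5 : ℕ := 0x580fc0cca5eb90381013314a5145a0cc6afc533409ef54d208fa952e1281e2e6d40daa153c4215e70648516a567f83580f86e0913f16232640098490f1ee163d1a43ae588c389acf11c04af0a75104446c05339448a4e20d0cde2f92df6bc5ca80aa3677bf40ee984b2ccf006c0b12c01459fc9c0836bd1acc61391060ab6e839c4a53d8f8a6b3623c9c65a39109988c4ba1d230269991707970860a112613982668788d16409861315049062f95a2547235208f300a20cc33b3b834633b8aa087576bb057053a0a4c49d5716216055536cbabf2a2ea263a0f2d886d7330e62edf442010894201c562e839c553cc70fbe862ac2405dc0a4191946e7c869ac42f3168ec162053bd9a8f06406d424740a2404932dc41761260be45e5e08bf87aa366864d44587aa4dcd13f00d3685692ddb2512cb9cde04838e0c2eb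
/-- table of the letter `6` -/
def t6 : ℕ := 0x40500c1319a30e044860f0fed570af612924f99c84f5250c1b8be0ea6970c4529a228cf30ba5321c280fe24567a34cd2f23e9c94cd8232bdac877e315c4231a300b8ad6e80412150b3ac8660432c4beaa24241a50439879d4e0111de160368b35125b5391d8d081aa45a05a8b0b1e30e1f14984b036bfc00070c041045388991eeda5422d5649173e20f001213d98e43ca61960c068381e975a09d92b52739995034b1e8984d132c8f6b381255ca382c3b99ca4852e98e753f235f4bf259c514c36badc326e8820542f66da39f6ac362b864631e8a0806641c54aeed1d2a4a29b0d82c0412898a8829e4e2d9d106878682e05050c5bc8f2ea8d0ad910321769337811010d77a74b2e735a20c4fd1495508f31b1d042947cb04bc2f7f044a865500ac8a6a0f8e60ab93b2f1be37513b0f9176a3c05a3b71894f101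
/-- table of the letter `7` -/
def t7 : ℕ := 0x583e04a3e489b6225245c21a049719686b0e7ba0956f10c04000077faa18c781714d851683b85302f2a116084d6db20f4ec3e9ad48e81c2d5ac8a85b11ec241eb24c6ad7780c0c0a06b94160f0c84c6f0d4f0c9068716939bcee3fbf54ce2593e544935f8cce66110ab024050a025cc9f2bb0cab174b1c1b8ba82a14befe0eb1524e93730454895a33c784b348a518f51dabcee6c6029626040706c2c9987b9140816608d544666c19101f63901d656213b4bafc4a9bc72305e96c4eae3b28e24947512136620604434016e9a1784754978f21c39428504a599f162f37d44010361d329e0224e162186a30211e4200b9ec3c7e1fc51be9d4b93ceae768942122b5f3384c747a3ed96021a2853459388c62ae0431317644401054e5c47195a70321a342ab7692e4cd026a23dae676ab616c518036570906d0b0c901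
/-- table of the letter `8` -/
def t8 : ℕ := 0x5818d0e43491362c697cae9da8b1400c42336a150227c47064f2a5242058b005f1c500f44e1d9e0455cc448c98679d0885c673440aef892d92e063bae00e5f88341e45d5bc4d2c5e3a8c8270b5495446240e8002f156d104988535bf0c0bd3920d40373538df6cb5d9918107382d44a2d0f8ac9208423a120e20c0f5ae1a1fa46147354354dcc27eab8b4c45513db2386e15a10f3831f968d607988d82c188084d0304b1dd48c653b8cca26f9e076e40dac8fa6f7b8f0f416070e4caec5e1a1cec84137460ab1a2694259051298c9d64be1d614083851e7b66c11827f1d21a2e202c43dcc36008a83c2f30abdfe0d0594da4a66d939284056c15c0cc4db0c6b0d5240628936c2b1ec8a110a44e2e442c4da0c0934e12de8615c2a9e7f108cefa4494838a71f23546507492e045b59afdea514fa661ce523bc52a04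
/-- table of the letter `9` -/
def t9 : ℕ := 0x84979326e6321091020d23e0c2a711be2e2e07435aaf021c41b85a3504c8efc7b87c9ebf7dbd858456498c7104760347aef3e9e988db45019ac4d3242db46b12320150174385302f2a3960a774698898370e810a64648845e6de1044cf0e93f89c84197c1cd58bc582e164ba53abc04a5542e546bb5b27800bd502a554b35ba99680158a8544ab4fab93a95391562ad92e895381028249963b87201a60940b9c941e3e0d0cf120d889168e619d9d68724ba864c56a1f8a40c5f26c4c1485450ac39703fc56574285c82e379348782d184592e1511c00960b341b534d7669d46a937c861c8d12ca24f7117eb31e81281b04ca070e0a5da61480c4d8f168058a286029e4745f6c420c0f534c307c0f611c52cdf2da0810c77d2219e3f41c3d804e330d8b8707f11194941441ddc742c37518212039866ce01ad548ad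

/-- the tables -/
def tabs : List ℕ := [tabA, tabB, t2, t3, t4, t5, t6, t7, t8, t9]

/-- `2` and `3` as words in `A`, `B` -/
def w2 : List ℕ := [0, 1, 0, 0, 0, 0, 0, 0, 1, 0, 1]
@[inherit_doc w2] def w3 : List ℕ := [0, 0, 1, 0, 0, 0, 0, 0, 1, 0, 0, 1, 0, 0, 0, 0, 0, 1, 0, 0, 1]

/-- the letters `4 .. 9` as words in `2`, `3` -/
def ws : List (List ℕ) := [[3, 3],
  [3],
  [2, 2, 3, 2, 2],
  [2, 3, 2, 2, 3, 2],
  [2, 3, 3, 2, 3, 2, 2],
  [2, 3, 2, 3, 2, 2, 2]]

theorem chk2 : wordCheck 9 280 tabs w2 t2 = true := by decide +kernel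
theorem chk3 : wordCheck 9 280 tabs w3 t3 = true := by decide +kernel
theorem chkw : (List.range 6).all (fun i => wordCheck 9 280 tabs (ws.getD i []) (tabs.getD (i + 4) 0)) = true := by
  decide +kernel

/-- equal images of the three base points -/
def eq3 (l l' : List ℕ) : Bool :=
  Nat.beq (evalWord 9 tabs l 10) (evalWord 9 tabs l' 10) &&
    (Nat.beq (evalWord 9 tabs l 88) (evalWord 9 tabs l' 88) &&
      Nat.beq (evalWord 9 tabs l 0) (evalWord 9 tabs l' 0))

/-- the letters are smaller than 10 -/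
def ok (l : List ℕ) : Bool := l.all fun s => Nat.blt s 10

/-- equal words -/
def eqw (l l' : List ℕ) : Bool := ok l && (ok l' && eq3 l l')

/-- the letter of bit `k` -/
def lt (k : ℕ) : ℕ := bif Nat.beq k 0 then 1 else 3 + k

/-- the normal form -/
def nfk (e : ℕ) : ℕ → List ℕ
  | 0 => []
  | k + 1 => bif Nat.testBit e k then lt k :: nfk e k else nfk e k

/-- the normal form of the 2-subgroup -/
def nf (e : ℕ) : List ℕ := nfk e 7

/-- left multiplication by the letters -/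
def mt : List ℕ := [0xfdffe7df5efc79eddfa75e5cf871ddbf66dd5af469cd9f265c58f061bd7ee5db56ec59ad5ea55a54e8519d3e64d952e4498d1e245850e0417cfde3d74edc396cdda3564cd8315cbd62d54ad4294c9d225448d0213c7ce1d346cc192c5ca15244c8111c3c60d142c4090c1c205040c001,
  0xf9f7f7ff1e7d7be9d7b77e1c7973d9b776fd1a756bc997367c187163bb72fdeb362ddaab52bd6a3429d29b327ce93225ca8b123c683021c278f5f3f70e5d3b68d5b3760c593358b572f50a552b489532740851233a70f9e3260d9a2a50b9622409921a3078e122058a0a103860200182,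
  0xc997367c187163dbb37eed3a35eaeddfa75e5cf871fffbefcf7ebcf8b76acd8bb72fdea146953ad5ea55912654b9d3e64d870a0c08b123c64e992a446890a05cbd62d54ad4296ad1bb662c19b278f5f3f70e5d3b3260d9a3e78e9c244c8112854b17142c409183470f02001820e18284,
  0xd5af469d9b776fc3831e2cf9b2e4f3e3dfafffbefce5cf871e9d7b77ad5ea55a54e851bf7aedcb76acd8891634781061439b327ce93225ca52a15aa5eb96ac448d021489532774edc3978f5f3f62c19b26ed9ab42854b1720449133a70f9e3260d9a0c1c205040c0011e3868c1628488,
  0xdfbb6ecd7ab4e8cf9b2e4c78b0e0fffbefcf7ebcf8efdbaf4e7cb8f0993674f912654b89163478106143b976f5fb166d5ba956b57a1469535ab17ae52a15aa4a913a642811a27af1fbe72e1dba6ad1bb662c19b21e3868c16284880e1828406080803e78e9c3668c982e58a942648890,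
  0x9d3e64d952e4498d1e245850e041bd7ee5db56ec59ad5ea55a54e851e5cf871e9d7b77f1e7d7bfdffe7dc78b0e0cb933e6d3a35eadfbb6ec00041030c1c205142c409183470f22409922e58a943668c983a70f9e7ef9ebc76e9cb86ed9ab466c98b05eb96ac56a94a84e992a446890a0,
  0x7ef9ebc76e9cb86ed9ab466c98b05eb96ac56a94a84e992a446890a03e78e9c3668c982e58a9426488901e3868c16284880e182840608080fffbefcf7ebcf8efdbaf4e7cb8f0dfbb6ecd7ab4e8cf9b2e4c78b0e0bf7aedcb76acd8af5aad4a74a8d09f3a6cc972a4c88f1a2c4870a0c0]
/-- left multiplication by the inverse letters -/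
def mti : List ℕ := [0xfdffe7df5efc79eddfa75e5cf871ddbf66dd5af469cd9f265c58f061bd7ee5db56ec59ad5ea55a54e8519d3e64d952e4498d1e245850e0417cfde3d74edc396cdda3564cd8315cbd62d54ad4294c9d225448d0213c7ce1d346cc192c5ca15244c8111c3c60d142c4090c1c205040c001,
  0xf9f7f7ff1e7d7be9d7b77e1c7973d9b776fd1a756bc997367c187163bb72fdeb362ddaab52bd6a3429d29b327ce93225ca8b123c683021c278f5f3f70e5d3b68d5b3760c593358b572f50a552b489532740851233a70f9e3260d9a2a50b9622409921a3078e122058a0a103860200182,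
  0xcf9b2e4c78b0e0ddbf66dd5af469ebd3bf6e3c39f2f9f7f7ff1e7d7bb362ddabf7aedca54e851a956b57952e449993674f83021c28f1a2c4489532740851235ab17ae52a15aa6cdda3564cd8317ef9ebc76e9cb83668c983a70f9e20449132c5ca15102450b1c3c60d06080800a10386,
  0xd7ab4e8dbb37eec187163cd9f265f1e7d7bfdffe7de7cb8f0ebd3bf6af5aad4a74a8d0bd7ee5db56ec598b123c683021c2993674f912654b50a552b5cbd62d46890a04a913a676e9cb87af1fbe60c59336cdda352a50b9622409923874f1f3064d1b0e1828406080801c3c60d142c409,
  0xdfbb6ecd7ab4e8cf9b2e4c78b0e0fffbefcf7ebcf8efdbaf4e7cb8f0993674f912654b89163478106143b976f5fb166d5ba956b57a1469535ab17ae52a15aa4a913a642811a27af1fbe72e1dba6ad1bb662c19b21e3868c16284880e1828406080803e78e9c3668c982e58a942648890,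
  0xa54e851a956b57b166d5bbd7ee5d870a0c08b123c693225ca9f3a6ccddbf66dd5af469cd9f265c58f061fdffe7df5efc79eddfa75e5cf8713e78e9c3668c982e58a9426488901e3868c16284880e18284060808042811a24e992a456a94a85ab17ae60c59336cdda3574edc3978f5f3f,
  0x7ef9ebc76e9cb86ed9ab466c98b05eb96ac56a94a84e992a446890a03e78e9c3668c982e58a9426488901e3868c16284880e182840608080fffbefcf7ebcf8efdbaf4e7cb8f0dfbb6ecd7ab4e8cf9b2e4c78b0e0bf7aedcb76acd8af5aad4a74a8d09f3a6cc972a4c88f1a2c4870a0c0]

private noncomputable def fcB (x : ℕ) (k : ℕ → Bool) : Bool :=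
  Nat.rec (motive := fun _ => Bool) (k 0) (fun n _ => k (Nat.succ n)) x

private theorem fcB_eq (x : ℕ) (k : ℕ → Bool) : fcB x k = k x := by cases x <;> rfl

private def imF (x e : ℕ) : ℕ := evalWord 9 tabs (nf e) x

private def okF (e : ℕ) : Bool := ok (nf e)

private def eqF (k e f : ℕ) : Bool :=
  (Nat.blt (lt k) 10 && okF e) && (okF f && (Nat.beq (look 9 (tabs.getD (lt k) 0) (imF 10 e)) (imF 10 f) &&
    (Nat.beq (look 9 (tabs.getD (lt k) 0) (imF 88 e)) (imF 88 f) &&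
      Nat.beq (look 9 (tabs.getD (lt k) 0) (imF 0 e)) (imF 0 f))))

private theorem eqF_eq (k e f : ℕ) : eqF k e f = eqw (lt k :: nf e) (nf f) := rfl

private theorem chk_both :
    (List.range 7).all (fun k => (List.range 128).all fun e => fcB e fun e =>
      fcB (look 7 (mt.getD k 0) e) fun f => Nat.blt f 128 && eqF k e f) = true ∧
    (List.range 7).all (fun k => (List.range 128).all fun e => fcB e fun e =>
      fcB (look 7 (mti.getD k 0) e) fun f => Nat.blt f 128 && eqF k f e) = true := by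
  decide +kernel

theorem chkmt : (List.range 7).all (fun k => (List.range 128).all fun e =>
    Nat.blt (look 7 (mt.getD k 0) e) 128 && eqw (lt k :: nf e) (nf (look 7 (mt.getD k 0) e))) = true := by
  have h := chk_both.1
  simp only [fcB_eq, eqF_eq] at h
  exact h

theorem chkmti : (List.range 7).all (fun k => (List.range 128).all fun e =>
    Nat.blt (look 7 (mti.getD k 0) e) 128 && eqw (lt k :: nf (look 7 (mti.getD k 0) e)) (nf e)) = true := by
  have h := chk_both.2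
  simp only [fcB_eq, eqF_eq] at h
  exact h

/-- the images of the three base points -/
def code (e : ℕ) : ℕ :=
  evalWord 9 tabs (nf e) 10 + 512 * (evalWord 9 tabs (nf e) 88 + 512 * evalWord 9 tabs (nf e) 0)

theorem chkcode : ((List.range 128).map code).Nodup :=
  (Cfsg.Agent.NodupNat.go_spec _ 0 [] (fun _ h => nomatch h) (by decide +kernel)).1

/-- conjugating words -/
def cws : List (List ℕ) := [[],
  [],
  [0, 1, 0, 0, 0, 0, 0, 1, 0, 0, 0, 0, 0, 0, 1, 0, 0, 0, 1, 0, 0, 0, 0, 0, 0, 1],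
  [0, 1, 0, 0, 0, 0, 0, 1, 0, 0, 0, 0, 0, 0, 1, 0, 0, 0, 1, 0, 0, 0, 0, 0, 0, 1, 2, 3, 3, 2, 3, 2, 2],
  [],
  [],
  [],
  [],
  [],
  [],
  [],
  [],
  [0, 1, 0, 0, 0, 0, 0, 1, 0, 0, 0, 0, 0, 0, 1, 0, 0, 0, 1, 0, 0, 0, 0, 0, 0, 1, 2, 2],
  [0, 1, 0, 0, 0, 0, 0, 1, 0, 0, 0, 0, 0, 0, 1, 0, 0, 0, 1, 0, 0, 0, 0, 0, 0, 1, 2, 3, 3, 2],
  [0, 1, 0, 0, 0, 0, 0, 1, 0, 0, 0, 0, 0, 0, 1, 0, 0, 0, 1, 0, 0, 0, 0, 0, 0, 1, 2, 3, 3, 2, 3],
  [0, 1, 0, 0, 0, 0, 0, 1, 0, 0, 0, 0, 0, 0, 1, 0, 0, 0, 1, 0, 0, 0, 0, 0, 0, 1, 2, 2, 3],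
  [0, 1, 0, 0, 0, 0, 0, 1, 0, 0, 0, 0, 0, 0, 1, 0, 0, 0, 1, 0, 0, 0, 0, 0, 0, 1, 2, 2, 2],
  [0, 1, 0, 0, 0, 0, 0, 1, 0, 0, 0, 0, 0, 0, 1, 0, 0, 0, 1, 0, 0, 0, 0, 0, 0, 1, 2, 3, 3, 2, 2],
  [0, 1, 0, 0, 0, 0, 0, 1, 0, 0, 0, 0, 0, 0, 1, 0, 0, 0, 1, 0, 0, 0, 0, 0, 0, 1, 2, 3, 3, 3, 2],
  [0, 1, 0, 0, 0, 0, 0, 1, 0, 0, 0, 0, 0, 0, 1, 0, 0, 0, 1, 0, 0, 0, 0, 0, 0, 1, 2, 3, 2],
  [],
  [],
  [],
  [],
  [],
  [],
  [],
  [],
  [],
  [],
  [],
  [],
  [],
  [],
  [],
  [],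
  [0, 1, 0, 0, 0, 0, 0, 1, 0, 0, 0, 0, 0, 0, 1, 0, 0, 0, 1, 0, 0, 0, 0, 0, 0, 1, 2, 3, 3, 3],
  [0, 1, 0, 0, 0, 0, 0, 1, 0, 0, 0, 0, 0, 0, 1, 0, 0, 0, 1, 0, 0, 0, 0, 0, 0, 1, 2, 3],
  [],
  [],
  [0, 1, 0, 0, 0, 0, 0, 1, 0, 0, 0, 0, 0, 0, 1, 0, 0, 0, 1, 0, 0, 0, 0, 0, 0, 1, 2, 3, 3, 2, 3, 2],
  [0, 1, 0, 0, 0, 0, 0, 1, 0, 0, 0, 0, 0, 0, 1, 0, 0, 0, 1, 0, 0, 0, 0, 0, 0, 1, 2, 2, 3, 2],
  [],
  [],
  [],
  [],
  [],
  [],
  [],
  [],
  [],
  [],
  [0, 1, 0, 0, 0, 0, 0, 1, 0, 0, 0, 0, 0, 0, 1, 0, 0, 0, 1, 0, 0, 0, 0, 0, 0, 1, 2, 2, 3, 2, 3],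
  [0, 1, 0, 0, 0, 0, 0, 1, 0, 0, 0, 0, 0, 0, 1, 0, 0, 0, 1, 0, 0, 0, 0, 0, 0, 1, 2, 3, 2, 2],
  [],
  [],
  [],
  [],
  [0, 1, 0, 0, 0, 0, 0, 1, 0, 0, 0, 0, 0, 0, 1, 0, 0, 0, 1, 0, 0, 0, 0, 0, 0, 1, 2],
  [0, 1, 0, 0, 0, 0, 0, 1, 0, 0, 0, 0, 0, 0, 1, 0, 0, 0, 1, 0, 0, 0, 0, 0, 0, 1, 2, 3, 3],
  [],
  [],
  [],
  [],
  [0, 1, 0, 1, 0, 0, 0, 0, 0, 0, 1, 0, 0, 0, 0, 0, 0, 1, 2, 2],
  [0, 1, 0, 1, 0, 0, 0, 0, 0, 0, 1, 0, 0, 0, 0, 0, 0, 1, 3],
  [0, 1, 0, 1, 0, 0, 0, 0, 0, 0, 1, 0, 0, 0, 0, 0, 0, 1, 2, 2, 3],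
  [0, 1, 0, 1, 0, 0, 0, 0, 0, 0, 1, 0, 0, 0, 0, 0, 0, 1],
  [0, 1, 0, 0, 0, 0, 0, 1, 0, 0, 1, 0, 0, 0, 0, 0, 0, 1, 3],
  [0, 1, 0, 0, 0, 0, 0, 1, 0, 0, 1, 0, 0, 0, 0, 0, 0, 1, 3, 2, 3, 2],
  [0, 1, 0, 0, 0, 0, 0, 1, 0, 0, 1, 0, 0, 0, 0, 0, 0, 1],
  [0, 1, 0, 0, 0, 0, 0, 1, 0, 0, 1, 0, 0, 0, 0, 0, 0, 1, 2, 2, 2],
  [],
  [],
  [],
  [],
  [0, 1, 0, 1, 0, 0, 0, 0, 0, 0, 1, 0, 0, 0, 0, 0, 0, 1, 3, 2, 2],
  [0, 1, 0, 1, 0, 0, 0, 0, 0, 0, 1, 0, 0, 0, 0, 0, 0, 1, 2, 2, 2, 2],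
  [0, 1, 0, 1, 0, 0, 0, 0, 0, 0, 1, 0, 0, 0, 0, 0, 0, 1, 2, 3, 3, 2, 3],
  [0, 1, 0, 1, 0, 0, 0, 0, 0, 0, 1, 0, 0, 0, 0, 0, 0, 1, 2, 3, 3, 2],
  [],
  [],
  [],
  [],
  [0, 1, 0, 0, 0, 0, 0, 1, 0, 0, 1, 0, 0, 0, 0, 0, 0, 1, 3, 2, 2, 2],
  [0, 1, 0, 0, 0, 0, 0, 1, 0, 0, 1, 0, 0, 0, 0, 0, 0, 1, 2, 3, 2],
  [0, 1, 0, 0, 0, 0, 0, 1, 0, 0, 1, 0, 0, 0, 0, 0, 0, 1, 3, 2, 3, 3, 2, 2],
  [0, 1, 0, 0, 0, 0, 0, 1, 0, 0, 1, 0, 0, 0, 0, 0, 0, 1, 2, 3, 3, 2, 3, 2, 2],
  [],
  [],
  [],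
  [],
  [],
  [],
  [],
  [],
  [],
  [],
  [],
  [],
  [],
  [],
  [],
  [],
  [],
  [],
  [],
  [],
  [],
  [],
  [],
  [],
  [],
  [],
  [],
  [],
  [],
  [],
  [],
  [],
  [],
  [],
  [],
  [],
  [],
  [],
  [],
  []]

theorem chkc : (List.range 128).all (fun e => Nat.beq e 0 || (!(eq3 (nf e ++ nf e) []) ||
    eqw (cws.getD e [] ++ nf e) (1 :: cws.getD e []))) = true := by decide +kernel

/-- an element of `C(B)` and its inverse -/
def cw : List ℕ := [3, 2, 3, 2, 2, 2]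
@[inherit_doc cw] def cwi : List ℕ := [2, 2, 2, 2, 2, 2, 2, 2, 2, 2, 2, 2, 2, 2, 2, 3, 3, 3, 2, 2, 2, 2, 2, 3, 3, 3]

theorem chkci : eqw (cw ++ cwi) [] = true := by decide +kernel
theorem chkcB : eqw (cw ++ [1]) (1 :: cw) = true := by decide +kernel
theorem chkn : (List.range 128).all (fun e => Nat.beq e 0 || (Nat.beq e 1 || (!(eq3 (nf e ++ nf e) []) ||
    !(eq3 (cw ++ (nf e ++ (cwi ++ nf e))) (nf e ++ (cw ++ (nf e ++ cwi))))))) = true := by decide +kernel
theorem chkB : (List.range 7).all (fun k => eqw [lt k, 1] [1, lt k]) = true := by decide +kernel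
/-- three conjugates of `B` -/
def bw (i : ℕ) : List ℕ := [[1], [0, 1, 0, 0, 0, 0, 0, 0], [0, 0, 0, 1, 0, 0, 0, 0]].getD i []

/-- `A` as a word in the three conjugates -/
def wA : List ℕ := [0, 1, 2, 1, 2, 0, 1, 0, 2, 0, 2, 0, 1, 2, 1, 0, 2, 1, 2, 0, 2, 1, 0, 2]

theorem chkA : eqw (wA.flatMap bw) [0] = true := by decide +kernel
/-- the conjugating elements and their inverses -/
def av (i : ℕ) : List ℕ := [[], [0], [0, 0, 0]].getD i []
@[inherit_doc av] def avi (i : ℕ) : List ℕ := [[], [0, 0, 0, 0, 0, 0], [0, 0, 0, 0]].getD i []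
theorem chkav : (List.range 3).all (fun i => eqw (av i ++ avi i) [] && eqw (bw i) (av i ++ (1 :: avi i))) = true := by
  decide +kernel

end Cfsg.Agent.Omega.ML.UFour.Data

end

-- merged: Cfsg.Agent.Mrg.Omega.ML.UFour.Perm
section

section


/-!
# `U₄(3)`: three conjugates of an involution generate, one class of involutions, `C(z)` (helper844)

`genBy : GenBy K0 3`, `normEl : NormEl K0` for the group `K0` on 280 points; `psu_iso : PSU 4 F 3 ≃* K0`.
-/

set_option autoImplicit false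

namespace Cfsg.Agent.Omega.ML.UFour.Perm

open Cfsg Cfsg.Agent.SporadicStructure Cfsg.Agent.SporadicStructure.PermChain
  Cfsg.Agent.SporadicStructure.U43Perm Cfsg.Agent.SporadicStructure.FieldNine
  Cfsg.Agent.Omega.ML.UFour.Data Cfsg.Agent.Omega.ML.Gen3

/-! ### The isomorphism -/

theorem card_psu : Nat.card (Cfsg.PSU 4 K9 3) = 3265920 := by
  have h := Cfsg.Agent.S0280.result (F := K9) (q := 3) K9.card_K9' 4 (by norm_num)
  have h1 : Nat.gcd 4 (3 + 1) = 4 := by decide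
  have h2 : 3 ^ (4 * (4 - 1) / 2) * ∏ i ∈ Finset.range 4,
      (if Even i then 3 ^ (i + 1) + 1 else 3 ^ (i + 1) - 1) = 52254720 := by decide
  rw [h1, h2] at h
  omega

theorem exists_iso : Nonempty (Cfsg.PSU 4 K9 3 ≃* K0) :=
  PsuMatch.psu_iso_closure_of_match K9.card_K9' (by norm_num) U43Herm.P U43Herm.P_nonprop U43Herm.M σ
    U43Herm.act (card_psu.le.trans card_ge)

theorem psu_iso {F : Type*} [Field F] [Fintype F] (hF : Fintype.card F = 9) :
    Nonempty (Cfsg.PSU 4 F 3 ≃* K0) := by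
  obtain ⟨e⟩ := exists_iso
  obtain ⟨e'⟩ := PsuMatch.psu_iso_of_card (F := F) (K := K9) (hF.trans K9.card_K9.symm) 4 3
  exact ⟨e'.trans e⟩

theorem card_K0 : Nat.card K0 = 3265920 := by
  obtain ⟨e⟩ := exists_iso
  rw [← Nat.card_congr e.toEquiv, card_psu]

/-! ### The base -/

/-- the pointwise stabiliser of the base -/
def St : Subgroup (Equiv.Perm (Fin 280)) :=
  ((K0 ⊓ MulAction.stabilizer (Equiv.Perm (Fin 280)) b1) ⊓ MulAction.stabilizer (Equiv.Perm (Fin 280)) b2) ⊓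
    MulAction.stabilizer (Equiv.Perm (Fin 280)) b3

theorem card_St : Nat.card St ≤ 1 := by
  have h0 : 280 * Nat.card (K0 ⊓ MulAction.stabilizer (Equiv.Perm (Fin 280)) b1 : Subgroup _) ≤ Nat.card K0 :=
    card_step_mask K0 b1 (K0 ⊓ MulAction.stabilizer (Equiv.Perm (Fin 280)) b1) inf_le_left (fun g hg => hg.2)
      [tabA, tabB] (by
      intro u hu
      simp only [List.mem_cons, List.not_mem_nil, or_false] at hu
      rcases hu with rfl | rfl
      · exact ⟨gen 0, gen_mem 0 (Or.inl rfl), gen_spec 0 (Or.inl rfl)⟩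
      · exact ⟨gen 1, gen_mem 1 (Or.inr rfl), gen_spec 1 (Or.inr rfl)⟩) 8 mask0 280 orb0 card0
  have hK1 : ∀ g ∈ K1, g ∈ K0 ⊓ MulAction.stabilizer (Equiv.Perm (Fin 280)) b1 := fun g hg =>
    ⟨K1_le hg, K1_fix g hg⟩
  have h1 : 243 * Nat.card ((K0 ⊓ MulAction.stabilizer (Equiv.Perm (Fin 280)) b1) ⊓
      MulAction.stabilizer (Equiv.Perm (Fin 280)) b2 : Subgroup _) ≤
        Nat.card (K0 ⊓ MulAction.stabilizer (Equiv.Perm (Fin 280)) b1 : Subgroup _) :=
    card_step_mask (K0 ⊓ MulAction.stabilizer (Equiv.Perm (Fin 280)) b1) b2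
      ((K0 ⊓ MulAction.stabilizer (Equiv.Perm (Fin 280)) b1) ⊓ MulAction.stabilizer (Equiv.Perm (Fin 280)) b2)
      inf_le_left (fun g hg => hg.2)
      [tabT, tabR1, tabR2] (by
      intro u hu
      simp only [List.mem_cons, List.not_mem_nil, or_false] at hu
      rcases hu with rfl | rfl | rfl
      · exact ⟨t, hK1 _ (Subgroup.subset_closure (by simp)), t_spec⟩
      · exact ⟨r1, hK1 _ (Subgroup.subset_closure (by simp)), r1_spec⟩
      · exact ⟨r2, hK1 _ (Subgroup.subset_closure (by simp)), r2_spec⟩) 5 mask1 243 orb1 card1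
  have hK2 : ∀ g ∈ K2, g ∈ (K0 ⊓ MulAction.stabilizer (Equiv.Perm (Fin 280)) b1) ⊓
      MulAction.stabilizer (Equiv.Perm (Fin 280)) b2 := fun g hg => ⟨hK1 g (K2_le hg), K2_fix g hg⟩
  have h2 : 48 * Nat.card St ≤ Nat.card ((K0 ⊓ MulAction.stabilizer (Equiv.Perm (Fin 280)) b1) ⊓
      MulAction.stabilizer (Equiv.Perm (Fin 280)) b2 : Subgroup _) :=
    card_step_mask ((K0 ⊓ MulAction.stabilizer (Equiv.Perm (Fin 280)) b1) ⊓
      MulAction.stabilizer (Equiv.Perm (Fin 280)) b2) b3 St inf_le_left (fun g hg => hg.2)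
      [tabR1, tabR2] (by
      intro u hu
      simp only [List.mem_cons, List.not_mem_nil, or_false] at hu
      rcases hu with rfl | rfl
      · exact ⟨r1, hK2 _ (Subgroup.subset_closure (by simp)), r1_spec⟩
      · exact ⟨r2, hK2 _ (Subgroup.subset_closure (by simp)), r2_spec⟩) 4 mask2 48 orb2 card2
  rw [card_K0] at h0
  omega

/-- **An element is determined by the images of the base points.** -/
theorem ext3 {g h : K0} (h1 : (g : Equiv.Perm (Fin 280)) b1 = (h : Equiv.Perm (Fin 280)) b1)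
    (h2 : (g : Equiv.Perm (Fin 280)) b2 = (h : Equiv.Perm (Fin 280)) b2)
    (h3 : (g : Equiv.Perm (Fin 280)) b3 = (h : Equiv.Perm (Fin 280)) b3) : g = h := by
  have hmem : ((h⁻¹ * g : K0) : Equiv.Perm (Fin 280)) ∈ St := by
    have hf : ∀ b : Fin 280, (g : Equiv.Perm (Fin 280)) b = (h : Equiv.Perm (Fin 280)) b →
        ((h⁻¹ * g : K0) : Equiv.Perm (Fin 280)) b = b := by
      intro b hb
      rw [Subgroup.coe_mul, Subgroup.coe_inv, Equiv.Perm.mul_apply, hb, ← Equiv.Perm.mul_apply, inv_mul_cancel,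
        Equiv.Perm.one_apply]
    exact ⟨⟨⟨(h⁻¹ * g).2, hf b1 h1⟩, hf b2 h2⟩, hf b3 h3⟩
  have hs : Subsingleton St := (Finite.card_le_one_iff_subsingleton).1 card_St
  have h4 : (⟨_, hmem⟩ : St) = 1 := Subsingleton.elim _ _
  have h5 : ((h⁻¹ * g : K0) : Equiv.Perm (Fin 280)) = 1 := congrArg Subtype.val h4
  have h6 : h⁻¹ * g = 1 := Subtype.ext h5
  exact (inv_mul_eq_one.1 h6).symm

/-! ### The letters -/

/-- the letters `0 .. 3` -/
def L1 (s : ℕ) : Equiv.Perm (Fin 280) :=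
  if s = 2 then (w2.map gen).prod else if s = 3 then (w3.map gen).prod else gen s

theorem gen_spec' (s : ℕ) (hs : s < 2) (x : Fin 280) : (gen s x : ℕ) = look 9 (tabs.getD s 0) x := by
  rcases (by omega : s = 0 ∨ s = 1) with rfl | rfl
  · rfl
  · rfl

theorem L1_spec (s : ℕ) (hs : s < 4) (x : Fin 280) : (L1 s x : ℕ) = look 9 (tabs.getD s 0) x := by
  have e2 : ∀ s ∈ w2, s < 2 := by decide
  have e3 : ∀ s ∈ w3, s < 2 := by decide
  rcases (by omega : s < 2 ∨ s = 2 ∨ s = 3) with h | rfl | rfl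
  · have h1 : s ≠ 2 := by omega
    have h2 : s ≠ 3 := by omega
    rw [L1, if_neg h1, if_neg h2]
    exact gen_spec' s h x
  · rw [L1, if_pos rfl]
    exact wordCheck_spec chk2 gen (fun s hs => gen_spec' s (e2 s hs)) x
  · rw [L1, if_neg (by norm_num), if_pos rfl]
    exact wordCheck_spec chk3 gen (fun s hs => gen_spec' s (e3 s hs)) x

/-- the letters -/
def L2 (s : ℕ) : Equiv.Perm (Fin 280) := if s < 4 then L1 s else ((ws.getD (s - 4) []).map L1).prod

theorem L2_spec (s : ℕ) (hs : s < 10) (x : Fin 280) : (L2 s x : ℕ) = look 9 (tabs.getD s 0) x := by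
  have e : ∀ i, i < 6 → ∀ s ∈ ws.getD i [], s < 4 := by decide
  rcases Nat.lt_or_ge s 4 with h | h
  · rw [L2, if_pos h]
    exact L1_spec s h x
  · rw [L2, if_neg (by omega)]
    have h1 := List.all_eq_true.1 chkw (s - 4) (List.mem_range.2 (by omega))
    have h2 := wordCheck_spec h1 L1 (fun s' hs' => L1_spec s' (e (s - 4) (by omega) s' hs')) x
    rw [h2, Nat.sub_add_cancel h]

theorem gen_mem' (s : ℕ) : gen s ∈ K0 := by
  by_cases h : s = 0
  · exact gen_mem s (Or.inl h)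
  · have h1 : gen s = gen 1 := by rw [gen, gen, if_neg h, if_neg one_ne_zero]
    rw [h1]
    exact gen_mem 1 (Or.inr rfl)

theorem L1_mem (s : ℕ) : L1 s ∈ K0 := by
  have h1 : ∀ l : List ℕ, (l.map gen).prod ∈ K0 := fun l => Subgroup.list_prod_mem _ (by
    intro x hx
    obtain ⟨s, -, rfl⟩ := List.mem_map.1 hx
    exact gen_mem' s)
  rw [L1]
  split_ifs
  · exact h1 _
  · exact h1 _
  · exact gen_mem' s

theorem L2_mem (s : ℕ) : L2 s ∈ K0 := by
  rw [L2]
  split_ifs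
  · exact L1_mem s
  · refine Subgroup.list_prod_mem _ ?_
    intro x hx
    obtain ⟨s, -, rfl⟩ := List.mem_map.1 hx
    exact L1_mem s

/-- the letter as an element of the group -/
def le (s : ℕ) : K0 := ⟨L2 s, L2_mem s⟩

/-- the element of a word -/
def wd (l : List ℕ) : K0 := (l.map le).prod

theorem wd_nil : wd [] = 1 := rfl

theorem wd_cons (s : ℕ) (l : List ℕ) : wd (s :: l) = le s * wd l := by
  rw [wd, wd, List.map_cons, List.prod_cons]

theorem wd_append (l l' : List ℕ) : wd (l ++ l') = wd l * wd l' := by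
  rw [wd, wd, wd, List.map_append, List.prod_append]

theorem wd_single (s : ℕ) : wd [s] = le s := by rw [wd_cons, wd_nil, mul_one]

theorem coe_wd (l : List ℕ) : (wd l : Equiv.Perm (Fin 280)) = (l.map L2).prod := by
  induction l with
  | nil => rfl
  | cons s l ih => rw [wd_cons, Subgroup.coe_mul, ih, List.map_cons, List.prod_cons]; rfl

theorem ok_spec {l : List ℕ} (h : ok l = true) : ∀ s ∈ l, s < 10 := by
  intro s hs
  have h1 := List.all_eq_true.1 h s hs
  simpa [Nat.blt] using h1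

theorem wd_apply {l : List ℕ} (h : ok l = true) (x : Fin 280) :
    ((wd l : Equiv.Perm (Fin 280)) x : ℕ) = evalWord 9 tabs l x := by
  rw [coe_wd]
  exact evalWord_spec tabs L2 l (fun s hs => L2_spec s (ok_spec h s hs)) x

theorem eqw_spec {l l' : List ℕ} (h : eqw l l' = true) : wd l = wd l' := by
  simp only [eqw, eq3, Bool.and_eq_true] at h
  obtain ⟨h1, h2, h3, h4, h5⟩ := h
  refine ext3 (Fin.ext ?_) (Fin.ext ?_) (Fin.ext ?_)
  · rw [wd_apply h1, wd_apply h2]
    exact Nat.eq_of_beq_eq_true h3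
  · rw [wd_apply h1, wd_apply h2]
    exact Nat.eq_of_beq_eq_true h4
  · rw [wd_apply h1, wd_apply h2]
    exact Nat.eq_of_beq_eq_true h5

theorem eq3_of_eq {l l' : List ℕ} (h1 : ok l = true) (h2 : ok l' = true) (h : wd l = wd l') : eq3 l l' = true := by
  have e : ∀ x : Fin 280, Nat.beq (evalWord 9 tabs l x) (evalWord 9 tabs l' x) = true := by
    intro x
    rw [← wd_apply h1, ← wd_apply h2, h]
    exact Nat.beq_refl _
  rw [eq3, Bool.and_eq_true, Bool.and_eq_true]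
  exact ⟨e b1, e b2, e b3⟩

theorem ok_append {l l' : List ℕ} (h : ok l = true) (h' : ok l' = true) : ok (l ++ l') = true := by
  rw [ok, List.all_append, Bool.and_eq_true]
  exact ⟨h, h'⟩

/-! ### The Sylow 2-subgroup -/

theorem lt_lt (k : ℕ) (hk : k < 7) : lt k < 10 := by
  have : ∀ k < 7, lt k < 10 := by decide
  exact this k hk

theorem ok_nfk (e : ℕ) : ∀ k ≤ 7, ok (nfk e k) = true
  | 0, _ => rfl
  | k + 1, hk => by
    have ih := ok_nfk e k (by omega)
    rw [nfk]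
    cases Nat.testBit e k with
    | false => exact ih
    | true =>
      rw [cond_true, ok, List.all_cons, Bool.and_eq_true]
      refine ⟨?_, ih⟩
      simpa [Nat.blt] using lt_lt k (by omega)

theorem ok_nf (e : ℕ) : ok (nf e) = true := ok_nfk e 7 le_rfl

/-- the generators of the 2-subgroup -/
def gT : Set K0 := {g | ∃ k < 7, g = le (lt k)}

/-- the 2-subgroup -/
def T : Subgroup K0 := Subgroup.closure gT

theorem mem_nf {g : K0} (hg : g ∈ T) : ∃ e < 128, g = wd (nf e) := by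
  have h0 : (1 : K0) = wd (nf 0) := by
    have : nf 0 = [] := by decide
    rw [this, wd_nil]
  refine Subgroup.closure_induction_left (p := fun g _ => ∃ e < 128, g = wd (nf e)) ⟨0, by norm_num, h0⟩ ?_ ?_ hg
  · rintro x ⟨k, hk, rfl⟩ y _ ⟨e, he, rfl⟩
    have h1 := List.all_eq_true.1 (List.all_eq_true.1 chkmt k (List.mem_range.2 hk)) e (List.mem_range.2 he)
    rw [Bool.and_eq_true] at h1
    have h2 : look 7 (Data.mt.getD k 0) e < 128 := by simpa [Nat.blt] using h1.1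
    refine ⟨look 7 (Data.mt.getD k 0) e, h2, ?_⟩
    rw [← eqw_spec h1.2, wd_cons]
  · rintro x ⟨k, hk, rfl⟩ y _ ⟨e, he, rfl⟩
    have h1 := List.all_eq_true.1 (List.all_eq_true.1 chkmti k (List.mem_range.2 hk)) e (List.mem_range.2 he)
    rw [Bool.and_eq_true] at h1
    have h2 : look 7 (Data.mti.getD k 0) e < 128 := by simpa [Nat.blt] using h1.1
    refine ⟨look 7 (Data.mti.getD k 0) e, h2, ?_⟩
    rw [← eqw_spec h1.2, wd_cons, inv_mul_cancel_left]

theorem nf_mem (e : ℕ) : wd (nf e) ∈ T := by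
  have h : ∀ k ≤ 7, wd (nfk e k) ∈ T := by
    intro k
    induction k with
    | zero => intro _; exact T.one_mem
    | succ k ih =>
      intro hk
      rw [nfk]
      cases Nat.testBit e k with
      | false => exact ih (by omega)
      | true =>
        rw [cond_true, wd_cons]
        exact T.mul_mem (Subgroup.subset_closure ⟨k, by omega, rfl⟩) (ih (by omega))
  exact h 7 le_rfl

theorem card_T : Nat.card T = 128 := by
  apply le_antisymm
  · have h1 : Function.Surjective (fun e : Fin 128 => (⟨wd (nf e), nf_mem e⟩ : T)) := by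
      rintro ⟨g, hg⟩
      obtain ⟨e, he, rfl⟩ := mem_nf hg
      exact ⟨⟨e, he⟩, rfl⟩
    have h2 := Nat.card_le_card_of_surjective _ h1
    have h3 : Nat.card (Fin 128) = 128 := by simp
    rwa [h3] at h2
  · have h1 : Function.Injective (fun e : Fin 128 => (⟨wd (nf e), nf_mem e⟩ : T)) := by
      intro e f hef
      have h2 : wd (nf e) = wd (nf f) := congrArg Subtype.val hef
      have h3 : ∀ x : Fin 280, evalWord 9 tabs (nf e) x = evalWord 9 tabs (nf f) x := by
        intro x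
        rw [← wd_apply (ok_nf e), ← wd_apply (ok_nf f), h2]
      have h4 : code e = code f := by
        have e1 := h3 b1
        have e2 := h3 b2
        have e3 := h3 b3
        change evalWord 9 tabs (nf e) 10 = evalWord 9 tabs (nf f) 10 at e1
        change evalWord 9 tabs (nf e) 88 = evalWord 9 tabs (nf f) 88 at e2
        change evalWord 9 tabs (nf e) 0 = evalWord 9 tabs (nf f) 0 at e3
        rw [code, code, e1, e2, e3]
      have h5 := List.inj_on_of_nodup_map chkcode (List.mem_range.2 e.2) (List.mem_range.2 f.2) h4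
      exact Fin.ext h5
    have h2 := Nat.card_le_card_of_injective _ h1
    have h3 : Nat.card (Fin 128) = 128 := by simp
    rwa [h3] at h2

theorem isPGroup_T : IsPGroup 2 T := IsPGroup.of_card (n := 7) (by rw [card_T]; norm_num)

theorem index_T : ¬ 2 ∣ T.index := by
  have h1 := T.card_mul_index
  rw [card_T, card_K0] at h1
  omega

/-- Every 2-element is conjugate into `T`. -/
theorem exists_conj {x : K0} (hx : x * x = 1) : ∃ g : K0, g * x * g⁻¹ ∈ T := by
  have : Fact (Nat.Prime 2) := ⟨Nat.prime_two⟩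
  have h1 : IsPGroup 2 (Subgroup.zpowers x) := by
    intro y
    obtain ⟨k, hk⟩ := Subgroup.mem_zpowers_iff.1 y.2
    refine ⟨1, Subtype.ext ?_⟩
    rw [pow_one, SubgroupClass.coe_pow, ← hk, ← zpow_natCast, ← zpow_mul, mul_comm, zpow_mul, zpow_natCast, pow_two,
      hx, one_zpow]
    rfl
  obtain ⟨P, hP⟩ := h1.exists_le_sylow
  let Q : Sylow 2 K0 := isPGroup_T.toSylow index_T
  obtain ⟨g, hg⟩ := MulAction.exists_smul_eq K0 P Q
  refine ⟨g, ?_⟩
  have h2 : x ∈ (P : Subgroup K0) := hP (Subgroup.mem_zpowers x)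
  have h3 : (Q : Subgroup K0) = T := rfl
  rw [← h3, ← hg]
  exact ⟨x, h2, rfl⟩

/-- **One class of involutions.** -/
theorem exists_B {x : K0} (hx1 : x ≠ 1) (hx : x * x = 1) : ∃ g : K0, g * x * g⁻¹ = le 1 := by
  obtain ⟨g, hg⟩ := exists_conj hx
  obtain ⟨e, he, h1⟩ := mem_nf hg
  have h2 := List.all_eq_true.1 chkc e (List.mem_range.2 he)
  rw [Bool.or_eq_true, Bool.or_eq_true, Bool.not_eq_true'] at h2
  have hxx : (g * x * g⁻¹) * (g * x * g⁻¹) = 1 := by
    calc (g * x * g⁻¹) * (g * x * g⁻¹) = g * (x * x) * g⁻¹ := by group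
      _ = 1 := by rw [hx, mul_one, mul_inv_cancel]
  rcases h2 with h2 | h2 | h2
  · exfalso
    have h3 : e = 0 := Nat.eq_of_beq_eq_true h2
    subst h3
    have h4 : g * x * g⁻¹ = 1 := h1
    apply hx1
    calc x = g⁻¹ * (g * x * g⁻¹) * g := by group
      _ = 1 := by rw [h4, mul_one, inv_mul_cancel]
  · exfalso
    rw [h1, ← wd_append, ← wd_nil] at hxx
    rw [eq3_of_eq (ok_append (ok_nf e) (ok_nf e)) rfl hxx] at h2
    exact Bool.noConfusion h2
  · have h3 := eqw_spec h2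
    rw [wd_append, wd_cons] at h3
    refine ⟨wd (cws.getD e []) * g, ?_⟩
    calc wd (cws.getD e []) * g * x * (wd (cws.getD e []) * g)⁻¹
        = wd (cws.getD e []) * (g * x * g⁻¹) * (wd (cws.getD e []))⁻¹ := by group
      _ = le 1 := by rw [h1, h3, mul_inv_cancel_right]

/-! ### The normal elementary abelian subgroups of `C(B)` -/

theorem T_comm {g : K0} (hg : g ∈ T) : g * le 1 = le 1 * g := by
  have h1 : T ≤ Subgroup.centralizer {le 1} := by
    rw [T, Subgroup.closure_le]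
    rintro _ ⟨k, hk, rfl⟩
    have h2 := eqw_spec (List.all_eq_true.1 chkB k (List.mem_range.2 hk))
    rw [wd_cons, wd_single, wd_cons, wd_single] at h2
    exact Subgroup.mem_centralizer_singleton_iff.2 h2
  exact Subgroup.mem_centralizer_singleton_iff.1 (h1 hg)

theorem normEl_B (N : Subgroup K0) (h1 : ∀ x ∈ N, x * le 1 = le 1 * x)
    (h2 : ∀ c : K0, c * le 1 = le 1 * c → ∀ x ∈ N, c * x * c⁻¹ ∈ N) (h3 : ∀ x ∈ N, x * x = 1) : Nat.card N ≤ 2 := by
  have : Fact (Nat.Prime 2) := ⟨Nat.prime_two⟩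
  -- `N ≤ T`
  have hN : IsPGroup 2 N := fun x => ⟨1, Subtype.ext (by rw [pow_one, pow_two]; exact h3 x x.2)⟩
  have hle : N ≤ T := by
    have h4 : T ≤ Subgroup.normalizer (N : Set K0) := by
      intro t ht
      rw [Subgroup.mem_normalizer_iff]
      intro x
      refine ⟨fun hx => h2 t (T_comm ht) x hx, fun hx => ?_⟩
      have h5 := h2 t⁻¹ (T_comm (T.inv_mem ht)) _ hx
      have h6 : t⁻¹ * (t * x * t⁻¹) * t⁻¹⁻¹ = x := by group
      rwa [h6] at h5
    have h5 : IsPGroup 2 (T ⊔ N : Subgroup K0) := isPGroup_T.to_sup_of_normal_right' hN h4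
    have h6 : T ⊔ N = T := (isPGroup_T.toSylow index_T).is_maximal' h5 le_sup_left
    rw [← h6]
    exact le_sup_right
  have hkey : ∀ x ∈ N, x = 1 ∨ x = le 1 := by
    intro x hx
    obtain ⟨e, he, rfl⟩ := mem_nf (hle hx)
    have h4 := List.all_eq_true.1 chkn e (List.mem_range.2 he)
    rw [Bool.or_eq_true, Bool.or_eq_true, Bool.or_eq_true, Bool.not_eq_true', Bool.not_eq_true'] at h4
    rcases h4 with h4 | h4 | h4 | h4
    · have h5 : e = 0 := Nat.eq_of_beq_eq_true h4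
      subst h5
      exact Or.inl rfl
    · have h5 : e = 1 := Nat.eq_of_beq_eq_true h4
      subst h5
      right
      have h6 : nf 1 = [1] := by decide
      rw [h6, wd_single]
    · exfalso
      have h5 := h3 _ hx
      rw [← wd_append, ← wd_nil] at h5
      rw [eq3_of_eq (ok_append (ok_nf e) (ok_nf e)) rfl h5] at h4
      exact Bool.noConfusion h4
    · exfalso
      have hc : wd cw * le 1 = le 1 * wd cw := by
        have h5 := eqw_spec chkcB
        rwa [wd_append, wd_single, wd_cons] at h5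
      have hci : wd cwi = (wd cw)⁻¹ := by
        have h5 := eqw_spec chkci
        rw [wd_append, wd_nil] at h5
        exact eq_inv_of_mul_eq_one_right h5
      have h5 := h2 _ hc _ hx
      -- the two elements of `N` commute
      have h6 : wd cw * wd (nf e) * (wd cw)⁻¹ * wd (nf e) = wd (nf e) * (wd cw * wd (nf e) * (wd cw)⁻¹) := by
        have e1 := h3 _ h5
        have e2 := h3 _ hx
        have e3 := h3 _ (N.mul_mem h5 hx)
        have f1 := inv_eq_of_mul_eq_one_left e1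
        have f2 := inv_eq_of_mul_eq_one_left e2
        have f3 := inv_eq_of_mul_eq_one_left e3
        rw [mul_inv_rev, f1, f2] at f3
        exact f3.symm
      have okc : ok cw = true := by decide
      have okci : ok cwi = true := by decide
      have h7 : eq3 (cw ++ (nf e ++ (cwi ++ nf e))) (nf e ++ (cw ++ (nf e ++ cwi))) = true := by
        refine eq3_of_eq (ok_append okc (ok_append (ok_nf e) (ok_append okci (ok_nf e))))
          (ok_append (ok_nf e) (ok_append okc (ok_append (ok_nf e) okci))) ?_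
        simp only [wd_append, hci]
        rw [← mul_assoc, ← mul_assoc, h6]
        group
      rw [h7] at h4
      exact Bool.noConfusion h4
  have h4 : (N : Set K0) ⊆ {1, le 1} := fun x hx => hkey x hx
  have h5 : Nat.card N ≤ Set.ncard ({1, le 1} : Set K0) := by
    rw [← SetLike.coe_sort_coe, Nat.card_coe_set_eq]
    exact Set.ncard_le_ncard h4 (Set.toFinite _)
  refine h5.trans ((Set.ncard_insert_le _ _).trans ?_)
  rw [Set.ncard_singleton]

/-- **The normal elementary abelian 2-subgroups of the centraliser of an involution.** -/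
theorem normEl : NormEl K0 := by
  intro z hz1 hzz N h1 h2 h3
  obtain ⟨g, hg⟩ := exists_B hz1 hzz
  have h4 := normEl_B (N.map (MulAut.conj g).toMonoidHom) (by
    rintro _ ⟨x, hx, rfl⟩
    show g * x * g⁻¹ * le 1 = le 1 * (g * x * g⁻¹)
    rw [← hg]
    calc g * x * g⁻¹ * (g * z * g⁻¹) = g * (x * z) * g⁻¹ := by group
      _ = g * (z * x) * g⁻¹ := by rw [h1 x hx]
      _ = _ := by group) (by
    intro c hc
    rintro _ ⟨x, hx, rfl⟩
    refine ⟨(g⁻¹ * c * g) * x * (g⁻¹ * c * g)⁻¹, h2 _ ?_ x hx, ?_⟩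
    · rw [← hg] at hc
      calc g⁻¹ * c * g * z = g⁻¹ * (c * (g * z * g⁻¹)) * g := by group
        _ = g⁻¹ * (g * z * g⁻¹ * c) * g := by rw [hc]
        _ = _ := by group
    · show g * (g⁻¹ * c * g * x * (g⁻¹ * c * g)⁻¹) * g⁻¹ = c * (g * x * g⁻¹) * c⁻¹
      group) (by
    rintro _ ⟨x, hx, rfl⟩
    rw [← map_mul, h3 x hx, map_one])
  rwa [← Nat.card_congr (N.equivMapOfInjective (MulAut.conj g).toMonoidHom (MulAut.conj g).injective).toEquiv] at h4

/-! ### Generation -/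

theorem closure_top {H : Subgroup K0} (h0 : le 0 ∈ H) (h1 : le 1 ∈ H) : H = ⊤ := by
  rw [eq_top_iff]
  intro g _
  have h2 : K0 ≤ H.map K0.subtype := by
    change Subgroup.closure (Set.range σ) ≤ _
    rw [Subgroup.closure_le]
    rintro _ ⟨s, rfl⟩
    fin_cases s
    · exact ⟨le 0, h0, rfl⟩
    · exact ⟨le 1, h1, rfl⟩
  obtain ⟨x, hx, hxg⟩ := h2 g.2
  have h3 : x = g := Subtype.ext hxg
  exact h3 ▸ hx

theorem wd_flatMap (f : ℕ → List ℕ) (l : List ℕ) : wd (l.flatMap f) = (l.map fun i => wd (f i)).prod := by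
  induction l with
  | nil => rfl
  | cons s l ih => rw [List.flatMap_cons, wd_append, ih, List.map_cons, List.prod_cons]

/-- **Three conjugates of an involution generate.** -/
theorem genBy : GenBy K0 3 := by
  intro x hx1 hxx
  obtain ⟨g, hg⟩ := exists_B hx1 hxx
  refine ⟨fun i => wd (av i) * g, ?_⟩
  set H := Subgroup.closure (Set.range fun i : Fin 3 => wd (av i) * g * x * (wd (av i) * g)⁻¹) with hH
  have hb : ∀ i < 3, wd (bw i) ∈ H := by
    intro i hi
    have h1 := List.all_eq_true.1 chkav i (List.mem_range.2 hi)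
    rw [Bool.and_eq_true] at h1
    have h2 := eqw_spec h1.1
    have h3 := eqw_spec h1.2
    rw [wd_append, wd_nil] at h2
    rw [wd_append, wd_cons, eq_inv_of_mul_eq_one_right h2] at h3
    refine Subgroup.subset_closure ⟨⟨i, hi⟩, ?_⟩
    show wd (av i) * g * x * (wd (av i) * g)⁻¹ = wd (bw i)
    rw [h3, ← hg]
    group
  refine closure_top ?_ ?_
  · have h1 := eqw_spec chkA
    rw [wd_single, wd_flatMap] at h1
    rw [← h1]
    refine Subgroup.list_prod_mem _ ?_
    intro y hy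
    obtain ⟨i, hi, rfl⟩ := List.mem_map.1 hy
    have h2 : ∀ i ∈ wA, i < 3 := by decide
    exact hb i (h2 i hi)
  · have h1 := hb 0 (by norm_num)
    have h2 : bw 0 = [1] := rfl
    rwa [h2, wd_single] at h1

end Cfsg.Agent.Omega.ML.UFour.Perm

end

section


/-!
# (ML), the K-list end: the row `U₄(3)` (all covers, all extensions; helper844)

`row : Dead @IsUFourThree`, the field `u43` of `RowsML`.
-/

set_option autoImplicit false

namespace Cfsg.Agent.Omega.ML.RowUFour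

open Cfsg Cfsg.Agent.Omega.KFacts Cfsg.Agent.Omega.ML.Rows Cfsg.Agent.Omega.ML.Gen3
  Cfsg.Agent.Omega.ML.UFour

universe u v

/-- **The row `u43`.** -/
theorem row : Dead.{u, v} @IsUFourThree := by
  refine dead_of_five ?_
  rintro S _ ⟨F, _, _, hF, ⟨e⟩⟩
  obtain ⟨ε⟩ := Perm.psu_iso hF
  refine ⟨GenBy.equiv (e.trans ε) Perm.genBy, ?_, (Out.rk hF).equiv e, OutLe.equiv e (Out.outLe hF),
    NormEl.equiv (e.trans ε) Perm.normEl⟩
  rw [Nat.card_congr (e.trans ε).toEquiv, Perm.card_K0]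
  norm_num

end Cfsg.Agent.Omega.ML.RowUFour

end

section


/-!
# (ML), the K-list end: `PΩ_{2m+1}(q)`, `PΩ⁺_{2m}(q)`, `PΩ⁻_{2m}(q)`, `q` odd (helper548)

`RK`: `2m + 1`, `2m`, `2m` (`TwoF.RkPOm`); `LB`: `2 q ^ (n - 4)`, `n` the dimension (`TwoF.OrthRow`); orders: S0292, S0293,
S0294.
-/

set_option autoImplicit false

universe u v w

namespace Cfsg.Agent.Omega.ML.RowOm

open Cfsg Cfsg.Agent.Omega.TwoF Cfsg.Agent.LieClassical Cfsg.Agent.LieClassical.OrthCore

/-! ### numbers -/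

theorem prod_le (q k : ℕ) : ∏ i ∈ Finset.range k, (q ^ (2 * (i + 1)) - 1) ≤ q ^ (k * (k + 1)) := by
  induction k with
  | zero => simp
  | succ k ih =>
    rw [Finset.prod_range_succ, show (k + 1) * (k + 1 + 1) = k * (k + 1) + 2 * (k + 1) by ring, pow_add]
    exact Nat.mul_le_mul ih (Nat.sub_le _ _)

theorem bd (k : ℕ) : 2 * (k + 4) ^ 2 + 5 * (k + 4) + 2 ≤ 2 * 3 ^ (2 * k + 4) := by
  induction k with
  | zero => norm_num
  | succ k ih =>
    rw [show 2 * (k + 1) + 4 = (2 * k + 4) + 2 by ring, pow_add]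
    linarith only [ih, _root_.sq_nonneg (↑k + 4 : ℤ), _root_.Nat.cast_nonneg (α := ℤ) (k)]

theorem bd' (k : ℕ) : 2 * (k + 4) ^ 2 + 3 * (k + 4) ≤ 2 * 3 ^ (2 * k + 3) := by
  induction k with
  | zero => norm_num
  | succ k ih =>
    rw [show 2 * (k + 1) + 3 = (2 * k + 3) + 2 by ring, pow_add]
    linarith only [ih, _root_.sq_nonneg (↑k + 4 : ℤ), _root_.Nat.cast_nonneg (α := ℤ) (k)]

theorem num_odd {m q : ℕ} (hm : 3 ≤ m) (hq : 3 ≤ q) :
    (2 * m + 1 - 1) * (m * (2 * m + 1) * (q - 1) + 2 * (2 * m + 1) - 1) < (2 * m + 1) * (2 * q ^ (2 * m - 3)) := by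
  rcases Nat.lt_or_ge 3 m with h | h
  · obtain ⟨k, rfl⟩ : ∃ k, m = k + 4 := ⟨m - 4, by omega⟩
    have h1 := OddExcNum.num (q := q) (c := (k + 4) * (2 * (k + 4) + 1)) (a := 2 * (k + 4) + 1) (k := 2 * k + 4) hq
      (by omega) (by have := bd k; linarith only [this])
    rwa [show 2 * (k + 4) - 3 = 2 * k + 4 + 1 by omega]
  · obtain rfl : m = 3 := by omega
    obtain ⟨r, rfl⟩ : ∃ r, q = r + 3 := ⟨q - 3, by omega⟩
    norm_num only [_root_.Nat.add_one_sub_one]
    linarith only [Nat.zero_le (r ^ 3), _root_.sq_nonneg (↑r : ℤ), _root_.Nat.cast_nonneg (α := ℤ) (r)]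

theorem num_even {m q : ℕ} (hm : 4 ≤ m) (hq : 3 ≤ q) :
    (2 * m - 1) * (m * (2 * m - 1) * (q - 1) + 2 * (2 * m) - 1) < 2 * m * (2 * q ^ (2 * m - 4)) := by
  obtain ⟨k, rfl⟩ : ∃ k, m = k + 4 := ⟨m - 4, by omega⟩
  have h1 := OddExcNum.num (q := q) (c := (k + 4) * (2 * (k + 4) - 1)) (a := 2 * (k + 4)) (k := 2 * k + 3) hq
    (by omega) (by
      have := bd' k
      have h2 : 2 * (k + 4) - 1 = 2 * k + 7 := by omega
      rw [h2]
      linarith only [this])
  rwa [show 2 * (k + 4) - 4 = 2 * k + 3 + 1 by omega]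

section

variable {F : Type w} [Field F] [Finite F]

theorem odd_card (h2 : (2 : F) ≠ 0) : Odd (Nat.card F) := by
  have := Fintype.ofFinite F
  rw [Nat.card_eq_fintype_card]
  rcases Nat.even_or_odd (Fintype.card F) with h | h
  · exfalso
    obtain ⟨k, hk⟩ := h
    obtain ⟨p, hc, hp, hp2⟩ := RowOrth.exists_char h2
    obtain ⟨n, -, hn⟩ := FiniteField.card F p
    have h3 : 2 ∣ p ^ (n : ℕ) := ⟨k, by rw [← hn, hk]; ring⟩
    exact hp2 ((Nat.prime_dvd_prime_iff_eq Nat.prime_two hp).1 (Nat.prime_two.dvd_of_dvd_pow h3)).symm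
  · exact h

theorem card_odd {m : ℕ} (hm : 3 ≤ m) (h2 : (2 : F) ≠ 0) :
    Nat.card (Cfsg.POmega F (Cfsg.quadFormOdd m F)) ≤ Nat.card F ^ (m * (2 * m + 1)) := by
  have := Fintype.ofFinite F
  have h1 := Cfsg.Agent.S0292.result (F := F) (q := Nat.card F) Nat.card_eq_fintype_card.symm (odd_card h2) m hm
  have h3 : Nat.card F ^ (m ^ 2) * ∏ i ∈ Finset.range m, (Nat.card F ^ (2 * (i + 1)) - 1) ≤
      Nat.card F ^ (m * (2 * m + 1)) := by
    rw [show m * (2 * m + 1) = m ^ 2 + m * (m + 1) by ring, pow_add]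
    exact Nat.mul_le_mul_left _ (prod_le _ _)
  omega

theorem card_plus {m : ℕ} (hm : 4 ≤ m) :
    Nat.card (Cfsg.POmega F (Cfsg.quadFormPlus m F)) ≤ Nat.card F ^ (m * (2 * m - 1)) := by
  have := Fintype.ofFinite F
  have h1 := Cfsg.Agent.S0293.result (F := F) (q := Nat.card F) Nat.card_eq_fintype_card.symm m hm
  have h3 : Nat.card F ^ (m * (m - 1)) * (Nat.card F ^ m - 1) *
      ∏ i ∈ Finset.range (m - 1), (Nat.card F ^ (2 * (i + 1)) - 1) ≤ Nat.card F ^ (m * (2 * m - 1)) := by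
    obtain ⟨k, rfl⟩ : ∃ k, m = k + 1 := ⟨m - 1, by omega⟩
    rw [Nat.add_sub_cancel, show (k + 1) * (2 * (k + 1) - 1) = (k + 1) * k + (k + 1) + k * (k + 1) by
      rw [show 2 * (k + 1) - 1 = 2 * k + 1 by omega]; ring, pow_add _ _ (k * (k + 1)),
      pow_add _ ((k + 1) * k) (k + 1)]
    exact Nat.mul_le_mul (Nat.mul_le_mul_left _ (Nat.sub_le _ _)) (prod_le _ _)
  rw [← h1] at h3
  exact (Nat.le_mul_of_pos_left _ (Nat.gcd_pos_of_pos_left _ (by norm_num))).trans h3

theorem card_minus {m : ℕ} (hm : 4 ≤ m) (h2 : (2 : F) ≠ 0) (a b : F)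
    (hab : ∀ z₁ z₂ : F, z₁ ^ 2 + a * z₁ * z₂ + b * z₂ ^ 2 = 0 → z₁ = 0 ∧ z₂ = 0) :
    Nat.card (Cfsg.POmega F (Cfsg.quadFormMinus (m - 1) F a b)) ≤ Nat.card F ^ (m * (2 * m - 1)) := by
  have := Fintype.ofFinite F
  have h1 := Cfsg.Agent.S0294.result (F := F) (q := Nat.card F) Nat.card_eq_fintype_card.symm m hm a b hab
  have h0 : 1 ≤ Nat.card F ^ m := Nat.one_le_pow _ _ Nat.card_pos
  have h3 : Nat.card F ^ (m * (m - 1)) * (Nat.card F ^ m + 1) *
      ∏ i ∈ Finset.range (m - 1), (Nat.card F ^ (2 * (i + 1)) - 1) ≤ 2 * Nat.card F ^ (m * (2 * m - 1)) := by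
    calc Nat.card F ^ (m * (m - 1)) * (Nat.card F ^ m + 1) *
          ∏ i ∈ Finset.range (m - 1), (Nat.card F ^ (2 * (i + 1)) - 1)
        ≤ Nat.card F ^ (m * (m - 1)) * (2 * Nat.card F ^ m) * Nat.card F ^ ((m - 1) * (m - 1 + 1)) :=
          Nat.mul_le_mul (Nat.mul_le_mul_left _ (by omega)) (prod_le _ _)
      _ = 2 * Nat.card F ^ (m * (2 * m - 1)) := by
          obtain ⟨k, rfl⟩ : ∃ k, m = k + 1 := ⟨m - 1, by omega⟩
          rw [Nat.add_sub_cancel, show (k + 1) * (2 * (k + 1) - 1) = (k + 1) * k + (k + 1) + k * (k + 1) by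
            rw [show 2 * (k + 1) - 1 = 2 * k + 1 by omega]; ring, pow_add _ _ (k * (k + 1)),
            pow_add _ ((k + 1) * k) (k + 1)]
          ring
  rw [← h1] at h3
  have h4 : 2 ≤ Nat.gcd 4 (Nat.card F ^ m + 1) := by
    have h5 : 2 ∣ Nat.gcd 4 (Nat.card F ^ m + 1) := by
      refine Nat.dvd_gcd (by norm_num) ?_
      have h6 := (odd_card h2).pow (n := m)
      exact (h6.add_one).two_dvd
    exact Nat.le_of_dvd (Nat.gcd_pos_of_pos_left _ (by norm_num)) h5
  have h5 := (Nat.mul_le_mul_right (Nat.card (Cfsg.POmega F (Cfsg.quadFormMinus (m - 1) F a b))) h4).trans h3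
  omega

end

/-- transport of the numerical criterion -/
theorem congr {S : Type w} [Group S] {S' : Type u} [Group S'] {n a N : ℕ} (h1 : Lie.Heis.LB.{w, u, v} S n)
    (h2 : TwoF.RK S a) (h3 : Nat.card S ≤ 2 ^ N) (h4 : (a - 1) * (N + 2 * a - 1) < a * n) (e : S ≃* S') :
    Num.NumML.{u, v} S' :=
  Num.NumML.of_card (h1.congr e) ((OddExcNum.rk_of_rk h2).of_equiv e) (by rwa [← Nat.card_congr e.toEquiv]) h4

section

variable {F : Type w} [Field F] [Finite F] {p : ℕ} [Fact p.Prime] [CharP F p]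

/-- the lower bound in the form `2 q ^ (n - 4)` -/
theorem lb {I : Type} [Fintype I] [DecidableEq I] (hp2 : p ≠ 2) (Q : QuadraticForm F (I → F)) (hQ : Nondeg Q)
    {n : ℕ} (hI : Fintype.card I = n) (hn : 7 ≤ n) :
    Lie.Heis.LB.{w, u, v} (Cfsg.POmega F (⇑Q)) (2 * Nat.card F ^ (n - 4)) := by
  subst hI
  exact (OrthEl.lb_all.{u, v, w} hp2 Q (OrthEl.nondeg_polarBilin hQ) hn).mono
    (Nat.mul_le_mul_right _ (RowOrth.two_le_orderOf Fact.out hp2))

/-- **`PΩ_{2m+1}(q)`, `q` odd, `m ≥ 3`** -/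
theorem odd (hp2 : p ≠ 2) {m : ℕ} (hm : 3 ≤ m) {S : Type u} [Group S]
    (e : Cfsg.POmega F (Cfsg.quadFormOdd m F) ≃* S) : Num.NumML.{u, v} S := by
  have h2 : (2 : F) ≠ 0 := OrthEl.two_ne hp2
  have h3 : 3 ≤ Nat.card F := RowOrth.three_le_card Fact.out hp2
  have h1 := lb.{u, v} hp2 (OrthForms.oddForm m F) (OrthForms.nondeg_oddForm m F h2) (n := 2 * m + 1)
    (by rw [Fintype.card_sum, Fintype.card_sum, Fintype.card_fin, Fintype.card_unit]; omega) (by omega)
  rw [show 2 * m + 1 - 4 = 2 * m - 3 by omega, OrthForms.coe_oddForm] at h1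
  exact congr h1 (RkPOm.odd hm h2)
    ((card_odd hm h2).trans (OddExcNum.pow_le_two_pow Nat.card_pos)) (num_odd hm h3) e

/-- **`PΩ⁺_{2m}(q)`, `q` odd, `m ≥ 4`** -/
theorem plus (hp2 : p ≠ 2) {m : ℕ} (hm : 4 ≤ m) {S : Type u} [Group S]
    (e : Cfsg.POmega F (Cfsg.quadFormPlus m F) ≃* S) : Num.NumML.{u, v} S := by
  have h2 : (2 : F) ≠ 0 := OrthEl.two_ne hp2
  have h3 : 3 ≤ Nat.card F := RowOrth.three_le_card Fact.out hp2
  have h1 := lb.{u, v} hp2 (OrthForms.plusForm m F) (OrthForms.nondeg_plusForm m F) (n := 2 * m)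
    (by rw [Fintype.card_sum, Fintype.card_fin]; omega) (by omega)
  rw [OrthForms.coe_plusForm] at h1
  exact congr h1 (RkPOm.plus hm h2)
    ((card_plus hm).trans (OddExcNum.pow_le_two_pow Nat.card_pos)) (num_even hm h3) e

/-- **`PΩ⁻_{2m}(q)`, `q` odd, `m ≥ 4`** -/
theorem minus (hp2 : p ≠ 2) {m : ℕ} (hm : 4 ≤ m) (a b : F)
    (hab : ∀ z₁ z₂ : F, z₁ ^ 2 + a * z₁ * z₂ + b * z₂ ^ 2 = 0 → z₁ = 0 ∧ z₂ = 0) {S : Type u} [Group S]
    (e : Cfsg.POmega F (Cfsg.quadFormMinus (m - 1) F a b) ≃* S) : Num.NumML.{u, v} S := by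
  have h2 : (2 : F) ≠ 0 := OrthEl.two_ne hp2
  have h3 : 3 ≤ Nat.card F := RowOrth.three_le_card Fact.out hp2
  have h1 := lb.{u, v} hp2 (OrthForms.minusForm (m - 1) F a b) (OrthForms.nondeg_minusForm (m - 1) F a b hab)
    (n := 2 * m) (by rw [Fintype.card_sum, Fintype.card_sum, Fintype.card_fin, Fintype.card_fin]; omega) (by omega)
  rw [OrthForms.coe_minusForm] at h1
  exact congr h1 (RkPOm.minus hm h2 a b hab)
    ((card_minus hm h2 a b hab).trans (OddExcNum.pow_le_two_pow Nat.card_pos)) (num_even hm h3) e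

end

/-! ### The rows -/

/-- **row `PΩ_{2m+1}(q)`, `q` odd** -/
theorem omOdd (K : Type u) [Group K] (h : KFacts.OddChar @Cfsg.IsPOmegaOddChar K) : Num.NumML.{u, v} K := by
  obtain ⟨p, hp, hp2, F, _, _, _, m, hm, -, ⟨e⟩⟩ := h
  have : Fact p.Prime := ⟨hp⟩
  exact odd hp2 hm e.symm

/-- **row `PΩ⁺_{2m}(q)`, `q` odd** -/
theorem omPlus (K : Type u) [Group K] (h : KFacts.OddChar @Cfsg.IsPOmegaPlusChar K) : Num.NumML.{u, v} K := by
  obtain ⟨p, hp, hp2, F, _, _, _, m, hm, ⟨e⟩⟩ := h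
  have : Fact p.Prime := ⟨hp⟩
  exact plus hp2 hm e.symm

/-- **row `PΩ⁻_{2m}(q)`, `q` odd** -/
theorem omMinus (K : Type u) [Group K] (h : KFacts.OddChar @Cfsg.IsPOmegaMinusChar K) : Num.NumML.{u, v} K := by
  obtain ⟨p, hp, hp2, F, _, _, _, m, a, b, hm, hab, ⟨e⟩⟩ := h
  have : Fact p.Prime := ⟨hp⟩
  exact minus hp2 hm a b hab e.symm

end Cfsg.Agent.Omega.ML.RowOm

end

end

private theorem dce_d20f98160981 : _root_.True := by
  try have : _root_.True := by simp only [_root_.Cfsg.Agent.Omega.ML.UFour.Data.nfk.eq_2]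
  try have : _root_.True := by simp only [_root_.Cfsg.Agent.Omega.ML.UFour.Perm.L1.eq_1]
  try have : _root_.True := by simp only [_root_.Cfsg.Agent.Omega.ML.UFour.Data.eqw.eq_1]
  try have : _root_.True := by simp only [_root_.Cfsg.Agent.SporadicStructure.U43Perm.gen.eq_1]
  try have : _root_.True := by simp only [_root_.Cfsg.Agent.Omega.ML.UFour.Perm.wd.eq_1]
  try have : _root_.True := by simp only [_root_.Cfsg.Agent.Omega.ML.UFour.Data.nfk.eq_def]
  try have : _root_.True := by simp only [_root_.Cfsg.Agent.Omega.ML.UFour.Data.ok.eq_1]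
  try have : _root_.True := by simp only [_root_.Cfsg.Agent.Omega.ML.UFour.Perm.T.eq_1]
  try have : _root_.True := by simp only [_root_.Cfsg.Agent.Omega.ML.UFour.Data.nfk.eq_1]
  try have : _root_.True := by simp only [_root_.Cfsg.Agent.Omega.ML.UFour.Data.code.eq_1]
  try have : _root_.True := by simp only [_root_.Cfsg.Agent.Omega.ML.UFour.Data.eq3.eq_1]
  try have : _root_.True := by simp only [_root_.Cfsg.Agent.Omega.ML.UFour.Perm.L2.eq_1]
  exact _root_.True.intro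
end
end
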